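import Cfsg.Agent.Transfer.SL23Section
import Cfsg.Agent.Transfer.QuatSylow

/-!
# An element of odd order acting nontrivially on a subgroup `Q` of a quaternion 2-group

`exists_slrel` : `Cfsg.Agent.Transfer.SL23Section.exists_slrel_of_quaternion` with the additional information that
`Q = ⟨i, j⟩` and that `t` is a power of the given element (same proof).
-/

set_option autoImplicit false

namespace Cfsg.Agent.Cit.Nil.Slrel

open Subgroup Cfsg.Agent.Transfer.SL23Recog Cfsg.Agent.Transfer.SL23Section

variable {G : Type*} [Group G]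

theorem exists_slrel [Finite G] {T : Subgroup G} {c z : G} (hT : IsQuat T c z)
    (Q : Subgroup G) (hQ : Q ≤ T) (g : G) (hgQ : g ∈ normalizer (Q : Set G))
    (hg : Odd (orderOf g)) (hgc : g ∉ centralizer (Q : Set G)) :
    ∃ i j t : G, (SLRel i j t ∧ i ^ 2 ≠ 1 ∧ Odd (orderOf t)) ∧ i ∈ Q ∧ j ∈ Q ∧ t ∈ zpowers g ∧
      Q ≤ Subgroup.closure {i, j} := by
  have htwo : ∀ x ∈ T, ∃ k : ℕ, x ^ (2 ^ k) = 1 := by
    intro x hx
    obtain ⟨k, hk⟩ := hT.two ⟨x, hx⟩
    exact ⟨k, congrArg Subtype.val hk⟩
  have hcT : zpowers c ≤ T := by rw [zpowers_le]; exact hT.c_mem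
  have hgq : ∀ q ∈ Q, g * q * g⁻¹ ∈ Q := fun q hq => ((mem_normalizer_iff.mp hgQ) q).mp hq
  -- B = Q ∩ A is cyclic
  obtain ⟨b, hb⟩ : ∃ b, zpowers b = Q ⊓ zpowers c := by
    have h1 : IsCyclic (zpowers c) := inferInstance
    have h2 : IsCyclic (Q.subgroupOf (zpowers c)) := inferInstance
    obtain ⟨b, hb⟩ := h2.exists_generator
    refine ⟨((b : zpowers c) : G), ?_⟩
    apply le_antisymm
    · rw [zpowers_le]
      exact mem_inf.mpr ⟨b.2, (b : zpowers c).2⟩
    · intro x hx
      obtain ⟨hx1, hx2⟩ := mem_inf.mp hx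
      obtain ⟨k, hk⟩ := mem_zpowers_iff.mp (hb ⟨⟨x, hx2⟩, hx1⟩)
      rw [mem_zpowers_iff]
      exact ⟨k, by simpa using congrArg (fun y : (Q.subgroupOf (zpowers c)) => ((y : zpowers c) : G)) hk⟩
  have hbB : b ∈ Q ⊓ zpowers c := by rw [← hb]; exact mem_zpowers b
  obtain ⟨hbQ, hbA⟩ := mem_inf.mp hbB
  obtain ⟨kb, hkb⟩ := htwo b (hQ hbQ)
  by_cases hcase : g * b * g⁻¹ ∈ zpowers c
  · -- then g centralises Q
    exfalso
    have hgb : Commute g b := by
      apply commute_of_zpowers hkb hg
      rw [hb]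
      exact mem_inf.mpr ⟨hgq b hbQ, hcase⟩
    have hgB : ∀ x ∈ Q, x ∈ zpowers c → Commute g x := by
      intro x hx1 hx2
      have : x ∈ zpowers b := by rw [hb]; exact mem_inf.mpr ⟨hx1, hx2⟩
      obtain ⟨k, rfl⟩ := mem_zpowers_iff.mp this
      exact hgb.zpow_right k
    apply hgc
    rw [mem_centralizer_iff]
    intro q hq
    by_cases hqA : q ∈ zpowers c
    · exact (hgB q hq hqA).eq.symm
    · have h1 : g * q * g⁻¹ ∉ zpowers c := by
        intro h1
        have h2 : Commute g (g * q * g⁻¹) := hgB _ (hgq q hq) h1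
        apply hqA
        have h3 : q = g * q * g⁻¹ := by
          have h4 := h2.eq
          have h5 : g * (g * q * g⁻¹) = g * q := by rw [h4]; group
          exact (mul_left_cancel h5).symm
        rw [h3]; exact h1
      -- u = q⁻¹ (g q g⁻¹)
      have hu : q⁻¹ * (g * q * g⁻¹) ∈ zpowers c :=
        hT.quot _ (hQ hq) _ (hQ (hgq q hq)) hqA h1
      have huQ : q⁻¹ * (g * q * g⁻¹) ∈ Q := mul_mem (inv_mem hq) (hgq q hq)
      set u := q⁻¹ * (g * q * g⁻¹) with hu_def
      have hgu : Commute g u := hgB u huQ hu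
      have h2 : g * q * g⁻¹ = q * u := by rw [hu_def]; group
      have h3 : ∀ m : ℕ, g ^ m * q * (g ^ m)⁻¹ = q * u ^ m := by
        intro m
        induction m with
        | zero => simp
        | succ m ih =>
          have : g ^ (m + 1) * q * (g ^ (m + 1))⁻¹ = g * (g ^ m * q * (g ^ m)⁻¹) * g⁻¹ := by
            rw [pow_succ']; group
          rw [this, ih]
          have h4 : g * (q * u ^ m) * g⁻¹ = (g * q * g⁻¹) * (g * u ^ m * g⁻¹) := by group
          rw [h4, h2, (hgu.pow_right m).eq, mul_inv_cancel_right, mul_assoc, pow_succ']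
      have h5 := h3 (orderOf g)
      rw [pow_orderOf_eq_one] at h5
      have h6 : u ^ orderOf g = 1 := by
        simpa using h5.symm
      obtain ⟨k, hk⟩ := htwo u (hcT hu)
      have h7 : u = 1 := by
        rw [← orderOf_eq_one_iff]
        exact Nat.eq_one_of_dvd_coprimes
          (Nat.Coprime.pow_left k (Nat.coprime_two_left.mpr hg))
          (orderOf_dvd_of_pow_eq_one hk) (orderOf_dvd_of_pow_eq_one h6)
      rw [h7, mul_one, mul_inv_eq_iff_eq_mul] at h2
      exact h2.symm
  · -- j = g b g⁻¹ is outside A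
    set j := g * b * g⁻¹ with hj_def
    have hjQ : j ∈ Q := hgq b hbQ
    have hjz : j ^ 2 = z := hT.sq j (hQ hjQ) hcase
    have hzg : g * (b ^ 2) * g⁻¹ = z := by
      rw [← hjz, hj_def, conj_pow]
    have hb4 : b ^ 4 = 1 := by
      have h1 : (g * (b ^ 2) * g⁻¹) ^ 2 = 1 := by rw [hzg, hT.z_sq]
      rw [conj_pow, ← pow_mul] at h1
      have h2 : g * b ^ (2 * 2) = g := by
        rw [mul_inv_eq_one] at h1; exact h1
      simpa using h2
    have hb2 : b ^ 2 = z := by
      rcases hT.invol (b ^ 2) (pow_mem hbA 2) (by rw [← pow_mul]; exact hb4) with h1 | h1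
      · exfalso
        apply hT.z_ne
        rw [← hzg, h1]; group
      · exact h1
    have hbne : b ^ 2 ≠ 1 := by rw [hb2]; exact hT.z_ne
    have hgz : g * z * g⁻¹ = z := by
      rw [hb2] at hzg; exact hzg
    have hQR : QRel b j :=
      { hi := hb4
        hj := by rw [hjz, hb2]
        hji := hT.conj j (hQ hjQ) hcase b hbA }
    set l := g * j * g⁻¹ with hl_def
    have hlQ : l ∈ Q := hgq j hjQ
    have hl2 : l ^ 2 = z := by
      rw [hl_def, conj_pow, hjz, hgz]
    have hbj : b ≠ j := by
      intro h1; apply hcase; rw [← h1]; exact hbA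
    have horder : g ^ (orderOf g + 1) = g := by rw [pow_succ, pow_orderOf_eq_one, one_mul]
    -- l is not in ⟨b⟩
    have hlA : l ∉ zpowers c := by
      intro hlA
      have h1 : l ∈ zpowers b := by rw [hb]; exact mem_inf.mpr ⟨hlQ, hlA⟩
      have h2 : g ^ 2 * b * (g ^ 2)⁻¹ = l := by
        rw [hl_def, hj_def]; simp [pow_succ, mul_assoc]
      have h3 : Commute (g ^ 2) b := by
        apply commute_of_zpowers hkb
        · exact Odd.of_dvd_nat hg (orderOf_pow_dvd 2)
        · rw [h2]; exact h1
      have h4 : Commute g b := by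
        obtain ⟨m, hm⟩ := hg
        have h5 : (g ^ 2) ^ (m + 1) = g := by
          rw [← pow_mul, show 2 * (m + 1) = (2 * m + 1) + 1 by ring, ← hm, horder]
        rw [← h5]
        exact h3.pow_left _
      apply hbj
      rw [hj_def, h4.eq, mul_inv_cancel_right]
    -- l is not in ⟨j⟩
    have hlj : l ∉ zpowers j := by
      intro h1
      obtain ⟨k, hk⟩ := htwo j (hQ hjQ)
      have h2 : Commute g j := commute_of_zpowers hk hg h1
      apply hbj
      have h3 : g⁻¹ * j * g = j := by
        rw [mul_assoc, ← h2.eq]; group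
      have h4 : g⁻¹ * j * g = b := by rw [hj_def]; group
      rw [← h4, h3]
    have h1 : j⁻¹ * l ∈ zpowers b := by
      rw [hb]
      exact mem_inf.mpr ⟨mul_mem (inv_mem hjQ) hlQ, hT.quot j (hQ hjQ) l (hQ hlQ) hcase hlA⟩
    obtain ⟨k, hk⟩ : ∃ k : Fin 4, b ^ (k : ℕ) = j⁻¹ * l := by
      obtain ⟨m, hm⟩ := (mem_powers_iff_mem_zpowers.mpr h1 : j⁻¹ * l ∈ Submonoid.powers b)
      exact ⟨⟨m % 4, Nat.mod_lt _ (by norm_num)⟩, by
        change b ^ (m % 4) = _
        rw [← pow_eq_pow_mod m hb4]; exact hm⟩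
    have hlk : l = j * b ^ (k : ℕ) := by rw [hk]; group
    have hQcl : ∀ x ∈ Q, ∃ y ∈ zpowers b, x = y ∨ x = j * y := by
      intro x hx
      by_cases hxA : x ∈ zpowers c
      · exact ⟨x, by rw [hb]; exact mem_inf.mpr ⟨hx, hxA⟩, Or.inl rfl⟩
      · refine ⟨j⁻¹ * x, ?_, Or.inr (by group)⟩
        rw [hb]
        exact mem_inf.mpr ⟨mul_mem (inv_mem hjQ) hx, hT.quot j (hQ hjQ) x (hQ hx) hcase hxA⟩
    fin_cases k
    · exfalso
      apply hlj
      simp only [pow_zero, mul_one] at hlk
      rw [hlk]; exact mem_zpowers j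
    · -- l = j * b
      refine ⟨b, j * b, g⁻¹, ⟨?_, hbne, by rw [orderOf_inv]; exact hg⟩, hbQ, mul_mem hjQ hbQ,
        inv_mem (mem_zpowers g), ?_⟩
      swap
      · have hbc : b ∈ Subgroup.closure ({b, j * b} : Set G) := subset_closure (by simp)
        have hjbc : j * b ∈ Subgroup.closure ({b, j * b} : Set G) := subset_closure (by simp)
        have hjc : j ∈ Subgroup.closure ({b, j * b} : Set G) := by
          have := mul_mem hjbc (inv_mem hbc)
          rwa [mul_inv_cancel_right] at this
        intro x hx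
        obtain ⟨y, hy, hxy⟩ := hQcl x hx
        have hyc : y ∈ Subgroup.closure ({b, j * b} : Set G) := (zpowers_le.2 hbc) hy
        rcases hxy with rfl | rfl
        · exact hyc
        · exact mul_mem hjc hyc
      have hlk' : l = j * b := by simpa using hlk
      have hbjb : b * j = j * b⁻¹ := by
        have := hQR.hji
        rw [mul_inv_eq_iff_eq_mul] at this
        rw [eq_mul_inv_iff_mul_eq, mul_assoc, this]; group
      have hjb2 : (j * b) ^ 2 = b ^ 2 := by
        rw [pow_two, mul_assoc, ← mul_assoc b, hbjb, inv_mul_cancel_right, ← pow_two, hQR.hj]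
      have hg1 : g * (j * b) * g⁻¹ = b := by
        have : g * (j * b) * g⁻¹ = (g * j * g⁻¹) * (g * b * g⁻¹) := by group
        rw [this, ← hl_def, ← hj_def, hlk', mul_assoc, hbjb, ← mul_assoc, ← pow_two, hQR.hj]
        group
      exact
        { hi := hb4
          hj := hjb2
          hji := by
            have : j * b * b * (j * b)⁻¹ = j * b * j⁻¹ := by group
            rw [this, hQR.hji]
          hti := by
            rw [inv_inv]
            nth_rewrite 1 [← hg1]
            group
          htj := by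
            have h5 : b * (j * b) = j := by rw [← mul_assoc, hbjb, inv_mul_cancel_right]
            rw [inv_inv, h5, ← hlk', hl_def]
            group }
    · exfalso
      apply hlj
      have : l = j ^ 3 := by
        rw [hlk]
        change j * b ^ 2 = j ^ 3
        rw [← hQR.hj]; group
      rw [this]
      exact pow_mem (mem_zpowers j) 3
    · -- l = j * b^3 = b * j
      refine ⟨b, j, g, ⟨?_, hbne, hg⟩, hbQ, hjQ, mem_zpowers g, ?_⟩
      swap
      · have hbc : b ∈ Subgroup.closure ({b, j} : Set G) := subset_closure (by simp)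
        have hjc : j ∈ Subgroup.closure ({b, j} : Set G) := subset_closure (by simp)
        intro x hx
        obtain ⟨y, hy, hxy⟩ := hQcl x hx
        have hyc : y ∈ Subgroup.closure ({b, j} : Set G) := (zpowers_le.2 hbc) hy
        rcases hxy with rfl | rfl
        · exact hyc
        · exact mul_mem hjc hyc
      have hlk' : l = b * j := by
        rw [hlk]
        change j * b ^ 3 = b * j
        rw [hQR.jpow, show 3 * 3 = 4 + 4 + 1 from rfl, pow_add, pow_add, hb4]
        group
      exact
        { toQRel := hQR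
          hti := rfl
          htj := hlk' }

end Cfsg.Agent.Cit.Nil.Slrel
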