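import Cfsg.Agent.Cit.Nil.Defs
import Cfsg.Agent.Cit.Nil.Slrel
import Cfsg.Agent.Cit.TheoremV
import Cfsg.Agent.Lib.LocalCore

/-!
# S1309, 2-nilpotent members: (C3) or an equivariant choice of `V_K`

`C3 K` : the Sylow 2-subgroup `Q` of `K` has order 8 and a 3-element of `N(K) ∩ N(Q)` acts nontrivially on `Q`.
`exists_vchoice` : for a 2-nilpotent `K` without (C3) there is a `VChoice (cls K) U`.
-/

set_option autoImplicit false
set_option linter.style.haveILetI false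
set_option linter.unusedSectionVars false

namespace Cfsg.Agent.Cit.Nil

open Subgroup Cfsg Cit
open Transfer.SL23Recog

variable {G : Type*} [Group G]

/-- **(C3)** -/
def C3 (K : Subgroup G) : Prop := ∃ Q, Syl Q K ∧ Nat.card Q = 8 ∧
  ∃ c ∈ normalizer (K : Set G), c ∈ normalizer (Q : Set G) ∧ IsPGroup 3 (zpowers c) ∧ ∃ q ∈ Q, c * q ≠ q * c

namespace VC

variable [Finite G] {K Q : Subgroup G} {c v z : G} {n : ℕ}

/-- if (C3) fails the elements of odd order of `N(K) ∩ N(Q)` centralise `Q` -/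
theorem odd_cent (hC : ¬ C3 K) (hQ : Syl Q K) (hgq : IsGQ Q) {g : G} (hgK : g ∈ normalizer (K : Set G))
    (hgQ : g ∈ normalizer (Q : Set G)) (hg : Odd (orderOf g)) : g ∈ centralizer (Q : Set G) := by
  by_contra hgc
  obtain ⟨m, hm⟩ := hgq
  obtain ⟨c, z, hq⟩ := Transfer.QuatSylow.exists_isQuat Q (m + 1) hm
  obtain ⟨i, j, t, ⟨hrel, hi2, hto⟩, hi, hj, ht, hcl⟩ := Slrel.exists_slrel hq Q le_rfl g hgQ hg hgc
  have htK : t ∈ normalizer (K : Set G) := (zpowers_le.2 hgK) ht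
  have htQ : t ∈ normalizer (Q : Set G) := (zpowers_le.2 hgQ) ht
  apply hC
  have hQe : Q = Subgroup.closure {i, j} := by
    apply le_antisymm hcl
    rw [closure_le]
    rintro x (rfl | rfl)
    · exact hi
    · exact hj
  have h8 : Nat.card Q = 8 := by rw [hQe]; exact Transfer.SL23Section.card_quaternion hrel.toQRel hi2
  -- `t ^ 3` centralises `i`
  have e1 : t * (i * j) * t⁻¹ = i := by
    have : t * (i * j) * t⁻¹ = (t * i * t⁻¹) * (t * j * t⁻¹) := by group
    rw [this, hrel.hti, hrel.htj, ← mul_assoc, hrel.toQRel.ji, mul_assoc, ← pow_two, hrel.hj, ← pow_add,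
      show 3 + 2 = 4 + 1 from rfl, pow_add, hrel.hi, one_mul, pow_one]
  have ci : t ^ 3 * i * (t ^ 3)⁻¹ = i := by
    have : t ^ 3 * i * (t ^ 3)⁻¹ = t * (t * (t * i * t⁻¹) * t⁻¹) * t⁻¹ := by
      simp [pow_succ, mul_assoc]
    rw [this, hrel.hti, hrel.htj, e1]
  have ci' : Commute (t ^ 3) i := by
    rw [mul_inv_eq_iff_eq_mul] at ci; exact ci
  have hij : j ≠ i := by
    rintro rfl
    exact Transfer.SL23Section.j_not_commute hrel.toQRel hi2 (Commute.refl _)
  -- the 3-part of `t`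
  obtain ⟨a, m', hm', ham⟩ : ∃ a m', ¬ 3 ∣ m' ∧ orderOf t = 3 ^ a * m' :=
    Nat.exists_eq_pow_mul_and_not_dvd (orderOf_pos t).ne' 3 (by norm_num)
  have hco : Nat.Coprime m' 3 := (Nat.coprime_comm.1 ((Nat.Prime.coprime_iff_not_dvd Nat.prime_three).2 hm'))
  refine ⟨Q, hQ, h8, t ^ m', pow_mem htK _, pow_mem htQ _, ?_, i, hi, ?_⟩
  · rintro ⟨_, k, rfl⟩
    refine ⟨a, Subtype.ext ?_⟩
    show ((t ^ m') ^ k) ^ 3 ^ a = 1
    rw [← zpow_natCast, ← zpow_mul, mul_comm, zpow_mul, zpow_natCast, ← pow_mul, mul_comm m', ← ham,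
      pow_orderOf_eq_one, one_zpow]
  · intro hc
    -- `t` is a product of powers of `t ^ m'` and `t ^ 3`
    have h1 : Commute t i := by
      obtain ⟨x, y, hxy⟩ : ∃ x y : ℤ, (m' : ℤ) * x + 3 * y = 1 := by
        have := Nat.gcd_eq_gcd_ab m' 3
        rw [hco] at this
        exact ⟨_, _, by exact_mod_cast this.symm⟩
      have h2 : t = (t ^ m') ^ x * (t ^ 3) ^ y := by
        rw [← zpow_natCast t m', ← zpow_natCast t 3, ← zpow_mul, ← zpow_mul, ← zpow_add]
        push_cast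
        rw [hxy, zpow_one]
      rw [h2]
      exact (Commute.zpow_left hc x).mul_left (ci'.zpow_left y)
    apply hij
    rw [← hrel.hti, h1.eq, mul_inv_cancel_right]

/-- a cyclic subgroup of order 4 of `Q` normalised by `N(K) ∩ N(Q)` -/
theorem exists_v (hC : ¬ C3 K) (hQ : Syl Q K) (hgq : IsGQ Q) :
    ∃ v ∈ Q, orderOf v = 4 ∧
      normalizer (K : Set G) ⊓ normalizer (Q : Set G) ≤ normalizer (zpowers v : Set G) := by
  haveI : Fact (Nat.Prime 2) := ⟨Nat.prime_two⟩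
  obtain ⟨N, hN⟩ : ∃ N : Subgroup G, N = normalizer (K : Set G) ⊓ normalizer (Q : Set G) := ⟨_, rfl⟩
  obtain ⟨P, hP⟩ := Hyp.exists_syl N
  have hPQ : P ≤ normalizer (Q : Set G) := by
    refine hP.1.trans ?_
    rw [hN]; exact inf_le_right
  obtain ⟨x, hx, hx4, hxc, hxP⟩ := AutQuat.IsQ.exists_cyclic (show AutQuat.IsQ Q from hgq) hP.2.1 hPQ
  -- `N = P C_N(Q)`
  obtain ⟨C, hCdef⟩ : ∃ C : Subgroup G, C = N ⊓ centralizer (Q : Set G) := ⟨_, rfl⟩
  have hCN : C ≤ N := by rw [hCdef]; exact inf_le_left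
  have hNC : N ≤ normalizer (C : Set G) := by
    intro g hg
    have hgQ : g ∈ normalizer (Q : Set G) := by
      rw [hN] at hg; exact hg.2
    have hgQ' : g⁻¹ ∈ normalizer (Q : Set G) := inv_mem hgQ
    rw [mem_normalizer_iff_cj]
    have key : ∀ g ∈ N, g ∈ normalizer (Q : Set G) → cj g C ≤ C := by
      intro g hg hgQ y hy
      rw [mem_cj, hCdef] at hy
      rw [hCdef]
      refine ⟨?_, ?_⟩
      · have := N.mul_mem (N.mul_mem hg hy.1) (N.inv_mem hg)
        have e : g * (g⁻¹ * y * g) * g⁻¹ = y := by group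
        rwa [e] at this
      · refine mem_centralizer_iff.2 ?_
        intro q hq
        have h1 : g⁻¹ * q * g ∈ Q := by
          have := (mem_normalizer_iff.1 (inv_mem hgQ) q).1 hq
          rwa [inv_inv] at this
        have h2 := mem_centralizer_iff.1 hy.2 _ h1
        have h3 : g * ((g⁻¹ * q * g) * (g⁻¹ * y * g)) * g⁻¹ = g * ((g⁻¹ * y * g) * (g⁻¹ * q * g)) * g⁻¹ := by
          rw [h2]
        have e1 : g * ((g⁻¹ * q * g) * (g⁻¹ * y * g)) * g⁻¹ = q * y := by group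
        have e2 : g * ((g⁻¹ * y * g) * (g⁻¹ * q * g)) * g⁻¹ = y * q := by group
        rwa [e1, e2] at h3
    apply le_antisymm (key g hg hgQ)
    have h1 := cj_mono g (key g⁻¹ (inv_mem hg) hgQ')
    rwa [cj_cj_inv] at h1
  have hind : ∃ k, C.relIndex N = 2 ^ k := by
    have hn : (C.subgroupOf N).Normal := (normal_subgroupOf_iff_le_normalizer hCN).2 hNC
    have h2 : IsPGroup 2 (N ⧸ C.subgroupOf N) := by
      intro y
      obtain ⟨g, rfl⟩ := QuotientGroup.mk'_surjective (C.subgroupOf N) y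
      obtain ⟨k, m, hm, hkm⟩ := Nat.exists_eq_two_pow_mul_odd (orderOf_pos g).ne'
      refine ⟨k, ?_⟩
      rw [← map_pow]
      show ((g ^ 2 ^ k : N) : N ⧸ C.subgroupOf N) = 1
      rw [QuotientGroup.eq_one_iff, mem_subgroupOf, hCdef]
      refine ⟨(g ^ 2 ^ k).2, ?_⟩
      have h3 : ((g ^ 2 ^ k : N) : G) ∈ normalizer (K : Set G) ⊓ normalizer (Q : Set G) := by
        rw [← hN]; exact (g ^ 2 ^ k).2
      refine odd_cent hC hQ hgq h3.1 h3.2 ?_
      rw [Subgroup.orderOf_coe]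
      have h4 : (g ^ 2 ^ k) ^ m = 1 := by rw [← pow_mul, ← hkm, pow_orderOf_eq_one]
      exact Odd.of_dvd_nat hm (orderOf_dvd_of_pow_eq_one h4)
    obtain ⟨k, hk⟩ := IsPGroup.iff_card.1 h2
    exact ⟨k, hk⟩
  have hPC : N ≤ P ⊔ C := by
    have h2 : (P ⊔ C).relIndex N ∣ P.relIndex N := relIndex_dvd_of_le_left N le_sup_left
    have h3 : (P ⊔ C).relIndex N ∣ C.relIndex N := relIndex_dvd_of_le_left N le_sup_right
    obtain ⟨k, hk⟩ := hind
    rw [hk] at h3
    obtain ⟨l, -, hl⟩ := (Nat.dvd_prime_pow Nat.prime_two).1 h3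
    have h6 : (P ⊔ C).relIndex N = 1 := by
      rcases Nat.eq_zero_or_pos l with rfl | hl0
      · simpa using hl
      · exfalso
        apply hP.2.2
        rw [hl] at h2
        exact (dvd_pow_self 2 hl0.ne').trans h2
    exact relIndex_eq_one.1 h6
  have hxn : ∀ g ∈ N, g * x * g⁻¹ ∈ zpowers x := by
    have h1 : P ⊔ C ≤ normalizer (zpowers x : Set G) := by
      refine sup_le ?_ ?_
      · intro w hw
        rw [mem_normalizer_iff_cj, cj_def, MonoidHom.map_zpowers]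
        apply eq_of_le_of_card_ge
        · rw [zpowers_le]; exact hxP w hw
        · rw [Nat.card_zpowers, Nat.card_zpowers]
          exact ((MulAut.conj w).orderOf_eq x).symm.le
      · intro w hw
        rw [hCdef] at hw
        have h2 := mem_centralizer_iff.1 hw.2 x hx
        rw [mem_normalizer_iff_cj, cj_def, MonoidHom.map_zpowers]
        congr 1
        show w * x * w⁻¹ = x
        rw [← h2, mul_inv_cancel_right]
    intro g hg
    exact (mem_normalizer_iff.1 (h1 (hPC hg)) x).1 (mem_zpowers x)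
  -- the subgroup of order 4
  obtain ⟨m, hgq'⟩ := id hgq
  have hcard : Nat.card Q = 4 * 2 ^ (m + 1) := by
    obtain ⟨e⟩ := hgq'
    rw [Nat.card_congr e.toEquiv, Nat.card_eq_fintype_card, QuaternionGroup.card]
  have hox : orderOf x = 4 * 2 ^ m := by
    rw [hcard, pow_succ] at hxc
    omega
  refine ⟨x ^ 2 ^ m, Q.pow_mem hx _, ?_, ?_⟩
  · rw [orderOf_pow' x (by positivity), hox, Nat.gcd_eq_right (Dvd.intro_left 4 rfl)]
    exact Nat.mul_div_cancel _ (by positivity)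
  · rw [← hN]
    intro g hg
    rw [mem_normalizer_iff_cj, cj_def, MonoidHom.map_zpowers]
    apply eq_of_le_of_card_ge
    · rw [zpowers_le]
      show g * x ^ 2 ^ m * g⁻¹ ∈ _
      obtain ⟨k, hk⟩ := mem_zpowers_iff.1 (hxn g hg)
      have h1 : g * x ^ 2 ^ m * g⁻¹ = (x ^ 2 ^ m) ^ k := by
        rw [← _root_.conj_pow, ← hk, ← zpow_natCast (x ^ k), ← zpow_natCast x, ← zpow_mul, ← zpow_mul, mul_comm]
      rw [h1]
      exact zpow_mem (mem_zpowers _) k
    · rw [Nat.card_zpowers, Nat.card_zpowers]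
      exact ((MulAut.conj g).orderOf_eq _).symm.le

/-- `N(K) ≤ N(⟨v⟩ O(K))` -/
theorem normalizer_le (hK : NilK K) (hQ : Syl Q K)
    (hv : normalizer (K : Set G) ⊓ normalizer (Q : Set G) ≤ normalizer (zpowers v : Set G)) :
    normalizer (K : Set G) ≤ normalizer ((zpowers v ⊔ OO K : Subgroup G) : Set G) := by
  have hOn : normalizer (K : Set G) ≤ normalizer (OO K : Set G) := by
    intro g hg
    rw [mem_normalizer_iff_cj, ← OO_cj, mem_normalizer_iff_cj.1 hg]
  have h1 : normalizer (K : Set G) ⊓ normalizer (Q : Set G) ≤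
      normalizer ((zpowers v ⊔ OO K : Subgroup G) : Set G) := by
    intro g hg
    rw [mem_normalizer_iff_cj, cj_sup, mem_normalizer_iff_cj.1 (hv hg), mem_normalizer_iff_cj.1 (hOn hg.1)]
  have h2 : OO K ≤ normalizer ((zpowers v ⊔ OO K : Subgroup G) : Set G) := le_sup_right.trans le_normalizer
  have h3 : K ≤ normalizer ((zpowers v ⊔ OO K : Subgroup G) : Set G) := by
    refine (hK Q hQ).trans (sup_le h2 ?_)
    exact (le_inf (hQ.1.trans le_normalizer) le_normalizer).trans h1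
  intro g hg
  have h4 : Syl (cj g Q) K := by
    have := hQ.cj g
    rwa [mem_normalizer_iff_cj.1 hg] at this
  obtain ⟨k, hk, hkQ⟩ := h4.exists_conj hQ
  have h5 : k * g ∈ normalizer (K : Set G) ⊓ normalizer (Q : Set G) := by
    refine ⟨mul_mem (le_normalizer hk) hg, mem_normalizer_iff_cj.2 ?_⟩
    rw [cj_mul, hkQ]
  have h6 := mul_mem (inv_mem (h3 hk)) (h1 h5)
  rwa [inv_mul_cancel_left] at h6

open Classical in
/-- the equivariant extension of `K ↦ V` to the class of `K` -/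
noncomputable def Uc (K V L : Subgroup G) : Subgroup G :=
  if h : ∃ g, L = cj g K then cj h.choose V else ⊥

theorem Uc_cj {V : Subgroup G} (hN : normalizer (K : Set G) ≤ normalizer (V : Set G)) (g : G) :
    Uc K V (cj g K) = cj g V := by
  have hex : ∃ h : G, cj g K = cj h K := ⟨g, rfl⟩
  have h1 : Uc K V (cj g K) = cj hex.choose V := by
    unfold Uc
    rw [dif_pos hex]
  rw [h1]
  have h2 := hex.choose_spec
  set h := hex.choose with hh
  have h3 : cj (g⁻¹ * h) K = K := by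
    rw [cj_mul, ← h2, cj_inv_cj]
  have h4 := mem_normalizer_iff_cj.1 (hN (mem_normalizer_iff_cj.2 h3))
  rw [cj_mul] at h4
  have h5 := congrArg (cj g) h4
  rwa [cj_cj_inv] at h5

theorem card_sup (hvK : v ∈ K) (hv4 : orderOf v = 4) :
    Nat.card (zpowers v ⊔ OO K : Subgroup G) = 4 * Nat.card (OO K) := by
  have hN : (oddCore K).Normal := Lib.Cores.pPrimeCore_normal 2
  have h1 : Nat.card (zpowers (⟨v, hvK⟩ : K)) = 4 := by
    rw [Nat.card_zpowers, Subgroup.orderOf_mk, hv4]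
  have h2 : (Nat.card (zpowers (⟨v, hvK⟩ : K))).Coprime (Nat.card (oddCore K)) := by
    rw [h1, show (4 : ℕ) = 2 ^ 2 from rfl]
    exact Nat.Coprime.pow_left _ (Nat.Coprime.symm (Lib.Cores.pPrimeCore_coprime (G := K) 2))
  have h3 := Lib.LocalCore.card_sup_of_coprime (zpowers (⟨v, hvK⟩ : K)) (oddCore K) h2
  have h4 : (zpowers (⟨v, hvK⟩ : K) ⊔ oddCore K).map K.subtype = zpowers v ⊔ OO K := by
    rw [Subgroup.map_sup, MonoidHom.map_zpowers]
    rfl
  rw [← h4, card_map_of_injective K.subtype_injective, h3, h1, OO, card_map_of_injective K.subtype_injective]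

theorem vchoice {V : Subgroup G} (hN : normalizer (K : Set G) ≤ normalizer (V : Set G)) (hVK : V ≤ K)
    (hO : OO K ≤ V) (hcard : Nat.card V = 4 * Nat.card (OO K)) (hv : ∃ v ∈ V, orderOf v = 4) :
    VChoice (cls K) (Uc K V) := by
  refine ⟨?_, ?_, ?_, ?_, ?_⟩
  · rintro L ⟨g, rfl⟩
    rw [Uc_cj hN]
    exact cj_mono g hVK
  · rintro L ⟨g, rfl⟩ h
    rw [← cj_mul, Uc_cj hN, Uc_cj hN, cj_mul]
  · rintro L ⟨g, rfl⟩
    rw [Uc_cj hN, OO_cj]
    exact cj_mono g hO
  · rintro L ⟨g, rfl⟩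
    rw [Uc_cj hN, OO_cj, card_cj, card_cj, hcard]
  · rintro L ⟨g, rfl⟩
    obtain ⟨v, hv, hv4⟩ := hv
    rw [Uc_cj hN]
    exact ⟨g * v * g⁻¹, conj_mem_cj hv, by rw [← hv4]; exact (MulAut.conj g).orderOf_eq v⟩

end VC

/-- **(C3) or (CV)** -/
theorem exists_vchoice [Finite G] {Om : Set (Subgroup G)} (h : Hyp Om) {K : Subgroup G} (hK : K ∈ Om)
    (hn : NilK K) (hC : ¬ C3 K) : ∃ U, VChoice (cls K) U := by
  obtain ⟨Q, hQ⟩ := Hyp.exists_syl K
  obtain ⟨v, hv, hv4, hvN⟩ := VC.exists_v hC hQ (h.isGQ hK hQ)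
  exact ⟨_, VC.vchoice (VC.normalizer_le hn hQ hvN) (sup_le (zpowers_le.2 (hQ.1 hv)) (OO_le K)) le_sup_right
    (VC.card_sup (hQ.1 hv) hv4) ⟨v, mem_sup_left (mem_zpowers v), hv4⟩⟩

end Cfsg.Agent.Cit.Nil
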