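import Cfsg.Agent.Cit.Nil.SdEnd

/-!
# The two four-groups of a Sylow 2-subgroup of `A₇` are not interchanged by an automorphism

`false_of_aut`: `X ≃* A₇`, `c ∈ X` of order `4`, `t` an involution inverting `c`; no automorphism of `X` fixes `c²` and
maps `t` to `c t`: one of the four-groups `⟨c², t⟩`, `⟨c², c t⟩` is centralised by an element of order `3`, the
centraliser of the other one has exponent `2`.
`false_of_dih`: so the dihedral case of `SdEnd.main` does not occur for `X ≃* A₇`.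
(Section 5.4 of blueprints/CIT-6b-One-helper454.md.)
-/

set_option autoImplicit false
set_option linter.style.haveILetI false

namespace Cfsg.Agent.Cit.Nil.ASeven

open Subgroup Equiv

section perm

/-- `(0 1 2 3)(4 5)` -/
def c0 : Perm (Fin 7) := ⟨![1, 2, 3, 0, 5, 4, 6], ![3, 0, 1, 2, 5, 4, 6], by decide, by decide⟩

/-- `(0 2)(1 3)` -/
def z0 : Perm (Fin 7) := ⟨![2, 3, 0, 1, 4, 5, 6], ![2, 3, 0, 1, 4, 5, 6], by decide, by decide⟩

/-- `(1 3)(4 5)` -/
def b0 : Perm (Fin 7) := ⟨![0, 3, 2, 1, 5, 4, 6], ![0, 3, 2, 1, 5, 4, 6], by decide, by decide⟩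

/-- `(0 1)(2 3)` -/
def a1 : Perm (Fin 7) := ⟨![1, 0, 3, 2, 4, 5, 6], ![1, 0, 3, 2, 4, 5, 6], by decide, by decide⟩

/-- `(0 2)(4 5)` -/
def b2 : Perm (Fin 7) := ⟨![2, 1, 0, 3, 5, 4, 6], ![2, 1, 0, 3, 5, 4, 6], by decide, by decide⟩

/-- `(0 3)(1 2)` -/
def a3 : Perm (Fin 7) := ⟨![3, 2, 1, 0, 4, 5, 6], ![3, 2, 1, 0, 4, 5, 6], by decide, by decide⟩

/-- `(4 5 6)` -/
def d0 : Perm (Fin 7) := ⟨![0, 1, 2, 3, 5, 6, 4], ![0, 1, 2, 3, 6, 4, 5], by decide, by decide⟩

theorem c0_c0 : c0 * c0 = z0 := by decide +kernel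
theorem c0_b0 : c0 * b0 = a1 := by decide +kernel
theorem c0_a1 : c0 * a1 = b2 := by decide +kernel
theorem c0_b2 : c0 * b2 = a3 := by decide +kernel
theorem c0_a3 : c0 * a3 = b0 := by decide +kernel
theorem d0_z0 : d0 * z0 = z0 * d0 := by decide +kernel
theorem d0_a1 : d0 * a1 = a1 * d0 := by decide +kernel
theorem d0_a3 : d0 * a3 = a3 * d0 := by decide +kernel
theorem d0_sq : d0 * d0 ≠ 1 := by decide +kernel
theorem d0_sign : Perm.sign d0 = 1 := by decide +kernel
theorem z0_sq : z0 * z0 = 1 := by decide +kernel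
theorem b0_sq : b0 * b0 = 1 := by decide +kernel
theorem b2_sq : b2 * b2 = 1 := by decide +kernel
theorem c0_type : c0.cycleType = {4, 2} := by decide +kernel

theorem exists_conj_c0 {x : Perm (Fin 7)} (hs : Perm.sign x = 1) (h1 : x * x ≠ 1) (h2 : x * x * (x * x) = 1) :
    ∃ σ : Perm (Fin 7), σ * x * σ⁻¹ = c0 := by
  suffices h : IsConj x c0 from isConj_iff.1 h
  rw [Perm.isConj_iff_cycleType_eq, c0_type]
  have hparts : ∀ n ∈ x.cycleType, n = 4 ∨ n = 2 := by
    intro n hn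
    have h4 : n ∣ orderOf x := Perm.dvd_of_mem_cycleType hn
    have h5 : n ∣ 4 := by
      refine dvd_trans h4 (orderOf_dvd_of_pow_eq_one ?_)
      rw [show (4 : ℕ) = 2 + 2 from rfl, pow_add, sq]
      exact h2
    have h6 := Perm.two_le_of_mem_cycleType hn
    have h7 : n ≤ 4 := Nat.le_of_dvd (by norm_num) h5
    interval_cases n
    · right; rfl
    · exact absurd h5 (by decide)
    · left; rfl
  have hsum : x.cycleType.sum ≤ 7 := by
    rw [Perm.sum_cycleType]
    exact (Finset.card_le_univ _).trans (by simp)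
  obtain ⟨a, ha⟩ : ∃ a, (x.cycleType.filter (fun n => n = 4)) = Multiset.replicate a 4 :=
    ⟨_, Multiset.eq_replicate_of_mem (fun n hn => (Multiset.mem_filter.1 hn).2)⟩
  obtain ⟨b, hb⟩ : ∃ b, (x.cycleType.filter (fun n => ¬ n = 4)) = Multiset.replicate b 2 :=
    ⟨_, Multiset.eq_replicate_of_mem (fun n hn => by
      obtain ⟨h3, h4⟩ := Multiset.mem_filter.1 hn
      exact (hparts n h3).resolve_left h4)⟩
  have hdec : x.cycleType = Multiset.replicate a 4 + Multiset.replicate b 2 := by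
    rw [← ha, ← hb, Multiset.filter_add_not]
  have hsign := hs
  rw [Perm.sign_of_cycleType, hdec] at hsign
  rw [hdec] at hsum
  rw [Multiset.sum_add, Multiset.sum_replicate, Multiset.sum_replicate, smul_eq_mul, smul_eq_mul] at hsum hsign
  rw [Multiset.card_add, Multiset.card_replicate, Multiset.card_replicate] at hsign
  have ha0 : a ≠ 0 := by
    rintro rfl
    apply h1
    have h3 : ∀ n ∈ x.cycleType, n ∣ 2 := by
      intro n hn
      rw [hdec, Multiset.replicate_zero, zero_add] at hn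
      rw [Multiset.eq_of_mem_replicate hn]
    have h4 : orderOf x ∣ 2 := by
      rw [← Perm.lcm_cycleType]
      exact Multiset.lcm_dvd.2 h3
    have h5 := orderOf_dvd_iff_pow_eq_one.1 h4
    rwa [sq] at h5
  have ha1 : a = 1 := by omega
  subst ha1
  have hb1 : b ≤ 1 := by omega
  rw [hdec]
  interval_cases b
  · exact absurd hsign (by decide)
  · rfl

/-- the function with `f 0 = k`, `f 4 = m`, `f 6 = j` and `f c0 = c0⁻¹ f` -/
def ff (k m j : Fin 7) : Fin 7 → Fin 7 := ![k, c0.symm k, c0.symm (c0.symm k), c0.symm (c0.symm (c0.symm k)), m, c0.symm m, j]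

theorem ff_cases : ∀ k m j : Fin 7, (∀ i, ff k m j (ff k m j i) = i) → (∀ i, ff k m j (c0 i) = c0.symm (ff k m j i)) →
    ff k m j = b0 ∨ ff k m j = a1 ∨ ff k m j = b2 ∨ ff k m j = a3 ∨ ff k m j = ![0, 3, 2, 1, 4, 5, 6] ∨
      ff k m j = ![1, 0, 3, 2, 5, 4, 6] ∨ ff k m j = ![2, 1, 0, 3, 4, 5, 6] ∨ ff k m j = ![3, 2, 1, 0, 5, 4, 6] := by
  decide +kernel

theorem cases {τ : Perm (Fin 7)} (h1 : τ * τ = 1) (h2 : τ * c0 = c0⁻¹ * τ) (h3 : Perm.sign τ = 1) :
    τ = b0 ∨ τ = a1 ∨ τ = b2 ∨ τ = a3 := by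
  have h1' : ∀ i, τ (τ i) = i := fun i => DFunLike.congr_fun h1 i
  have h2' : ∀ i, τ (c0 i) = c0.symm (τ i) := fun i => DFunLike.congr_fun h2 i
  have hτ : (τ : Fin 7 → Fin 7) = ff (τ 0) (τ 4) (τ 6) := by
    have e1 : τ 1 = c0.symm (τ 0) := h2' 0
    have e2 : τ 2 = c0.symm (c0.symm (τ 0)) := by rw [← e1]; exact h2' 1
    have e3 : τ 3 = c0.symm (c0.symm (c0.symm (τ 0))) := by rw [← e2]; exact h2' 2
    have e5 : τ 5 = c0.symm (τ 4) := h2' 4
    funext i
    fin_cases i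
    · rfl
    · exact e1
    · exact e2
    · exact e3
    · rfl
    · exact e5
    · rfl
  have key := ff_cases (τ 0) (τ 4) (τ 6) (by rw [← hτ]; exact h1') (by rw [← hτ]; exact h2')
  rw [← hτ] at key
  have aux : ∀ ρ : Perm (Fin 7), Perm.sign ρ ≠ 1 → (τ : Fin 7 → Fin 7) ≠ ρ := by
    intro ρ hρ hh
    have : τ = ρ := DFunLike.coe_injective hh
    rw [this] at h3
    exact hρ h3
  rcases key with h | h | h | h | h | h | h | h
  · exact Or.inl (DFunLike.coe_injective h)
  · exact Or.inr (Or.inl (DFunLike.coe_injective h))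
  · exact Or.inr (Or.inr (Or.inl (DFunLike.coe_injective h)))
  · exact Or.inr (Or.inr (Or.inr (DFunLike.coe_injective h)))
  · exact absurd h (aux ⟨![0, 3, 2, 1, 4, 5, 6], ![0, 3, 2, 1, 4, 5, 6], by decide, by decide⟩ (by decide +kernel))
  · exact absurd h (aux ⟨![1, 0, 3, 2, 5, 4, 6], ![1, 0, 3, 2, 5, 4, 6], by decide, by decide⟩ (by decide +kernel))
  · exact absurd h (aux ⟨![2, 1, 0, 3, 4, 5, 6], ![2, 1, 0, 3, 4, 5, 6], by decide, by decide⟩ (by decide +kernel))
  · exact absurd h (aux ⟨![3, 2, 1, 0, 5, 4, 6], ![3, 2, 1, 0, 5, 4, 6], by decide, by decide⟩ (by decide +kernel))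

theorem sq_of {z s g : Perm (Fin 7)} (hz : z * z = 1) (hs : s * s = 1) (hgz : g * z = z * g) (hgs : g * s = s * g)
    (h : ∀ i j : Fin 7, (z i = i ↔ z j = j) → (s i = i ↔ s j = j) → (z (s i) = i ↔ z (s j) = j) →
      j = i ∨ j = z i ∨ j = s i) : g * g = 1 := by
  have hgz' : ∀ i, g (z i) = z (g i) := fun i => DFunLike.congr_fun hgz i
  have hgs' : ∀ i, g (s i) = s (g i) := fun i => DFunLike.congr_fun hgs i
  have hz' : ∀ i, z (z i) = i := fun i => DFunLike.congr_fun hz i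
  have hs' : ∀ i, s (s i) = i := fun i => DFunLike.congr_fun hs i
  ext i
  congr 1
  show g (g i) = i
  have e1 : z i = i ↔ z (g i) = g i := by rw [← hgz', g.injective.eq_iff]
  have e2 : s i = i ↔ s (g i) = g i := by rw [← hgs', g.injective.eq_iff]
  have e3 : z (s i) = i ↔ z (s (g i)) = g i := by rw [← hgs', ← hgz', g.injective.eq_iff]
  rcases h i (g i) e1 e2 e3 with h1 | h1 | h1
  · rw [h1, h1]
  · have h2 : g (g i) = z (g i) := by
      nth_rewrite 1 [h1]
      exact hgz' i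
    rw [h2, h1, hz']
  · have h2 : g (g i) = s (g i) := by
      nth_rewrite 1 [h1]
      exact hgs' i
    rw [h2, h1, hs']

theorem sq_b0 {g : Perm (Fin 7)} (hgz : g * z0 = z0 * g) (hgs : g * b0 = b0 * g) : g * g = 1 :=
  sq_of z0_sq b0_sq hgz hgs (by decide +kernel)

theorem sq_b2 {g : Perm (Fin 7)} (hgz : g * z0 = z0 * g) (hgs : g * b2 = b2 * g) : g * g = 1 :=
  sq_of z0_sq b2_sq hgz hgs (by decide +kernel)

end perm

/-- **(G)** -/
theorem false_of_aut {X : Type*} [Group X] (e : X ≃* alternatingGroup (Fin 7)) (φ : X ≃* X) {c t : X}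
    (hc : c * c ≠ 1) (hc4 : c * c * (c * c) = 1) (ht : t * t = 1) (htc : t * c = c⁻¹ * t)
    (h1 : φ (c * c) = c * c) (h2 : φ t = c * t) : False := by
  -- conjugate `c` to `c0`
  have hes : ∀ g : X, Perm.sign (e g : Perm (Fin 7)) = 1 := fun g => (e g).2
  obtain ⟨σ, hσ⟩ := exists_conj_c0 (hes c) (by
    intro h
    apply hc
    apply e.injective
    rw [map_mul, map_one]
    exact Subtype.ext h) (by
    have h3 := congrArg e hc4
    rw [map_mul, map_mul, map_one] at h3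
    exact congrArg Subtype.val h3)
  obtain ⟨ψ, hψ⟩ : ∃ ψ : X →* Perm (Fin 7), ∀ g, ψ g = σ * (e g : Perm (Fin 7)) * σ⁻¹ :=
    ⟨((MulAut.conj σ).toMonoidHom.comp (alternatingGroup (Fin 7)).subtype).comp e.toMonoidHom, fun g => rfl⟩
  have hinj : Function.Injective ψ := by
    intro g g' hg
    rw [hψ, hψ] at hg
    have h3 := mul_left_cancel (mul_right_cancel hg)
    exact e.injective (Subtype.ext h3)
  have hsign : ∀ g, Perm.sign (ψ g) = 1 := by
    intro g
    rw [hψ, map_mul, map_mul, map_inv, mul_comm, ← mul_assoc, inv_mul_cancel, one_mul, hes]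
  have hψc : ψ c = c0 := by rw [hψ, hσ]
  have hψcc : ψ (c * c) = z0 := by rw [map_mul, hψc, c0_c0]
  have hψct : ψ (c * t) = c0 * ψ t := by rw [map_mul, hψc]
  have hψt : ψ t = b0 ∨ ψ t = a1 ∨ ψ t = b2 ∨ ψ t = a3 := by
    refine cases ?_ ?_ (hsign t)
    · rw [← map_mul, ht, map_one]
    · rw [← hψc, ← map_mul, htc, map_mul, map_inv]
  obtain ⟨D, hD⟩ : ∃ D : X, ψ D = d0 := by
    have h3 : σ⁻¹ * d0 * σ ∈ alternatingGroup (Fin 7) := by
      rw [Perm.mem_alternatingGroup, map_mul, map_mul, map_inv, mul_comm, ← mul_assoc, mul_inv_cancel, one_mul, d0_sign]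
    refine ⟨e.symm ⟨_, h3⟩, ?_⟩
    rw [hψ, MulEquiv.apply_symm_apply]
    show σ * (σ⁻¹ * d0 * σ) * σ⁻¹ = d0
    group
  have hDD : D * D ≠ 1 := by
    intro h
    apply d0_sq
    rw [← hD, ← map_mul, h, map_one]
  have hDc : D * (c * c) = (c * c) * D := by
    apply hinj
    rw [map_mul, map_mul ψ (c * c), hψcc, hD, d0_z0]
  -- `D` centralises `c²` and `t` or `c t`
  have key1 : ∀ g : X, g * (c * c) = (c * c) * g → g * t = t * g → (ψ t = b0 ∨ ψ t = b2) → g * g = 1 := by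
    intro g hg1 hg2 hh
    apply hinj
    have e1 := congrArg ψ hg1
    have e2 := congrArg ψ hg2
    rw [map_mul, map_mul ψ (c * c), hψcc] at e1
    rw [map_mul, map_mul] at e2
    rw [map_mul, map_one]
    rcases hh with hh | hh
    · rw [hh] at e2; exact sq_b0 e1 e2
    · rw [hh] at e2; exact sq_b2 e1 e2
  have key2 : ∀ g : X, g * (c * c) = (c * c) * g → g * (c * t) = (c * t) * g → (ψ t = a1 ∨ ψ t = a3) → g * g = 1 := by
    intro g hg1 hg2 hh
    apply hinj
    have e1 := congrArg ψ hg1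
    have e2 := congrArg ψ hg2
    rw [map_mul, map_mul ψ (c * c), hψcc] at e1
    rw [map_mul, map_mul ψ (c * t), hψct] at e2
    rw [map_mul, map_one]
    rcases hh with hh | hh
    · rw [hh, c0_a1] at e2; exact sq_b2 e1 e2
    · rw [hh, c0_a3] at e2; exact sq_b0 e1 e2
  have hcase : (ψ t = b0 ∨ ψ t = b2) ∨ (ψ t = a1 ∨ ψ t = a3) := by
    rcases hψt with h | h | h | h
    · exact Or.inl (Or.inl h)
    · exact Or.inr (Or.inl h)
    · exact Or.inl (Or.inr h)
    · exact Or.inr (Or.inr h)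
  rcases hcase with hh | hh
  · -- `D` commutes with `c t = φ t`
    have hDt : D * (c * t) = (c * t) * D := by
      apply hinj
      rw [map_mul, map_mul ψ (c * t), hψct, hD]
      rcases hh with h | h
      · rw [h, c0_b0, d0_a1]
      · rw [h, c0_b2, d0_a3]
    obtain ⟨E, hE⟩ := φ.surjective D
    have h3 := key1 E (by apply φ.injective; rw [map_mul, map_mul φ (c * c), hE, h1, hDc])
      (by apply φ.injective; rw [map_mul, map_mul φ t, hE, h2, hDt]) hh
    apply hDD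
    rw [← hE, ← map_mul, h3, map_one]
  · have hDt : D * t = t * D := by
      apply hinj
      rw [map_mul, map_mul, hD]
      rcases hh with h | h
      · rw [h, d0_a1]
      · rw [h, d0_a3]
    have h3 := key2 (φ D) (by rw [← h1, ← map_mul, hDc, map_mul]) (by rw [← h2, ← map_mul, hDt, map_mul]) hh
    apply hDD
    apply φ.injective
    rw [map_mul, h3, map_one]

/-- the dihedral case of `SdEnd.main` does not occur for `A₇` -/
theorem false_of_dih {G : Type*} [Group G] [Finite G] {X S : Subgroup G} {n : ℕ}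
    {c t v : G} (h : SdEnd.Dih X S n c t v) (hX : X.Normal) (e : X ≃* alternatingGroup (Fin 7)) : False := by
  obtain ⟨f⟩ := h.equiv
  have hn : n = 0 := by
    have h1 : Nat.card S = 2 * 2 ^ (n + 2) := by
      rw [Nat.card_congr f.toEquiv, DihedralGroup.nat_card]
    have h2 : Nat.card X = 2520 := by
      rw [Nat.card_congr e.toEquiv, nat_card_alternatingGroup, Nat.card_eq_fintype_card, Fintype.card_fin]
      rfl
    have h3 : Nat.card S ∣ Nat.card X := card_dvd_of_le h.syl.1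
    rw [h1, h2] at h3
    by_contra hne
    have h4 : 16 ∣ 2520 := by
      refine dvd_trans ?_ h3
      rw [← pow_succ']
      exact pow_dvd_pow 2 (by omega : 4 ≤ n + 2 + 1)
    exact absurd h4 (by norm_num)
  subst hn
  have hcS : c ∈ S := (h.mem c).2 ⟨1, Or.inl (by rw [zpow_one])⟩
  have htS : t ∈ S := (h.mem t).2 ⟨0, Or.inr (by rw [zpow_zero, one_mul])⟩
  have hcX := h.syl.1 hcS
  have htX := h.syl.1 htS
  have hc4 : c ^ 4 = 1 := by
    have := pow_orderOf_eq_one c
    rwa [h.ord] at this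
  have hc2 : c * c ≠ 1 := by
    intro h1
    have h2 : orderOf c ∣ 2 := orderOf_dvd_of_pow_eq_one (by rw [pow_two, h1])
    rw [h.ord] at h2
    exact absurd h2 (by norm_num)
  have hc22 : c * c * (c * c) = 1 := by
    rw [← hc4]; simp only [pow_succ, pow_zero, one_mul, mul_assoc]
  have hvc : v⁻¹ * c * v = c⁻¹ := by
    have h1 : v * c⁻¹ * v⁻¹ = c := by
      calc v * c⁻¹ * v⁻¹ = (v * c * v⁻¹)⁻¹ := by group
        _ = c := by rw [h.v_c, inv_inv]
    calc v⁻¹ * c * v = v⁻¹ * (v * c⁻¹ * v⁻¹) * v := by rw [h1]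
      _ = c⁻¹ := by group
  refine false_of_aut e (MulAut.conjNormal (H := X) v⁻¹) (c := ⟨c, hcX⟩) (t := ⟨t, htX⟩) ?_ ?_ ?_ ?_ ?_ ?_
  · intro h1; exact hc2 (congrArg Subtype.val h1)
  · exact Subtype.ext hc22
  · exact Subtype.ext h.sq
  · apply Subtype.ext
    exact mul_inv_eq_iff_eq_mul.1 h.inv
  · apply Subtype.ext
    rw [MulAut.conjNormal_apply]
    show v⁻¹ * (c * c) * v⁻¹⁻¹ = c * c
    rw [inv_inv]
    calc v⁻¹ * (c * c) * v = (v⁻¹ * c * v) * (v⁻¹ * c * v) := by group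
      _ = (c * c)⁻¹ := by rw [hvc]; group
      _ = c * c := inv_eq_of_mul_eq_one_left hc22
  · apply Subtype.ext
    rw [MulAut.conjNormal_apply]
    show v⁻¹ * t * v⁻¹⁻¹ = c * t
    rw [inv_inv, h.swap]

end Cfsg.Agent.Cit.Nil.ASeven
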