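import Cfsg.Agent.Cit.OneBasic
import Cfsg.Agent.Lib.KleinGen

/-!
# Abelian Sylow 2-subgroups in a normal perfect subgroup (two lemmas for the W world of (6b), n = 1)
-/

set_option autoImplicit false
set_option linter.style.haveILetI false
set_option linter.unusedSectionVars false
set_option linter.unusedVariables false

namespace Cfsg.Agent.Cit.Nil.AbSyl

open Subgroup Cfsg Cit OneBasic

open scoped IsMulCommutative in
/-- an element of an abelian Sylow `p`-subgroup `P`, centralised by `N(P)` and lying in the commutator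
subgroup, is trivial -/
theorem eq_one_of_mem_commutator {G : Type*} [Group G] [Finite G] {p : ℕ} [Fact p.Prime] (P : Sylow p G)
    (hcomm : IsMulCommutative P) (y : G) (hy : y ∈ (P : Subgroup G))
    (hN : ∀ n ∈ Subgroup.normalizer ((P : Subgroup G) : Set G), n * y = y * n) (hc : y ∈ commutator G) :
    y = 1 := by
  have key : ∀ (k : ℕ) (g₀ : G), g₀⁻¹ * y ^ k * g₀ ∈ (P : Subgroup G) →
      g₀⁻¹ * y ^ k * g₀ = y ^ k := by
    intro k g₀ hk
    obtain ⟨n, hn, hn2⟩ := P.conj_eq_normalizer_conj_of_mem (y ^ k) g₀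
      ((P : Subgroup G).pow_mem hy k) hk
    rw [hn2]
    have h1 : Commute n (y ^ k) := Commute.pow_right (hN n hn) k
    rw [mul_assoc, ← h1.eq]; group
  have h1 := MonoidHom.transfer_eq_pow (MonoidHom.id (P : Subgroup G)) y key
  have h2 : MonoidHom.transfer (MonoidHom.id (P : Subgroup G)) y = 1 := by
    have : commutator G ≤ (MonoidHom.transfer (MonoidHom.id (P : Subgroup G))).ker :=
      Abelianization.commutator_subset_ker _
    exact this hc
  rw [h2] at h1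
  have h3 : y ^ (P : Subgroup G).index = 1 := (congrArg Subtype.val h1).symm
  obtain ⟨k, hk⟩ := P.isPGroup' ⟨y, hy⟩
  have h4 : y ^ p ^ k = 1 := congrArg Subtype.val hk
  rw [← orderOf_eq_one_iff]
  apply Nat.eq_one_of_dvd_coprimes (a := p ^ k) (b := (P : Subgroup G).index)
  · apply Nat.Coprime.pow_left
    rw [(Fact.out : p.Prime).coprime_iff_not_dvd]
    exact P.not_dvd_index
  · rwa [orderOf_dvd_iff_pow_eq_one]
  · rwa [orderOf_dvd_iff_pow_eq_one]

variable {G : Type*} [Group G] [Finite G]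

/-- the same for a Sylow 2-subgroup `Y` of a subgroup `H` -/
theorem eq_one_of_syl {H Y : Subgroup G} (hY : Syl Y H) (hYc : ∀ a ∈ Y, ∀ b ∈ Y, a * b = b * a) {e : G}
    (he : e ∈ Y) (hN : ∀ n ∈ H, n ∈ normalizer (Y : Set G) → n * e = e * n) (hc : e ∈ ⁅H, H⁆) : e = 1 := by
  haveI : Fact (Nat.Prime 2) := ⟨Nat.prime_two⟩
  have hYp : IsPGroup 2 (Y.subgroupOf H) := hY.2.1.comap_of_injective H.subtype H.subtype_injective
  let P : Sylow 2 H := hYp.toSylow hY.2.2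
  have hP : (P : Subgroup H) = Y.subgroupOf H := rfl
  have heH : e ∈ H := hY.1 he
  have h1 : (⟨e, heH⟩ : H) = 1 := by
    refine eq_one_of_mem_commutator P ?_ _ ?_ ?_ ?_
    · refine ⟨⟨fun a b => ?_⟩⟩
      apply Subtype.ext
      apply Subtype.ext
      exact hYc _ (mem_subgroupOf.1 a.2) _ (mem_subgroupOf.1 b.2)
    · rw [hP, mem_subgroupOf]; exact he
    · rintro ⟨n, hn⟩ hnP
      apply Subtype.ext
      refine hN n hn ?_
      rw [mem_normalizer_iff]
      intro y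
      rw [mem_normalizer_iff] at hnP
      constructor
      · intro hy
        exact (hnP ⟨y, hY.1 hy⟩).1 hy
      · intro hy
        have hyH : y ∈ H := by
          have h2 := H.mul_mem (H.mul_mem (H.inv_mem hn) (hY.1 hy)) hn
          have h3 : n⁻¹ * (n * y * n⁻¹) * n = y := by group
          rwa [h3] at h2
        exact (hnP ⟨y, hyH⟩).2 hy
    · have h2 : (commutator H).map H.subtype = ⁅H, H⁆ := by
        rw [_root_.commutator_def, map_commutator, ← MonoidHom.range_eq_map, range_subtype]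
      rw [← h2] at hc
      obtain ⟨c, hc1, hc2⟩ := hc
      have h3 : c = ⟨e, heH⟩ := Subtype.ext hc2
      rwa [← h3]
  exact congrArg Subtype.val h1

/-- `S ∩ X` is a Sylow 2-subgroup of the normal subgroup `X` -/
theorem syl_inf_normal {X S : Subgroup G} [hn : X.Normal] (hS : Syl S ⊤) : Syl (S ⊓ X) X := by
  obtain ⟨T, hT, hST⟩ := exists_syl_ge (hS.2.1.to_le inf_le_left) (inf_le_right : S ⊓ X ≤ X)
  obtain ⟨R, hR, hTR⟩ := exists_syl_ge hT.2.1 (le_top : T ≤ ⊤)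
  obtain ⟨g, -, hg⟩ := hS.exists_conj hR
  have h1 : T ≤ cj g (S ⊓ X) := by
    rw [cj_inf, hg]
    refine le_inf hTR ?_
    intro x hx
    rw [mem_cj]
    have := hn.conj_mem x (hT.1 hx) g⁻¹
    rwa [inv_inv] at this
  have h2 : S ⊓ X = T := by
    apply eq_of_le_of_card_ge hST
    rw [← card_cj g (S ⊓ X)]
    exact card_le_of_le h1
  rw [h2]
  exact hT

/-- **L2** -/
theorem L2 {X Y S : Subgroup G} [hn : X.Normal] (hX : ⁅X, X⁆ = X) (hS : Syl S ⊤) (hY : Y ≤ S)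
    (hYc : ∀ a ∈ Y, ∀ b ∈ Y, a * b = b * a) (hSX : S ⊓ X ≤ Y) (k : ℕ)
    (h1 : ∀ y ∈ Y, y ∈ X → y ^ 2 ^ k = 1) (h2 : ∀ e ∈ Y, e * e = 1 → ∃ y ∈ Y, y ^ 2 ^ k = e) {e : G}
    (he : e ∈ Y) (heX : e ∈ X) (he1 : e ≠ 1) (hee : e * e = 1) : False := by
  apply he1
  -- `Y` is a Sylow 2-subgroup of `Y ⊔ X`
  have hYp : IsPGroup 2 Y := hS.2.1.to_le hY
  have hYX : Y ≤ normalizer (X : Set G) := by rw [normalizer_eq_top]; exact le_top
  have hSY : Syl Y (Y ⊔ X) := by
    obtain ⟨T, hT, hYT⟩ := exists_syl_ge hYp (le_sup_left : Y ≤ Y ⊔ X)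
    have h3 : S ⊓ X = T ⊓ X :=
      syl_eq_of_le (syl_inf_normal hS) (hT.2.1.to_le inf_le_left) inf_le_right
        (le_inf (hSX.trans hYT) inf_le_right)
    have h4 : T ≤ Y := by
      intro t ht
      obtain ⟨a, ha, x, hx, rfl⟩ := exists_mul_of_mem_sup hYX (hT.1 ht)
      refine Y.mul_mem ha (hSX ?_)
      rw [h3]
      refine ⟨?_, hx⟩
      have h5 : x = a⁻¹ * (a * x) := by group
      rw [h5]
      exact T.mul_mem (T.inv_mem (hYT ha)) ht
    have h5 : T = Y := le_antisymm h4 hYT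
    rw [h5] at hT
    exact hT
  refine eq_one_of_syl hSY hYc he ?_ ?_
  · intro n hn' hnY
    obtain ⟨y, hy, hye⟩ := h2 e he hee
    -- `n y n⁻¹ y⁻¹ ∈ X ∩ Y`
    obtain ⟨a, ha, x, hx, rfl⟩ := exists_mul_of_mem_sup hYX hn'
    have h3 : (a * x) * y * (a * x)⁻¹ ∈ Y := (mem_normalizer_iff.1 hnY y).1 hy
    have h4 : (a * x) * y * (a * x)⁻¹ * y⁻¹ ∈ X := by
      have h5 : (a * x) * y * (a * x)⁻¹ * y⁻¹ = a * (x * (y * x⁻¹ * y⁻¹)) * a⁻¹ := by
        have h6 := hYc a ha y hy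
        calc (a * x) * y * (a * x)⁻¹ * y⁻¹ = a * x * y * x⁻¹ * (a⁻¹ * y⁻¹) := by group
          _ = a * x * y * x⁻¹ * (y * a)⁻¹ := by rw [mul_inv_rev]
          _ = a * x * y * x⁻¹ * (a * y)⁻¹ := by rw [h6]
          _ = a * (x * (y * x⁻¹ * y⁻¹)) * a⁻¹ := by group
      rw [h5]
      exact hn.conj_mem _ (X.mul_mem hx (hn.conj_mem _ (X.inv_mem hx) y)) a
    have h5 := h1 _ (Y.mul_mem h3 (Y.inv_mem hy)) h4
    have h6 : ((a * x) * y * (a * x)⁻¹ * y⁻¹) * y = (a * x) * y * (a * x)⁻¹ := by group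
    have h7 : ((a * x) * y * (a * x)⁻¹) ^ 2 ^ k = e := by
      rw [← h6, (show Commute _ y from hYc _ (Y.mul_mem h3 (Y.inv_mem hy)) y hy).mul_pow, h5, hye, one_mul]
    rw [_root_.conj_pow, hye] at h7
    rwa [mul_inv_eq_iff_eq_mul] at h7
  · have h3 : ⁅X, X⁆ ≤ ⁅Y ⊔ X, Y ⊔ X⁆ := commutator_mono le_sup_right le_sup_right
    rw [hX] at h3
    exact h3 heX

/-- a 2-power-free power of an element is a 2-element -/
theorem exists_odd_pow (k : G) : ∃ m, Odd m ∧ IsPGroup 2 (zpowers (k ^ m)) := by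
  obtain ⟨s, m, hm, hk⟩ := Nat.exists_eq_two_pow_mul_odd (orderOf_pos k).ne'
  refine ⟨m, hm, IsPGroup.of_card (n := s) ?_⟩
  rw [Nat.card_zpowers, orderOf_pow, hk, Nat.gcd_mul_left_left, Nat.mul_div_cancel _ hm.pos]

/-- the automorphisms induced on an abelian Sylow 2-subgroup by its normaliser form a group of odd order -/
theorem odd_aut {X V : Subgroup G} (hV : Syl V X) (hVc : ∀ a ∈ V, ∀ b ∈ V, a * b = b * a) :
    Odd (Nat.card ((X.subgroupOf (normalizer (V : Set G))).map V.normalizerMonoidHom)) := by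
  haveI : Fact (Nat.Prime 2) := ⟨Nat.prime_two⟩
  rw [← Nat.not_even_iff_odd, even_iff_two_dvd]
  intro h2
  obtain ⟨⟨b, hb⟩, hb2⟩ := exists_prime_orderOf_dvd_card' 2 h2
  obtain ⟨⟨x, hxN⟩, hxX, hxb⟩ := hb
  have hxX' : x ∈ X := hxX
  have hb2' : orderOf b = 2 := by
    rw [← hb2, ← Subgroup.orderOf_coe]
  obtain ⟨m, hm, hm2⟩ := exists_odd_pow x
  have h3 : x ^ m ∈ V := by
    have h4 : zpowers (x ^ m) ≤ V := by
      refine syl_le_of_normalizes' hV hm2 (zpowers_le.2 (X.pow_mem hxX' m)) ?_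
      exact zpowers_le.2 (pow_mem hxN m)
    exact h4 (mem_zpowers _)
  have h4 : b ^ m = 1 := by
    rw [← hxb, ← map_pow]
    ext v
    change (x ^ m) * (v : G) * (x ^ m)⁻¹ = v
    rw [hVc _ h3 v v.2, mul_inv_cancel_right]
  have h5 : b ^ 2 = 1 := by rw [← hb2', pow_orderOf_eq_one]
  have h6 : b = 1 := by
    obtain ⟨j, hj⟩ := hm
    rw [hj, pow_succ, pow_mul, h5, one_pow, one_mul] at h4
    exact h4
  rw [h6, orderOf_one] at hb2'
  norm_num at hb2'

/-- **L1** -/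
theorem L1 {X S E : Subgroup G} [hn : X.Normal] (hX : ⁅X, X⁆ = X) (hS : Syl S ⊤)
    (hab : ∀ a ∈ S ⊓ X, ∀ b ∈ S ⊓ X, a * b = b * a) (hE : E ≤ S ⊓ X) (hE4 : Nat.card E = 4) (v0 : G)
    (hv : v0 ∈ S ⊓ X) (hv0 : v0 ∉ E) (hcov : ∀ g ∈ S ⊓ X, g ∈ E ∨ v0 * g ∈ E)
    (hee : ∀ g ∈ S ⊓ X, g * g = 1)
    (hact : ∀ e ∈ E, ∃ y ∈ S, (∀ x ∈ E, y * x = x * y) ∧ y * v0 * y⁻¹ = v0 * e) : False := by
  have hsyl : Syl (S ⊓ X) X := syl_inf_normal hS
  obtain ⟨V, hVdef⟩ : ∃ V, V = S ⊓ X := ⟨_, rfl⟩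
  rw [← hVdef] at hsyl hab hE hv hcov hee
  obtain ⟨B, hB⟩ : ∃ B, B = (X.subgroupOf (normalizer (V : Set G))).map V.normalizerMonoidHom := ⟨_, rfl⟩
  have hodd : Odd (Nat.card B) := by rw [hB]; exact odd_aut hsyl hab
  -- the four-group `E`
  obtain ⟨e1, he1E, e2, he2E, he11, he21, he12⟩ : ∃ e1 ∈ E, ∃ e2 ∈ E, e1 ≠ 1 ∧ e2 ≠ 1 ∧ e1 * e2 ≠ 1 := by
    have h1 : ∃ e : E, e ≠ 1 := by
      by_contra hcon
      push Not at hcon
      have : Nat.card E ≤ 1 := by
        rw [Nat.card_eq_one_iff_unique.2 ⟨⟨fun a b => by rw [hcon a, hcon b]⟩, ⟨1⟩⟩]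
      omega
    obtain ⟨⟨e1, he1E⟩, he1⟩ := h1
    have he11 : e1 ≠ 1 := fun hh => he1 (Subtype.ext hh)
    by_contra hcon
    push Not at hcon
    have h2 : E ≤ zpowers e1 := by
      intro x hx
      by_cases hx1 : x = 1
      · rw [hx1]; exact one_mem _
      · have h3 := hcon e1 he1E x hx he11 hx1
        rw [← inv_eq_of_mul_eq_one_right h3]
        exact inv_mem (mem_zpowers _)
    have h3 := card_le_of_le h2
    rw [hE4, Nat.card_zpowers] at h3
    have h4 : orderOf e1 ≤ 2 := by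
      apply orderOf_le_of_pow_eq_one (by norm_num)
      rw [pow_two]; exact hee e1 (hE he1E)
    omega
  obtain ⟨y1, hy1S, hy1E, hy1⟩ := hact e1 he1E
  obtain ⟨y2, hy2S, hy2E, hy2⟩ := hact e2 he2E
  have hSV : S ≤ normalizer (V : Set G) := by
    intro s hs
    rw [mem_normalizer_iff_cj, hVdef, cj_inf, mem_normalizer_iff_cj.1 (le_normalizer hs),
      mem_normalizer_iff_cj.1 (by rw [normalizer_eq_top]; exact mem_top s)]
  have hy1N := hSV hy1S
  have hy2N := hSV hy2S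
  let θ := V.normalizerMonoidHom
  let w0 : V := ⟨v0, hv⟩
  let E' : Subgroup V := E.subgroupOf V
  have hcomm : ∀ a b : V, a * b = b * a := fun a b => Subtype.ext (hab a a.2 b b.2)
  have hsq : ∀ a : V, a * a = 1 := fun a => Subtype.ext (hee a a.2)
  have hcov' : ∀ g : V, g ∈ E' ∨ w0 * g ∈ E' := fun g => hcov g g.2
  have hw0 : w0 ∉ E' := hv0
  -- a transvection
  have htau : ∀ y (hy : y ∈ normalizer (V : Set G)) (e : V), e ∈ E' → e ≠ 1 → (∀ x ∈ E, y * x = x * y) →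
      y * v0 * y⁻¹ = v0 * e → (∀ a ∈ E', θ ⟨y, hy⟩ a = a) ∧ θ ⟨y, hy⟩ w0 = w0 * e := by
    intro y hy e he he1 h1 h2
    refine ⟨fun a ha => Subtype.ext ?_, Subtype.ext h2⟩
    change y * (a : G) * y⁻¹ = a
    rw [h1 a ha, mul_inv_cancel_right]
  have hext : ∀ α β : MulAut V, (∀ a ∈ E', α a = β a) → α w0 = β w0 → α = β := by
    intro α β h1 h2
    ext g
    congr 1
    rcases hcov' g with h3 | h3
    · exact h1 g h3
    · have h4 := h1 _ h3
      rw [map_mul, map_mul, h2] at h4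
      exact mul_left_cancel h4
  let t1 : MulAut V := θ ⟨y1, hy1N⟩
  let t2 : MulAut V := θ ⟨y2, hy2N⟩
  let f1 : V := ⟨e1, hE he1E⟩
  let f2 : V := ⟨e2, hE he2E⟩
  have hf1 : f1 ∈ E' := he1E
  have hf2 : f2 ∈ E' := he2E
  have hf11 : f1 ≠ 1 := fun hh => he11 (congrArg Subtype.val hh)
  have hf21 : f2 ≠ 1 := fun hh => he21 (congrArg Subtype.val hh)
  have hf12 : f1 * f2 ≠ 1 := fun hh => he12 (congrArg Subtype.val hh)
  obtain ⟨a1, b1⟩ := htau y1 hy1N f1 hf1 hf11 hy1E hy1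
  obtain ⟨a2, b2⟩ := htau y2 hy2N f2 hf2 hf21 hy2E hy2
  have a1' : ∀ a ∈ E', t1 a = a := a1
  have b1' : t1 w0 = w0 * f1 := b1
  have a2' : ∀ a ∈ E', t2 a = a := a2
  have b2' : t2 w0 = w0 * f2 := b2
  have h11 : t1 * t1 = 1 := by
    apply hext
    · intro a ha
      rw [MulAut.mul_apply, a1' a ha, a1' a ha, MulAut.one_apply]
    · rw [MulAut.mul_apply, b1', map_mul, b1', a1' f1 hf1, mul_assoc, hsq, mul_one, MulAut.one_apply]
  have h22 : t2 * t2 = 1 := by
    apply hext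
    · intro a ha
      rw [MulAut.mul_apply, a2' a ha, a2' a ha, MulAut.one_apply]
    · rw [MulAut.mul_apply, b2', map_mul, b2', a2' f2 hf2, mul_assoc, hsq, mul_one, MulAut.one_apply]
  have h12 : t1 * t2 = t2 * t1 := by
    apply hext
    · intro a ha
      rw [MulAut.mul_apply, MulAut.mul_apply, a2' a ha, a1' a ha, a2' a ha]
    · rw [MulAut.mul_apply, MulAut.mul_apply, b2', map_mul, b1', a1' f2 hf2, map_mul, b2', a2' f1 hf1, mul_assoc,
        mul_assoc, hcomm f1 f2]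
  -- the stabiliser of `E'`
  let M : Subgroup (MulAut V) :=
    { carrier := {α | ∀ a, a ∈ E' ↔ α a ∈ E'}
      one_mem' := fun a => Iff.rfl
      mul_mem' := by
        intro α β hα hβ a
        rw [MulAut.mul_apply, ← hα, ← hβ]
      inv_mem' := by
        intro α hα a
        have := hα (α⁻¹ a)
        rw [MulAut.apply_inv_self] at this
        exact this.symm }
  have hfix : ∀ (τ : MulAut V) (e : V), e ≠ 1 → (∀ a ∈ E', τ a = a) → τ w0 = w0 * e →
      B ⊓ centralizer {τ} ≤ M := by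
    intro τ e he h1 h2 α hα
    have h3 : α * τ = τ * α := mem_centralizer_singleton_iff.1 hα.2
    have h4 : ∀ a, a ∈ E' ↔ τ a = a := by
      intro a
      refine ⟨h1 a, fun h5 => ?_⟩
      rcases hcov' a with h6 | h6
      · exact h6
      · exfalso
        have h7 := h1 _ h6
        rw [map_mul, h2, h5] at h7
        apply he
        have h8 : w0 * e * a = w0 * (a * e) := by rw [mul_assoc, hcomm e a]
        rw [h8] at h7
        have h9 := mul_left_cancel h7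
        exact mul_eq_left.1 h9
    intro a
    have h5 : α (τ a) = τ (α a) := by rw [← MulAut.mul_apply, h3, MulAut.mul_apply]
    rw [h4, h4, ← h5]
    exact ⟨fun h6 => by rw [h6], fun h6 => α.injective h6⟩
  have hBn : ∀ y (hy : y ∈ normalizer (V : Set G)), ∀ α ∈ B, θ ⟨y, hy⟩ * α * (θ ⟨y, hy⟩)⁻¹ ∈ B := by
    intro y hy α hα
    rw [hB] at hα ⊢
    obtain ⟨x, hx, rfl⟩ := hα
    refine ⟨⟨y, hy⟩ * x * ⟨y, hy⟩⁻¹, ?_, ?_⟩
    · exact hn.conj_mem _ hx y
    · rw [map_mul, map_mul, map_inv]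
  have hBM : B ≤ M := by
    apply Cfsg.Agent.Lib.KleinGen.le_of_klein B M hodd t1 t2 h11 h22 h12 (hBn y1 hy1N) (hBn y2 hy2N)
      (hfix t1 f1 hf11 a1' b1') (hfix t2 f2 hf21 a2' b2') (hfix (t1 * t2) (f1 * f2) hf12 ?_ ?_)
    · intro a ha
      rw [MulAut.mul_apply, a2' a ha, a1' a ha]
    · rw [MulAut.mul_apply, b2', map_mul, b1', a1' f2 hf2, mul_assoc]
  -- a fixed point outside `E'`
  letI : CommGroup V := { (inferInstance : Group V) with mul_comm := hcomm }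
  haveI : Fintype B := Fintype.ofFinite B
  obtain ⟨s, hs⟩ : ∃ s : V, s = ∏ b : B, (b : MulAut V) w0 := ⟨_, rfl⟩
  have hsfix : ∀ α ∈ B, α s = s := by
    intro α hα
    rw [hs, map_prod]
    exact Fintype.prod_equiv (Equiv.mulLeft (⟨α, hα⟩ : B)) _ _ (fun b => rfl)
  have hsE : s ∉ E' := by
    have h1 : ∀ b : B, w0 * (b : MulAut V) w0 ∈ E' := by
      intro b
      rcases hcov' ((b : MulAut V) w0) with h2 | h2
      · exact absurd ((hBM b.2 w0).2 h2) hw0
      · exact h2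
    have h2 : s = w0 ^ Nat.card B * ∏ b : B, (w0 * (b : MulAut V) w0) := by
      rw [Finset.prod_mul_distrib, Finset.prod_const, Finset.card_univ, ← Nat.card_eq_fintype_card, ← mul_assoc,
        ← mul_pow, hsq, one_pow, one_mul, hs]
    have h3 : w0 ^ Nat.card B = w0 := by
      obtain ⟨j, hj⟩ := hodd
      rw [hj, pow_succ, pow_mul, pow_two, hsq, one_pow, one_mul]
    rw [h3] at h2
    intro h4
    apply hw0
    have h5 : ∏ b : B, (w0 * (b : MulAut V) w0) ∈ E' := Subgroup.prod_mem _ fun b _ => h1 b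
    rw [h2] at h4
    exact (E'.mul_mem_cancel_right h5).1 h4
  apply hsE
  have h1 : (s : G) = 1 := by
    refine eq_one_of_syl hsyl hab s.2 ?_ (by rw [hX]; exact hsyl.1 s.2)
    intro x hxX hxN
    have h2 := hsfix (θ ⟨x, hxN⟩) (by rw [hB]; exact ⟨⟨x, hxN⟩, hxX, rfl⟩)
    have h3 : x * (s : G) * x⁻¹ = s := congrArg Subtype.val h2
    exact mul_inv_eq_iff_eq_mul.1 h3
  have h2 : s = 1 := Subtype.ext h1
  rw [h2]
  exact E'.one_mem

end Cfsg.Agent.Cit.Nil.AbSyl
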