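import Cfsg.Agent.Cit.OneF.End
import Cfsg.Agent.Cit.OneL1

/-!
# `|Om(S)| = 1`: `F = 1`

No 2-element `≠ 1` centralises Sylow 2-subgroups of two commuting members.  In contrast to `OneF/End.lean` the
elements of order 4 of the members are not assumed to be conjugate: if `C_G(B(S))` is solvable, then the member
involutions in `S` form, with `1`, a strongly closed subgroup of `S` meeting `B(S)` trivially, and Goldschmidt's
product theorem (S1171) applies.
-/

set_option autoImplicit false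
set_option linter.style.haveILetI false
set_option linter.unusedSectionVars false

namespace Cfsg.Agent.Cit.OneF

open Subgroup Cfsg Cit OneBasic

variable {G : Type*} [Group G] [Finite G] {Om : Set (Subgroup G)}

/-- the hypothesis supplied by S1171 (`TwoFusion.ClosedCommutator.commutator_le`) -/
def H1171 (G : Type*) [Group G] [Finite G] : Prop :=
  ∀ (P : Sylow 2 G) (A B : Subgroup G), A ⊓ B = ⊥ → IsStronglyClosed A (P : Subgroup G) →
    IsStronglyClosed B (P : Subgroup G) →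
    ⁅normalClosure (A : Set G), normalClosure (B : Set G)⁆ ≤ oddCore G

/-- the configuration in the solvable group `X` -/
structure CZ (Om : Set (Subgroup G)) (X T V O K Q : Subgroup G) : Prop where
  one : One Om
  hK : K ∈ Om
  hQ : Syl Q K
  two : IsPGroup 2 T
  hTX : T ≤ X
  hQT : Q ≤ T
  hTQ : T ≤ normalizer (Q : Set G)
  hVT : V ≤ T
  hTV : T ≤ normalizer (V : Set G)
  hO : ¬ 2 ∣ Nat.card O
  hOX : X ≤ normalizer (O : Set G)
  dec : ∀ x ∈ X, ∃ o ∈ O, ∃ n ∈ X, n ∈ normalizer (V : Set G) ∧ x = o * n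
  cen : ∀ x ∈ T, (∀ v ∈ V, x * v = v * x) → x ∈ V
  conj : ∀ L ∈ Om, zz L ∈ X → ∃ x ∈ X, x * zz K * x⁻¹ = zz L

namespace CZ

variable {X T V O K Q : Subgroup G}

theorem z_mem_Q (c : CZ Om X T V O K Q) : zz K ∈ Q := by
  obtain ⟨x, y, n, hc⟩ := c.one.hyp.exists_gq c.hK c.hQ
  exact hc.z_mem

theorem eq_z (c : CZ Om X T V O K Q) {u : G} (hu : u ∈ Q) (h2 : u * u = 1) (h1 : u ≠ 1) : u = zz K :=
  c.one.hyp.eq_zz c.hK (c.hQ.1 hu) h2 h1

theorem conj_Q (c : CZ Om X T V O K Q) {t u : G} (ht : t ∈ T) (hu : u ∈ Q) : t * u * t⁻¹ ∈ Q :=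
  conj_mem_of (c.hTQ ht) hu

theorem comm_z (c : CZ Om X T V O K Q) {t : G} (ht : t ∈ T) : t * zz K = zz K * t := by
  have h1 : t * zz K * t⁻¹ = zz K := by
    apply c.eq_z (c.conj_Q ht c.z_mem_Q)
    · calc t * zz K * t⁻¹ * (t * zz K * t⁻¹) = t * (zz K * zz K) * t⁻¹ := by group
        _ = 1 := by rw [c.one.hyp.zz_mul c.hK]; group
    · intro h2
      apply c.one.hyp.zz_ne c.hK
      calc zz K = t⁻¹ * (t * zz K * t⁻¹) * t := by group
        _ = 1 := by rw [h2]; group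
  rwa [mul_inv_eq_iff_eq_mul] at h1

theorem z_mem_V (c : CZ Om X T V O K Q) : zz K ∈ V := by
  by_contra hcon
  have hIQ : AutQuat.IsQ Q := c.one.hyp.isGQ c.hK c.hQ
  have h1 : ∀ u ∈ V, u ∈ Q → u = 1 := by
    intro u hu huQ
    by_contra hu1
    apply hcon
    exact (zpowers_le.2 hu) (hIQ.mem_zpowers (fun t ht => c.one.hyp.uniq K c.hK t (c.hQ.1 ht)) huQ hu1)
  apply hcon
  apply c.cen _ (c.hQT c.z_mem_Q)
  intro v hv
  have h2 : zz K * v * (zz K)⁻¹ * v⁻¹ = 1 := by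
    apply h1
    · exact V.mul_mem (conj_mem_of (c.hTV (c.hQT c.z_mem_Q)) hv) (V.inv_mem hv)
    · have h3 := Q.mul_mem c.z_mem_Q (c.conj_Q (c.hVT hv) (Q.inv_mem c.z_mem_Q))
      simpa [mul_assoc] using h3
  rw [mul_inv_eq_one, mul_inv_eq_iff_eq_mul] at h2
  exact h2

/-- `Z(V) ∩ (Z ∪ 1)` -/
def ZO (c : CZ Om X T V O K Q) : Subgroup G where
  carrier := {v | v ∈ V ∧ (∀ w ∈ V, v * w = w * v) ∧ (v = 1 ∨ ∃ L ∈ Om, zz L = v)}
  one_mem' := ⟨V.one_mem, fun w _ => by rw [one_mul, mul_one], Or.inl rfl⟩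
  mul_mem' := by
    rintro a b ⟨ha, ha1, ha2⟩ ⟨hb, hb1, hb2⟩
    refine ⟨V.mul_mem ha hb, fun w hw => ?_, ?_⟩
    · calc a * b * w = a * (b * w) := by group
        _ = (a * w) * b := by rw [hb1 w hw]; group
        _ = w * (a * b) := by rw [ha1 w hw]; group
    · rcases ha2 with rfl | ⟨L, hL, rfl⟩
      · rw [one_mul]; exact hb2
      · rcases hb2 with rfl | ⟨M, hM, rfl⟩
        · rw [mul_one]; exact Or.inr ⟨L, hL, rfl⟩
        · by_cases hLM : L = M
          · left; rw [hLM]; exact c.one.hyp.zz_mul hM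
          · right
            exact exists_mul c.one hL hM hLM (ha1 _ hb)
  inv_mem' := by
    rintro a ⟨ha, ha1, ha2⟩
    refine ⟨V.inv_mem ha, fun w hw => ?_, ?_⟩
    · have := ha1 w hw
      calc a⁻¹ * w = a⁻¹ * (w * a) * a⁻¹ := by group
        _ = a⁻¹ * (a * w) * a⁻¹ := by rw [this]
        _ = w * a⁻¹ := by group
    · rcases ha2 with rfl | ⟨L, hL, rfl⟩
      · left; exact inv_one
      · right; exact ⟨L, hL, (c.one.hyp.zz_inv hL).symm⟩

theorem mem_ZO (c : CZ Om X T V O K Q) {v : G} :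
    v ∈ c.ZO ↔ v ∈ V ∧ (∀ w ∈ V, v * w = w * v) ∧ (v = 1 ∨ ∃ L ∈ Om, zz L = v) := Iff.rfl

theorem z_mem (c : CZ Om X T V O K Q) : zz K ∈ c.ZO :=
  ⟨c.z_mem_V, fun _ hw => (c.comm_z (c.hVT hw)).symm, Or.inr ⟨K, c.hK, rfl⟩⟩

theorem ZO_le_T (c : CZ Om X T V O K Q) : c.ZO ≤ T := fun _ hv => c.hVT hv.1

/-- the normaliser of `V` normalises `Z₁` -/
theorem conj_ZO (c : CZ Om X T V O K Q) {n v : G} (hn : n ∈ normalizer (V : Set G)) (hv : v ∈ c.ZO) :
    n * v * n⁻¹ ∈ c.ZO := by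
  refine ⟨conj_mem_of hn hv.1, fun w hw => ?_, ?_⟩
  · have h1 := hv.2.1 _ (conj_mem_of' hn hw)
    calc n * v * n⁻¹ * w = n * (v * (n⁻¹ * w * n)) * n⁻¹ := by group
      _ = n * ((n⁻¹ * w * n) * v) * n⁻¹ := by rw [h1]
      _ = w * (n * v * n⁻¹) := by group
  · rcases hv.2.2 with rfl | ⟨L, hL, rfl⟩
    · left; group
    · right; exact ⟨cj n L, c.one.hyp.conj L hL n, c.one.hyp.zz_cj hL n⟩

/-- **every member involution in `T` is in `Z(V)`** -/
theorem zz_mem_ZO (c : CZ Om X T V O K Q) {L : Subgroup G} (hL : L ∈ Om) (hz : zz L ∈ T) : zz L ∈ c.ZO := by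
  haveI : Fact (Nat.Prime 2) := ⟨Nat.prime_two⟩
  obtain ⟨x, hx, hxz⟩ := c.conj L hL (c.hTX hz)
  obtain ⟨o, ho, n, hn, hnV, rfl⟩ := c.dec x hx
  obtain ⟨a, ha⟩ : ∃ a, a = n * zz K * n⁻¹ := ⟨_, rfl⟩
  have haZ : a ∈ c.ZO := by rw [ha]; exact c.conj_ZO hnV c.z_mem
  have haT : a ∈ T := c.ZO_le_T haZ
  have h1 : zz L * a⁻¹ = o * (a * o⁻¹ * a⁻¹) := by
    rw [← hxz, ha]; group
  have h2 : zz L * a⁻¹ ∈ O := by
    rw [h1]
    exact O.mul_mem ho (conj_mem_of (c.hOX (c.hTX haT)) (O.inv_mem ho))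
  have h3 : zz L * a⁻¹ ∈ T := T.mul_mem hz (T.inv_mem haT)
  have h4 : zz L * a⁻¹ = 1 := by
    obtain ⟨k, hk⟩ := c.two.exists_card_eq
    have h5 : orderOf (zz L * a⁻¹) ∣ 2 ^ k := by
      rw [← hk]; exact Subgroup.orderOf_dvd_natCard _ h3
    have h6 : orderOf (zz L * a⁻¹) ∣ Nat.card O := Subgroup.orderOf_dvd_natCard _ h2
    have h7 : Nat.Coprime (2 ^ k) (Nat.card O) :=
      Nat.Coprime.pow_left _ ((Nat.Prime.coprime_iff_not_dvd Nat.prime_two).2 c.hO)
    exact orderOf_eq_one_iff.1 (Nat.eq_one_of_dvd_coprimes h7 h5 h6)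
  rw [mul_inv_eq_one] at h4
  rw [h4]; exact haZ

end CZ

/-- **`C_G(B(S))` solvable forces `B(S) = 1`** -/
theorem Top.eq_bot_of_solvable {S K0 K1' : Subgroup G} (t : Top Om S K0 K1') (h : One Om) (hL1 : L1 Om)
    (h1171 : H1171 G) (hO : oddCore G = ⊥)
    (hN : ∀ N : Subgroup G, N.Normal → N ≠ ⊥ → centralizer (N : Set G) = ⊥)
    (hs : Group.IsSolvable (centralizer (BB h t.two : Set G))) : BB h t.two = ⊥ := by
  haveI : Fact (Nat.Prime 2) := ⟨Nat.prime_two⟩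
  have hsc := t.stronglyClosed h hL1
  obtain ⟨B, hB⟩ : ∃ B, B = BB h t.two := ⟨_, rfl⟩
  obtain ⟨X, hX⟩ : ∃ X, X = centralizer (B : Set G) := ⟨_, rfl⟩
  have hBS : B ≤ S := by rw [hB]; exact BB_le h t.two
  have hPB : ∀ b ∈ B, ∀ L ∈ Om, zz L ∈ S → Perp b L := by
    intro b hb L hL hz
    rw [hB] at hb
    exact hb.2 L hL hz
  have hzX : ∀ L ∈ Om, zz L ∈ S → zz L ∈ X := by
    intro L hL hz
    rw [hX, hB]; exact t.zz_mem h hL hz
  have hcent : ∀ L ∈ Om, zz L ∈ X → ∃ Q, Syl Q L ∧ Q ≤ X := by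
    intro L hL hz
    rw [hX, hB] at hz ⊢
    exact t.exists_syl_cent h hL1 hL hz
  rw [← hB] at hs hsc ⊢
  rw [← hX] at hs
  -- `S` normalises `B`, so `T = S ∩ X` is Sylow in `X`
  have hSB : S ≤ normalizer (B : Set G) := by
    rw [le_normalizer_iff]
    intro s hs b hb
    exact hsc.2 b hb s (S.mul_mem (S.mul_mem hs (hBS hb)) (S.inv_mem hs))
  have hXN : X ≤ normalizer (B : Set G) := by
    intro x hx
    apply mem_normalizer_of_cent
    intro b hb
    rw [hX, mem_centralizer_iff] at hx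
    exact (hx b hb).symm
  have hNX : normalizer (B : Set G) ≤ normalizer (X : Set G) := by
    rw [le_normalizer_iff]
    intro n hn x hx
    rw [hX, mem_centralizer_iff] at hx ⊢
    intro b hb
    have h1 := hx _ (conj_mem_of' hn hb)
    calc b * (n * x * n⁻¹) = n * ((n⁻¹ * b * n) * x) * n⁻¹ := by group
      _ = n * (x * (n⁻¹ * b * n)) * n⁻¹ := by rw [h1]
      _ = n * x * n⁻¹ * b := by group
  have hT : Syl (S ⊓ X) X := syl_inf_normal (syl_of_le t.syl hSB le_top) hXN hNX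
  -- the Sylow subgroup of `K0`
  have hSK : S ≤ normalizer (K0 : Set G) := fun x hx => h.mem_normalizer t.h0 (t.cen x hx)
  have hQ : Syl (S ⊓ K0) K0 := syl_inf_normal (syl_of_le t.syl hSK le_top) le_normalizer le_rfl
  have hSQ : S ≤ normalizer ((S ⊓ K0 : Subgroup G) : Set G) := by
    intro x hx
    rw [mem_normalizer_iff_cj, cj_inf, mem_normalizer_iff_cj.1 (hSK hx),
      mem_normalizer_iff_cj.1 (le_normalizer hx)]
  have hQX : S ⊓ K0 ≤ X := by
    intro q hq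
    rw [hX, mem_centralizer_iff]
    intro b hb
    exact (hPB b hb K0 t.h0 t.z0).cent h t.h0 (isPGroup_zpowers_of_mem t.two (hBS hb)) hQ (hSQ (hBS hb)) q hq
  obtain ⟨V, O, hVT, hTV, hO2, hOX, hdec, hXO, hcen⟩ := exists_constrained hs hT
  have c : CZ Om X (S ⊓ X) V O K0 (S ⊓ K0) := by
    refine ⟨h, t.h0, hQ, hT.2.1, hT.1, le_inf inf_le_left hQX, fun x hx => hSQ hx.1, hVT, hTV, hO2, hXO, hdec,
      hcen, ?_⟩
    intro L hL hzL
    obtain ⟨R, hR, hRX⟩ := hcent L hL hzL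
    obtain ⟨T', hT', hRT'⟩ := exists_syl_ge hR.2.1 hRX
    obtain ⟨x, hx, hxT⟩ := hT'.exists_conj hT
    have h1 : cj x L = K0 := by
      refine h.one (S ⊓ X) hT.2.1 _ (mem_OmS_of_le (h.hyp.conj L hL x) (hR.cj x) ?_) K0
        (mem_OmS_of_le t.h0 hQ (le_inf inf_le_left hQX))
      rw [← hxT]; exact cj_mono x hRT'
    refine ⟨x⁻¹, X.inv_mem hx, ?_⟩
    rw [← h1, h.hyp.zz_cj hL]; group
  -- `ZO` is strongly closed
  have hZS : c.ZO ≤ S := c.ZO_le_T.trans inf_le_left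
  have hZsc : IsStronglyClosed c.ZO S := by
    refine ⟨hZS, ?_⟩
    intro v hv g hg
    rcases hv.2.2 with rfl | ⟨L, hL, rfl⟩
    · have : g * 1 * g⁻¹ = 1 := by group
      rw [this]; exact one_mem _
    · rw [← h.hyp.zz_cj hL] at hg ⊢
      have h1 := h.hyp.conj L hL g
      exact c.zz_mem_ZO h1 ⟨hg, hzX _ h1 hg⟩
  have hdis : c.ZO ⊓ B = ⊥ := by
    rw [eq_bot_iff]
    rintro v ⟨hv, hvB⟩
    rw [mem_bot]
    rcases hv.2.2 with h1 | ⟨L, hL, hLv⟩
    · exact h1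
    · exfalso
      have h2 : L = K0 := by
        by_contra hne
        apply not_perp h t.h0 hL (Ne.symm hne)
        rw [hLv]; exact hPB v hvB K0 t.h0 t.z0
      have h3 : L = K1' := by
        by_contra hne
        apply not_perp h t.h1 hL (Ne.symm hne)
        rw [hLv]; exact hPB v hvB K1' t.h1 t.z1
      exact t.ne (h3.symm.trans h2)
  obtain ⟨P, hP⟩ : ∃ P : Sylow 2 G, (P : Subgroup G) = S := by
    refine ⟨t.two.toSylow ?_, rfl⟩
    have := t.syl.2.2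
    rwa [relIndex_top_right] at this
  have h1 := h1171 P c.ZO B hdis (by rw [hP]; exact hZsc) (by rw [hP]; exact hsc)
  rw [hO, le_bot_iff, commutator_comm, commutator_eq_bot_iff_le_centralizer] at h1
  have h2 : centralizer ((normalClosure (c.ZO : Set G) : Subgroup G) : Set G) = ⊥ := by
    apply hN _ normalClosure_normal
    intro h3
    apply h.hyp.zz_ne t.h0
    have h4 : zz K0 ∈ normalClosure (c.ZO : Set G) := subset_normalClosure c.z_mem
    rwa [h3, mem_bot] at h4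
  rw [h2] at h1
  rw [eq_bot_iff]
  intro b hb
  exact h1 (subset_normalClosure hb)

/-- **`F = 1`**: no 2-element `≠ 1` centralises Sylow 2-subgroups of two commuting members -/
theorem eq_one_of_WW_nil (h : One Om) (hL1 : L1 Om) (h1173 : H1173 G) (h1171 : H1171 G) (hO : oddCore G = ⊥)
    (hN : ∀ N : Subgroup G, N.Normal → N ≠ ⊥ → centralizer (N : Set G) = ⊥) {b : G}
    (hb : IsPGroup 2 (zpowers b)) (hw : WW Om b) : b = 1 := by
  haveI : Fact (Nat.Prime 2) := ⟨Nat.prime_two⟩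
  obtain ⟨K, hK, L, hL, hne, hc, -, -⟩ := id hw
  obtain ⟨S, K0, K1', t⟩ := exists_Top h hK hL hne hc
  refine t.eq_one_of_WW h hL1 ?_ hb hw
  by_cases hs : Group.IsSolvable (centralizer (BB h t.two : Set G))
  · exact t.eq_bot_of_solvable h hL1 h1171 hO hN hs
  · obtain ⟨P, hP⟩ : ∃ P : Sylow 2 G, (P : Subgroup G) = S := by
      refine ⟨t.two.toSylow ?_, rfl⟩
      have := t.syl.2.2
      rwa [relIndex_top_right] at this
    have h1 := h1173 P (BB h t.two) (by rw [hP]; exact t.stronglyClosed h hL1)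
    rw [← TwoFusion.PerfCore.perf_eq_iInf] at h1
    have h2 : TwoFusion.PerfCore.perf (centralizer (BB h t.two : Set G)) ≠ ⊥ := by
      intro h3
      exact hs (TwoFusion.PerfCore.solvable_of_perf_eq_bot h3)
    have h3 := hN _ h1 h2
    rw [eq_bot_iff, ← h3]
    intro b hb
    rw [mem_centralizer_iff]
    intro x hx
    have h4 := TwoFusion.PerfCore.perf_le _ hx
    exact (mem_centralizer_iff.1 h4 b hb).symm

end Cfsg.Agent.Cit.OneF
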