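import Cfsg.Agent.Cit.Nil.WDiff
import Cfsg.Agent.Cit.OneType

/-!
# (6b), `n = 1`: two `SD` involutions (1.8)
-/

set_option autoImplicit false
set_option linter.style.haveILetI false
set_option linter.unusedSectionVars false

namespace Cfsg.Agent.Cit.Nil

open Subgroup Cfsg Cit OneBasic OneF

variable {G : Type*} [Group G] [Finite G] {Om : Set (Subgroup G)} {K L Q U : Subgroup G}
  {x y w v b c t s : G} {n : ℕ}

theorem cent_of_gq {z : G} (h : GQ Q x y z n) {s : G} (h1 : s * x = x * s) (h2 : s * y = y * s) :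
    ∀ u ∈ Q, s * u = u * s := by
  intro u hu
  rcases h.cov u hu with ⟨i, rfl⟩ | ⟨i, rfl⟩
  · exact (Commute.pow_right (show Commute s x from h1) i).eq
  · exact (Commute.mul_right h2 (Commute.pow_right (show Commute s x from h1) i)).eq

namespace BCtx

variable (B : BCtx Om K Q U b)
include B

theorem UQ : U ≤ normalizer (Q : Set G) := by
  have h1 : Q = K ⊓ U := syl_eq_of_le B.hQ (B.hU.to_le inf_le_right) inf_le_left (le_inf B.hQ.1 B.hQU)
  intro u hu
  rw [h1, mem_normalizer_iff_cj, cj_inf, mem_normalizer_iff_cj.1 (B.hUK hu),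
    mem_normalizer_iff_cj.1 (le_normalizer hu)]

/-- an `SD` element is not `z` -/
theorem sd_ne (hS : ∀ u ∈ Q, u * u = zz K → u * t ≠ t * u) : zz K ≠ t := by
  rintro rfl
  obtain ⟨c, v, n, g⟩ := B.one.hyp.exists_gq B.hK B.hQ
  exact hS v g.v_mem g.v_sq (B.one.hyp.comm_zz B.hK (le_normalizer (B.hQ.1 g.v_mem)))

/-- 1.8 for `s = t c`, `c ∈ C(Q)` -/
theorem sdsd_aux (hgq : GQ Q x y (zz K) n) (htx : t * x * t⁻¹ = x⁻¹) {i : ℤ} (hi : Odd i)
    (hty : t * y * t⁻¹ = y * x ^ i) (htU : t ∈ U) (hcU : c ∈ U) (ht : IZ Om t) (hs : IZ Om (t * c))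
    (hcQ : ∀ q ∈ Q, c * q = q * c) (hzt : zz K ≠ t) (hzs : zz K ≠ t * c) :
    PE Om b t ↔ PE Om b (t * c) := by
  have h := B.one
  have hzz := h.hyp.zz_mul B.hK
  have hzne := h.hyp.zz_ne B.hK
  have htt := ht.mul_self h
  have ti := ht.inv h
  have hUz : ∀ u ∈ U, u * zz K = zz K * u := fun u hu => h.hyp.comm_zz B.hK (B.hUK hu)
  have hinv : t * c * t⁻¹ = c⁻¹ := by
    rw [eq_inv_iff_mul_eq_one, ti]
    have := hs.mul_self h
    calc t * c * t * c = t * c * (t * c) := by group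
      _ = 1 := this
  by_cases hcc : c * c = 1
  · have h1 : c⁻¹ = c := inv_eq_of_mul_eq_one_right hcc
    have h2 : t * c = c * t := by
      rw [h1, mul_inv_eq_iff_eq_mul] at hinv
      exact hinv
    refine key_iff h B.hb2 B.h3 B.hbz ht hs hzt hzs (hUz t htU).symm
      (hUz _ (U.mul_mem htU hcU)).symm ?_ (B.hbU t htU) (B.hbU _ (U.mul_mem htU hcU))
    exact comm_mul rfl h2
  obtain ⟨v, hvc, hv2, hor⟩ := exists_root_z h B.hK B.hQ ht (isPGroup_zpowers_of_mem B.hU hcU) hcQ hinv hcc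
  have hvU : v ∈ U := (zpowers_le.2 hcU) hvc
  -- elements of `⟨c⟩`
  have hpow : ∀ e ∈ zpowers c, (∀ q ∈ Q, e * q = q * e) ∧ t * e * t⁻¹ = e⁻¹ ∧ c * e = e * c := by
    rintro e ⟨k, rfl⟩
    refine ⟨fun q hq => ((show Commute c q from hcQ q hq).zpow_left k).eq, ?_,
      ((Commute.refl c).zpow_right k).eq⟩
    change t * c ^ k * t⁻¹ = (c ^ k)⁻¹
    rw [← _root_.conj_zpow, hinv, inv_zpow]
  obtain ⟨hvQ, hvinv, hcv⟩ := hpow v hvc
  have hvi : v⁻¹ = zz K * v := inv_of_sq hv2 hzz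
  have hvz : v * zz K = zz K * v := sq_comm hv2
  have hvnQ : v ∉ Q := by
    intro hv
    rcases hgq.eq_of_cent hv hvQ with h1 | h1
    · rw [h1, one_mul] at hv2; exact hzne hv2.symm
    · rw [h1, hzz] at hv2; exact hzne hv2.symm
  -- `w` of order 4 in `⟨x⟩`
  obtain ⟨w, hwe⟩ : ∃ w, w = x ^ 2 ^ n := ⟨_, rfl⟩
  have hwQ : w ∈ Q := by rw [hwe]; exact Q.pow_mem hgq.c_mem _
  have hw2 : w * w = zz K := by rw [hwe]; exact hgq.w_sq
  have hwi : w⁻¹ = zz K * w := inv_of_sq hw2 hzz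
  have hwz : w * zz K = zz K * w := sq_comm hw2
  have htw : t * w * t⁻¹ = w⁻¹ := by
    rw [hwe, ← conj_pow, htx, inv_pow]
  have hwt : w * t * w⁻¹ = zz K * t := by
    rw [conj_of_inv htw, hw2]
  -- flip
  have hflip : ∀ a, w * a = a * w → w * (t * a) * w⁻¹ = zz K * (t * a) := by
    intro a ha
    calc w * (t * a) * w⁻¹ = (w * t * w⁻¹) * (w * a) * w⁻¹ := by group
      _ = zz K * t * (a * w) * w⁻¹ := by rw [hwt, ha]
      _ = zz K * (t * a) := by group
  have hIZflip : ∀ a, w * a = a * w → IZ Om (t * a) → IZ Om (zz K * (t * a)) := by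
    intro a ha h1
    rw [← hflip a ha]
    exact h1.conj h w
  -- `t v ∈ Z`
  have htv : IZ Om (t * v) := by
    rcases hor with h1 | ⟨e, he, hee⟩
    · -- `c² = z`, `v = c` or `v = z c`
      have h4 : ∀ j : ℤ, c ^ (4 * j) = 1 := by
        intro j
        rw [show 4 * j = 2 * (2 * j) by ring, zpow_mul, zpow_mul, zpow_two, zpow_two, h1, hzz, one_zpow]
      obtain ⟨k, hk⟩ := hvc
      have hk' : c ^ k = v := hk
      have h5 : k = 4 * (k / 4) ∨ k = 4 * (k / 4) + 1 ∨ k = 4 * (k / 4) + 2 ∨ k = 4 * (k / 4) + 3 := by omega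
      rcases h5 with h5 | h5 | h5 | h5
      · exfalso
        rw [h5, h4] at hk'
        rw [← hk', one_mul] at hv2
        exact hzne hv2.symm
      · rw [h5, zpow_add, h4, zpow_one, one_mul] at hk'
        rw [← hk']; exact hs
      · exfalso
        rw [h5, zpow_add, h4, zpow_two, one_mul, h1] at hk'
        rw [← hk', hzz] at hv2
        exact hzne hv2.symm
      · rw [h5, zpow_add, h4, one_mul, show (3 : ℤ) = 2 + 1 by norm_num, zpow_add, zpow_one, zpow_two, h1] at hk'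
        have h6 : t * v = zz K * (t * c) := by
          rw [← hk']
          calc t * (zz K * c) = (t * zz K) * c := by group
            _ = zz K * (t * c) := by rw [hUz t htU]; group
        rw [h6]
        exact hIZflip c (hcQ w hwQ).symm hs
    · obtain ⟨-, heinv, -⟩ := hpow e he
      have h1 := ht.conj h e
      rw [conj_of_inv heinv, hee] at h1
      have h2 : v * t = t * (zz K * v) := by
        have h3 : t * v = v⁻¹ * t := mul_inv_eq_iff_eq_mul.1 hvinv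
        calc v * t = v * (t * v) * v⁻¹ := by group
          _ = t * v⁻¹ := by rw [h3]; group
          _ = t * (zz K * v) := by rw [hvi]
      have h4 := h1.conj h w
      rw [h2, hflip _ (comm_mul hwz (hvQ w hwQ).symm)] at h4
      have h5 : zz K * (t * (zz K * v)) = t * v := by
        calc zz K * (t * (zz K * v)) = zz K * (t * zz K) * v := by group
          _ = (zz K * zz K) * (t * v) := by rw [hUz t htU]; group
          _ = t * v := by rw [hzz, one_mul]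
      rwa [h5] at h4
  -- `w t v ∈ Z`
  have hwtv : IZ Om (w * (t * v)) := by
    have e1 : (t * v) * x * (t * v)⁻¹ = x⁻¹ := by
      calc (t * v) * x * (t * v)⁻¹ = t * (v * x * v⁻¹) * t⁻¹ := by group
        _ = t * x * t⁻¹ := by rw [hvQ x hgq.c_mem, mul_inv_cancel_right]
        _ = x⁻¹ := htx
    have e2 : (t * v) * y * (t * v)⁻¹ = y * x ^ i := by
      calc (t * v) * y * (t * v)⁻¹ = t * (v * y * v⁻¹) * t⁻¹ := by group
        _ = t * y * t⁻¹ := by rw [hvQ y hgq.v_mem, mul_inv_cancel_right]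
        _ = y * x ^ i := hty
    obtain ⟨q, -, hq⟩ := hgq.out_conj e1 hi e2 ((2 ^ n : ℕ) : ℤ)
    rw [zpow_natCast, ← hwe] at hq
    rw [← hq]
    exact htv.conj h q
  have hm : t * (w * (t * v)) = w⁻¹ * v := by
    calc t * (w * (t * v)) = (t * w * t⁻¹) * (t * t) * v := by group
      _ = w⁻¹ * v := by rw [htw, htt, mul_one]
  have hmt : t * (w⁻¹ * v) * t⁻¹ = w⁻¹ * v := by
    calc t * (w⁻¹ * v) * t⁻¹ = (t * w * t⁻¹)⁻¹ * (t * v * t⁻¹) := by group
      _ = w * (zz K * v) := by rw [htw, hvinv, inv_inv, hvi]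
      _ = w⁻¹ * v := by rw [hwi, ← mul_assoc, hwz]
  have hmt' : t * (w⁻¹ * v) = w⁻¹ * v * t := mul_inv_eq_iff_eq_mul.1 hmt
  have hne : t ≠ w * (t * v) := by
    intro hh
    apply hvnQ
    have h1 : w⁻¹ * v = 1 := by rw [← hm, ← hh, htt]
    have h2 : v = w := (inv_mul_eq_one.1 h1).symm
    rw [h2]; exact hwQ
  have hcomm : t * (w * (t * v)) = w * (t * v) * t := by
    have h1 : w * (t * v) = t * (w⁻¹ * v) := by
      rw [← hm]
      calc w * (t * v) = (t * t) * (w * (t * v)) := by rw [htt, one_mul]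
        _ = t * (t * (w * (t * v))) := by group
    rw [h1, mul_assoc t _ t, ← hmt']
  have hmZ : IZ Om (w⁻¹ * v) := by
    rw [← hm]; exact ht.mul h hwtv hne hcomm
  have hzm : zz K ≠ w⁻¹ * v := by
    intro hh
    apply hvnQ
    have h1 : v = w * zz K := by rw [hh]; group
    rw [h1]; exact Q.mul_mem hwQ (zz_mem_syl h B.hK B.hQ)
  have hmU : w⁻¹ * v ∈ U := U.mul_mem (U.inv_mem (B.hQU hwQ)) hvU
  have hcm : c * (w⁻¹ * v) = w⁻¹ * v * c := comm_mul (comm_inv (hcQ w hwQ)) hcv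
  have hsm : (t * c) * (w⁻¹ * v) = w⁻¹ * v * (t * c) := by
    calc (t * c) * (w⁻¹ * v) = t * (c * (w⁻¹ * v)) := by group
      _ = (t * (w⁻¹ * v)) * c := by rw [hcm]; group
      _ = w⁻¹ * v * (t * c) := by rw [hmt']; group
  have k1 := key_iff h B.hb2 B.h3 B.hbz ht hmZ hzt hzm (hUz t htU).symm (hUz _ hmU).symm hmt'
    (B.hbU t htU) (B.hbU _ hmU)
  have k2 := key_iff h B.hb2 B.h3 B.hbz hs hmZ hzs hzm (hUz _ (U.mul_mem htU hcU)).symm (hUz _ hmU).symm hsm
    (B.hbU _ (U.mul_mem htU hcU)) (B.hbU _ hmU)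
  exact k1.trans k2.symm

/-- **1.8** -/
theorem sdsd (htU : t ∈ U) (hsU : s ∈ U) (ht : IZ Om t) (hs : IZ Om s)
    (htS : ∀ u ∈ Q, u * u = zz K → u * t ≠ t * u) (hsS : ∀ u ∈ Q, u * u = zz K → u * s ≠ s * u) :
    PE Om b t ↔ PE Om b s := by
  have h := B.one
  have hzz := h.hyp.zz_mul B.hK
  have hUQ := B.UQ
  have hUz : ∀ u ∈ U, u * zz K = zz K * u := fun u hu => h.hyp.comm_zz B.hK (B.hUK hu)
  obtain ⟨x, y, n, hgq, hx⟩ := h.hyp.exists_gq_cyclic B.hK B.hQ B.hU hUQ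
  obtain ⟨htx, i, hi, hty⟩ := sd_structure hzz hgq (hUQ htU) (hx t htU) (ht.mul_self h) (hUz t htU) htS
  obtain ⟨hsx, j, hj, hsy⟩ := sd_structure hzz hgq (hUQ hsU) (hx s hsU) (hs.mul_self h) (hUz s hsU) hsS
  have hxU : x ∈ U := B.hQU hgq.c_mem
  obtain ⟨k, hk⟩ : ∃ k, i - j = 2 * k := by
    obtain ⟨a, ha⟩ := hi
    obtain ⟨a', ha'⟩ := hj
    exact ⟨a - a', by rw [ha, ha']; ring⟩
  have ht1 : ∀ m : ℤ, t * x ^ m * t⁻¹ = x ^ (-m) := by
    intro m; rw [← _root_.conj_zpow, htx, inv_zpow, zpow_neg]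
  obtain ⟨c, hc⟩ : ∃ c, c = x ^ k * (t * s) := ⟨_, rfl⟩
  have hcU : c ∈ U := by rw [hc]; exact U.mul_mem (U.zpow_mem hxU k) (U.mul_mem htU hsU)
  have hcQ : ∀ q ∈ Q, c * q = q * c := by
    apply cent_of_gq hgq
    · rw [hc, ← mul_inv_eq_iff_eq_mul]
      calc x ^ k * (t * s) * x * (x ^ k * (t * s))⁻¹ = x ^ k * (t * (s * x * s⁻¹) * t⁻¹) * (x ^ k)⁻¹ := by group
        _ = x ^ k * (t * x ^ (-1 : ℤ) * t⁻¹) * (x ^ k)⁻¹ := by rw [hsx, zpow_neg_one]
        _ = x ^ k * x ^ (-(-1) : ℤ) * (x ^ k)⁻¹ := by rw [ht1]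
        _ = x := by group
    · rw [hc, ← mul_inv_eq_iff_eq_mul]
      have e2 : x ^ k * y = y * x ^ (-k) := hgq.zpow_v k
      calc x ^ k * (t * s) * y * (x ^ k * (t * s))⁻¹ = x ^ k * (t * (s * y * s⁻¹) * t⁻¹) * (x ^ k)⁻¹ := by group
        _ = x ^ k * ((t * y * t⁻¹) * (t * x ^ j * t⁻¹)) * (x ^ k)⁻¹ := by rw [hsy]; group
        _ = (x ^ k * y) * x ^ (i - j) * (x ^ k)⁻¹ := by rw [hty, ht1]; group
        _ = y := by rw [e2, hk]; group
  -- `x^(-k) s = t c`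
  have htc : x ^ (-k) * s = t * c := by
    have h1 : t * x ^ k = x ^ (-k) * t := mul_inv_eq_iff_eq_mul.1 (ht1 k)
    calc x ^ (-k) * s = x ^ (-k) * (t * t) * s := by rw [ht.mul_self h]; group
      _ = (x ^ (-k) * t) * (t * s) := by group
      _ = t * c := by rw [← h1, hc]; group
  obtain ⟨q, hq, hqs⟩ := hgq.out_conj hsx hj hsy (-k)
  rw [htc] at hqs
  have hs' : IZ Om (t * c) := by rw [← hqs]; exact hs.conj h q
  have hPE : PE Om b (t * c) ↔ PE Om b s := by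
    rw [← hqs]
    exact PE.conj_comm_iff h (B.bQ q hq).symm
  rw [← hPE]
  refine B.sdsd_aux hgq htx hi hty htU hcU ht hs' hcQ (B.sd_ne htS) ?_
  intro hh
  apply B.sd_ne hsS
  have h1 : s = q⁻¹ * (t * c) * q := by rw [← hqs]; group
  rw [h1, ← hh]
  have h2 := h.hyp.comm_zz B.hK (le_normalizer (B.hQ.1 hq))
  rw [mul_assoc, ← h2]; group

end BCtx

end Cfsg.Agent.Cit.Nil
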