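import Cfsg.Agent.Cit.Nil.SDWTwo
import Cfsg.Agent.Cit.Nil.SDSD

/-!
# (6b), `n = 1`: Lemma L1 for 2-nilpotent members
-/

set_option autoImplicit false
set_option linter.style.haveILetI false
set_option linter.unusedSectionVars false

namespace Cfsg.Agent.Cit.Nil

open Subgroup Cfsg Cit OneBasic OneF

variable {G : Type*} [Group G] [Finite G] {Om : Set (Subgroup G)} {K L Q U : Subgroup G} {b c t s g : G}

namespace BCtx

variable (B : BCtx Om K Q U b)
include B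

/-- the claim of section 1: the behaviour of `b` is the same at all neighbours of `z` in `U` -/
theorem claim (hn : NilK K) (htU : t ∈ U) (hsU : s ∈ U) (ht : IZ Om t) (hs : IZ Om s) (htz : zz K ≠ t)
    (hsz : zz K ≠ s) : PE Om b t ↔ PE Om b s := by
  have h := B.one
  have hK := B.hK
  have hQ := B.hQ
  -- type of a neighbour
  have T : ∀ u, u ∈ U → IZ Om u → zz K ≠ u → (∀ q ∈ Q, q * q = zz K → q * u ≠ u * q) ∨
      ∃ x y n r, GQ Q x y (zz K) n ∧ u = x ^ 2 ^ n * r ∧ RW Om K Q (x ^ 2 ^ n) r ∧ r ∈ U := by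
    rintro u huU ⟨L, hL, rfl⟩ hne
    rcases typ h hn hK hL (fun hh => hne (by rw [hh])) hQ (B.UnQ huU) (B.tz huU).symm with h1 | ⟨x, y, n, h1, h2, h3⟩
    · exact Or.inl h1
    · obtain ⟨r, hr, hrw⟩ := exists_r_of_W h hK hL hQ h1 h2 h3
      refine Or.inr ⟨x, y, n, r, h1, hr, hrw, ?_⟩
      have h4 : r = (x ^ 2 ^ n)⁻¹ * zz L := by rw [hr]; group
      rw [h4]
      exact U.mul_mem (U.inv_mem (B.hQU hrw.wQ)) huU
  rcases T t htU ht htz with h1 | ⟨x, y, n, r, g1, rfl, r1, r2⟩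
  · rcases T s hsU hs hsz with h2 | ⟨x1, y1, n1, r', g1', rfl, r1', r2'⟩
    · exact B.sdsd htU hsU ht hs h1 h2
    · exact B.sdw htU ht h1 g1' r1' r2'
  · rcases T s hsU hs hsz with h2 | ⟨x1, y1, n1, r', g1', rfl, r1', r2'⟩
    · exact (B.sdw hsU hs h2 g1 r1 r2).symm
    · exact B.ww g1 g1' r1 r1' r2 r2'

end BCtx

/-- the context inside `C(z) ∩ C(b)` -/
theorem exists_bctx (h : One Om) (hK : K ∈ Om) (hb : IsPGroup 2 (zpowers b)) (h3 : P3 Om b)
    (hbK : OneF.Perp b K) {A : Subgroup G} (hA : IsPGroup 2 A) (hAz : A ≤ centralizer {zz K}) (hAb : A ≤ centralizer {b}) :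
    ∃ Q U, BCtx Om K Q U b ∧ A ≤ U ∧ Syl U (centralizer {zz K} ⊓ centralizer {b}) := by
  obtain ⟨C, hC⟩ : ∃ C, C = (centralizer {zz K} ⊓ centralizer {b} : Subgroup G) := ⟨_, rfl⟩
  rw [← hC]
  obtain ⟨U, hU, hAU⟩ := exists_syl_ge hA (by rw [hC]; exact le_inf hAz hAb : A ≤ C)
  have hUK : U ≤ normalizer (K : Set G) := by
    intro u hu
    have h1 := hU.1 hu
    rw [hC, mem_inf, mem_centralizer_singleton_iff] at h1
    exact h.mem_normalizer hK h1.1
  have hbz : b * zz K = zz K * b := hbK.comm h.hyp hK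
  have hbC : b ∈ C := by
    rw [hC]
    exact ⟨mem_centralizer_singleton_iff.2 hbz, mem_centralizer_singleton_iff.2 rfl⟩
  have hUb : ∀ u ∈ U, b * u = u * b := by
    intro u hu
    have h1 := hU.1 hu
    rw [hC, mem_inf, mem_centralizer_singleton_iff, mem_centralizer_singleton_iff] at h1
    exact h1.2.symm
  -- `b ∈ U`
  have hbU : b ∈ U := by
    have h1 : zpowers b ≤ normalizer (U : Set G) := by
      rw [zpowers_le]
      exact mem_normalizer_of_cent (fun x hx => hUb x hx)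
    exact syl_le_of_normalizes' hU hb (zpowers_le.2 hbC) h1 (mem_zpowers b)
  obtain ⟨Q, hQ, hUQ⟩ := exists_syl_normalized hU.2.1 hUK
  have hbQ : ∀ q ∈ Q, b * q = q * b := hbK.cent h hK hb hQ (hUQ hbU)
  have hQU : Q ≤ U := by
    refine syl_le_of_normalizes hU hQ.2.1 ?_ hUQ
    intro q hq
    rw [hC, mem_inf, mem_centralizer_singleton_iff, mem_centralizer_singleton_iff]
    exact ⟨h.hyp.comm_zz hK (le_normalizer (hQ.1 hq)), (hbQ q hq).symm⟩
  exact ⟨Q, U, ⟨h, hK, hQ, hU.2.1, hQU, hUK, hb, h3, ⟨K, hK, rfl, hbK⟩, hUb⟩, hAU, hU⟩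

/-- **Lemma L1** for 2-nilpotent members -/
theorem l1_nil (h : One Om) (hn : NilOm Om) : OneF.L1 Om := by
  intro b hb h3 K hK T hT L hL hbK hbT hne hc hbL hcL
  by_cases hKL : K = L
  · rw [← hKL]; exact hbK
  have ht : IsPGroup 2 (zpowers (zz T)) := isPGroup_zpowers_zz h.hyp hT
  have hbT' : b * zz T = zz T * b := hbT.comm h.hyp hT
  obtain ⟨Q, U, B, hAU, hU⟩ := exists_bctx h hK hb h3 hbK ht
    (zpowers_le.2 (mem_centralizer_singleton_iff.2 hc.symm)) (zpowers_le.2 (mem_centralizer_singleton_iff.2 hbT'.symm))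
  -- conjugate `zz L` into `U`
  obtain ⟨U1, hU1, hLU1⟩ := exists_syl_ge (isPGroup_zpowers_zz h.hyp hL)
    (zpowers_le.2 (mem_inf.2 ⟨mem_centralizer_singleton_iff.2 hcL.symm, mem_centralizer_singleton_iff.2 hbL.symm⟩) :
      zpowers (zz L) ≤ centralizer {zz K} ⊓ centralizer {b})
  obtain ⟨g, hg, hgU⟩ := hU1.exists_conj hU
  have hg' : zz K * g = g * zz K ∧ b * g = g * b := by
    rw [mem_inf, mem_centralizer_singleton_iff, mem_centralizer_singleton_iff] at hg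
    exact ⟨hg.1.symm, hg.2.symm⟩
  have hgL : g * zz L * g⁻¹ ∈ U := by
    rw [← hgU]; exact conj_mem_cj (hLU1 (mem_zpowers _))
  have hne1 : zz K ≠ zz T := fun hh => hne (h.eq_of_zz_eq hK hT hh)
  have hne2 : zz K ≠ g * zz L * g⁻¹ := by
    intro hh
    apply hKL
    apply h.eq_of_zz_eq hK hL
    have h1 : g⁻¹ * zz K * g = zz L := by
      have h2 : g⁻¹ * (g * zz L * g⁻¹) * g = zz L := by group
      rw [← hh] at h2
      exact h2
    rw [← h1, mul_assoc, hg'.1, inv_mul_cancel_left]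
  have h1 := (B.claim (hn K hK) (hAU (mem_zpowers _)) hgL (IZ.of hT) ((IZ.of hL).conj h g) hne1 hne2).1
    ⟨T, hT, rfl, hbT⟩
  have h2 : PE Om b (zz L) := (PE.conj_comm_iff h hg'.2.symm).1 h1
  exact h2.perp h hL

end Cfsg.Agent.Cit.Nil
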