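import Cfsg.Agent.Cit.Nil.WWorld
import Cfsg.Agent.WeakTI.PslTwo
import Cfsg.Agent.SmallSimple.PSLTwoPart

/-!
# `Homo T` is impossible

A finite nonabelian simple group has no homocyclic Sylow 2-subgroup of rank 2 and exponent at
least 4, from the list of simple groups with abelian Sylow 2-subgroups.
-/

set_option autoImplicit false

open Cfsg Subgroup
open Cfsg.Agent.Cit

namespace Cfsg.Agent.Cit.Nil.NoHomo

open Cfsg.Agent.Cit.Nil.WWorld

universe u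

/-! ### the orders -/

theorem not_eight_dvd_psl {K : Type*} [Field K] [Fintype K] (hK : Fintype.card K % 8 = 3 ∨ Fintype.card K % 8 = 5) :
    ¬ 8 ∣ Nat.card (Matrix.ProjectiveSpecialLinearGroup (Fin 2) K) := by
  have h1 := Cfsg.Agent.SmallSimple.PSLTwoPart.card_psl_two_odd (F := K) (by
      rw [Nat.odd_iff]; omega)
  rintro ⟨c, hc⟩
  rw [hc] at h1
  generalize Fintype.card K = r at h1 hK
  rcases hK with hK | hK
  · obtain ⟨d, rfl⟩ : ∃ d, r = 8 * d + 3 := ⟨r / 8, by omega⟩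
    have h2 : (8 * d + 3) ^ 2 - 1 = 8 * (8 * d ^ 2 + 6 * d + 1) := by
      rw [Nat.sub_eq_iff_eq_add (by nlinarith)]; ring
    rw [h2] at h1
    have h3 : 2 * c = (8 * d + 3) * (8 * d ^ 2 + 6 * d + 1) := by nlinarith
    have h4 : (8 * d + 3) * (8 * d ^ 2 + 6 * d + 1) =
      2 * (32 * d ^ 3 + 36 * d ^ 2 + 13 * d + 1) + 1 := by ring
    omega
  · obtain ⟨d, rfl⟩ : ∃ d, r = 8 * d + 5 := ⟨r / 8, by omega⟩
    have h2 : (8 * d + 5) ^ 2 - 1 = 8 * (8 * d ^ 2 + 10 * d + 3) := by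
      rw [Nat.sub_eq_iff_eq_add (by nlinarith)]; ring
    rw [h2] at h1
    have h3 : 2 * c = (8 * d + 5) * (8 * d ^ 2 + 10 * d + 3) := by nlinarith
    have h4 : (8 * d + 5) * (8 * d ^ 2 + 10 * d + 3) =
      2 * (32 * d ^ 3 + 60 * d ^ 2 + 37 * d + 7) + 1 := by ring
    omega

theorem not_sixteen_dvd_ree (m : ℕ) :
    ¬ 16 ∣ (3 ^ (2 * m + 1)) ^ 3 * ((3 ^ (2 * m + 1)) ^ 3 + 1) * (3 ^ (2 * m + 1) - 1) := by
  obtain ⟨d, hd⟩ : ∃ d, 3 ^ (2 * m + 1) = 8 * d + 3 := by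
    induction m with
    | zero => exact ⟨0, by norm_num⟩
    | succ n ih =>
      obtain ⟨d, hd⟩ := ih
      refine ⟨9 * d + 3, ?_⟩
      have : 3 ^ (2 * (n + 1) + 1) = 9 * 3 ^ (2 * n + 1) := by ring
      rw [this, hd]; ring
  rw [hd]
  have h1 : 8 * d + 3 - 1 = 2 * (4 * d + 1) := by omega
  rw [h1]
  rintro ⟨c, hc⟩
  have h2 : (8 * d + 3) ^ 3 * ((8 * d + 3) ^ 3 + 1) * (2 * (4 * d + 1)) =
      8 * (((8 * d + 3) ^ 3) * (128 * d ^ 3 + 144 * d ^ 2 + 54 * d + 7) * (4 * d + 1)) := by ring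
  rw [h2] at hc
  have h3 : ((8 * d + 3) ^ 3) * (128 * d ^ 3 + 144 * d ^ 2 + 54 * d + 7) * (4 * d + 1) = 2 * c := by
    have : 8 * (((8 * d + 3) ^ 3) * (128 * d ^ 3 + 144 * d ^ 2 + 54 * d + 7) * (4 * d + 1)) = 8 * (2 * c) := by
      rw [hc]; ring
    exact Nat.eq_of_mul_eq_mul_left (by norm_num) this
  have h4 : Odd (((8 * d + 3) ^ 3) * (128 * d ^ 3 + 144 * d ^ 2 + 54 * d + 7) * (4 * d + 1)) := by
    refine Odd.mul (Odd.mul (Odd.pow ?_) ?_) ?_
    · exact ⟨4 * d + 1, by ring⟩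
    · exact ⟨64 * d ^ 3 + 72 * d ^ 2 + 27 * d + 3, by ring⟩
    · exact ⟨2 * d, by ring⟩
  rw [h3] at h4
  exact (Nat.not_odd_iff_even.2 (even_two_mul c)) h4

/-- The statement S0506 (in the universe `u`). -/
def S0506Stmt : Prop :=
  ∀ {G : Type u} [Group G] [Finite G] [IsSimpleGroup G]
    (_ : ¬ IsMulCommutative G) (S : Sylow 2 G) (_ : IsMulCommutative (S : Subgroup G)),
    (∃ a : ℕ, 2 ≤ a ∧ ∃ (F : Type) (_ : Field F) (_ : Fintype F), Fintype.card F = 2 ^ a ∧ Nonempty (G ≃* Matrix.ProjectiveSpecialLinearGroup (Fin 2) F)) ∨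
      (∃ (F : Type) (_ : Field F) (_ : Fintype F), (Fintype.card F % 8 = 3 ∨ Fintype.card F % 8 = 5) ∧ Nonempty (G ≃* Matrix.ProjectiveSpecialLinearGroup (Fin 2) F)) ∨
      Cfsg.IsRee G ∨ Cfsg.IsJ1 G

/-- A finite nonabelian simple group with abelian Sylow 2-subgroup of order at least 16 has no
elements of order 4. -/
theorem false_of_simple (h0506 : S0506Stmt.{u}) {X : Type u} [Group X] [Finite X] [IsSimpleGroup X]
    (hna : ¬ IsMulCommutative X) (S : Sylow 2 X) (hS : IsMulCommutative (S : Subgroup X))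
    (h16 : 16 ∣ Nat.card X) {k : ℕ} {a : X} (ha : a ^ 2 ^ k = 1) (ha2 : a * a ≠ 1) : False := by
  rcases h0506 hna S hS with ⟨n, hn, F, i1, i2, hF, ⟨e⟩⟩ | ⟨F, i1, i2, hF, ⟨e⟩⟩ | ⟨-, m, hm, hc⟩ | ⟨-, hc⟩
  · have hch : CharP F 2 := by
      obtain ⟨p, hp⟩ := CharP.exists F
      have hpp : p.Prime := CharP.char_is_prime F p
      obtain ⟨r, -, hr⟩ := FiniteField.card F p
      have h1 : p ∣ 2 ^ n := by
        rw [← hF, hr]
        exact dvd_pow_self p r.ne_zero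
      have h2 : p = 2 := (Nat.prime_dvd_prime_iff_eq hpp Nat.prime_two).1 (hpp.dvd_of_dvd_pow h1)
      exact h2 ▸ hp
    exact ha2 (Cfsg.Agent.WeakTI.PslTwo.mul_self e ha)
  · apply not_eight_dvd_psl hF
    rw [← Nat.card_congr e.toEquiv]
    exact Dvd.dvd.trans (by norm_num) h16
  · rw [hc] at h16
    exact not_sixteen_dvd_ree m h16
  · rw [hc] at h16
    omega

/-! ### homocyclic groups -/

section

variable {G : Type*} [Group G]

theorem pow_mul_pow_inj {m : ℕ} {a b : G} (hab : a * b = b * a)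
    (h0 : ∀ i j : ℤ, a ^ i * b ^ j = 1 → (2 : ℤ) ^ m ∣ i ∧ (2 : ℤ) ^ m ∣ j)
    {i j k l : ℤ} (h : a ^ i * b ^ j = a ^ k * b ^ l) : (2 : ℤ) ^ m ∣ i - k ∧ (2 : ℤ) ^ m ∣ j - l := by
  apply h0
  have hc : Commute a b := hab
  have h2 : Commute (a ^ i) (b ^ j) := (hc.zpow_left i).zpow_right j
  have h3 : a ^ (i - k) * b ^ (j - l) = (a ^ k)⁻¹ * (a ^ i * b ^ j) * (b ^ l)⁻¹ := by
    rw [zpow_sub, zpow_sub]
    have h4 : Commute (a ^ i) (a ^ k)⁻¹ := ((Commute.refl a).zpow_zpow i k).inv_right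
    have h5 : a ^ i * (a ^ k)⁻¹ = (a ^ k)⁻¹ * a ^ i := h4
    rw [h5]
    group
  rw [h3, h]
  group

theorem homo_comm {T : Subgroup G} (h : Homo T) : ∀ x ∈ T, ∀ y ∈ T, x * y = y * x := by
  obtain ⟨m, hm, a, ha, b, hb, hab, -, -, -, hg⟩ := h
  intro x hx y hy
  obtain ⟨i, j, rfl⟩ := hg x hx
  obtain ⟨k, l, rfl⟩ := hg y hy
  have hc : Commute a b := hab
  have h1 : Commute (a ^ i * b ^ j) (a ^ k * b ^ l) := by
    apply Commute.mul_left
    · exact ((Commute.refl a).zpow_zpow i k).mul_right ((hc.zpow_left i).zpow_right l)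
    · exact ((hc.symm.zpow_left j).zpow_right k).mul_right ((Commute.refl b).zpow_zpow j l)
  exact h1

theorem homo_sixteen_dvd [Finite G] {T : Subgroup G} (hT : IsPGroup 2 T) (h : Homo T) : 16 ∣ Nat.card T := by
  obtain ⟨m, hm, a, ha, b, hb, hab, -, -, h0, -⟩ := h
  obtain ⟨n, hn⟩ := IsPGroup.iff_card.1 hT
  have h1 : 16 ≤ Nat.card T := by
    let f : Fin 4 × Fin 4 → T := fun p => ⟨a ^ (p.1 : ℤ) * b ^ (p.2 : ℤ),
      T.mul_mem (T.zpow_mem ha _) (T.zpow_mem hb _)⟩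
    have hf : Function.Injective f := by
      rintro ⟨i, j⟩ ⟨k, l⟩ hh
      have h2 : a ^ (i : ℤ) * b ^ (j : ℤ) = a ^ (k : ℤ) * b ^ (l : ℤ) := congrArg Subtype.val hh
      obtain ⟨h3, h4⟩ := pow_mul_pow_inj hab h0 h2
      have h5 : (4 : ℤ) ∣ (2 : ℤ) ^ m := by
        have : (4 : ℤ) = 2 ^ 2 := by norm_num
        rw [this]
        exact pow_dvd_pow 2 hm
      have h6 := h5.trans h3
      have h7 := h5.trans h4
      have hi := i.isLt
      have hj := j.isLt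
      have hk := k.isLt
      have hl := l.isLt
      ext
      · show (i : ℕ) = k
        omega
      · show (j : ℕ) = l
        omega
    have h2 := Nat.card_le_card_of_injective f hf
    rwa [Nat.card_prod, Nat.card_fin] at h2
  rw [hn] at h1 ⊢
  have h2 : 4 ≤ n := by
    by_contra hcon
    have : 2 ^ n ≤ 2 ^ 3 := Nat.pow_le_pow_right (by norm_num) (by omega)
    omega
  have : (16 : ℕ) = 2 ^ 4 := by norm_num
  rw [this]
  exact pow_dvd_pow 2 h2

theorem homo_exists_four {T : Subgroup G} (h : Homo T) : ∃ a ∈ T, ∃ k, a ^ 2 ^ k = 1 ∧ a * a ≠ 1 := by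
  obtain ⟨m, hm, a, ha, -, -, -, ho, -⟩ := h
  refine ⟨a, ha, m, by rw [← ho, pow_orderOf_eq_one], ?_⟩
  intro h1
  have h2 : orderOf a ∣ 2 := orderOf_dvd_of_pow_eq_one (by rw [pow_two, h1])
  rw [ho] at h2
  have h3 : (2 : ℕ) ^ 2 ∣ 2 := (pow_dvd_pow 2 hm).trans h2
  norm_num at h3

end

/-- A simple nonabelian group has no Sylow 2-subgroup with `Homo`. -/
theorem not_homo_sylow (h0506 : S0506Stmt.{u}) {G : Type u} [Group G] [Finite G] [IsSimpleGroup G] (hna : ¬ IsMulCommutative G) (S : Sylow 2 G) :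
    ¬ Homo (S : Subgroup G) := by
  intro h
  obtain ⟨a, -, k, hk, ha⟩ := homo_exists_four h
  refine false_of_simple h0506 hna S ⟨⟨?_⟩⟩ ((homo_sixteen_dvd S.isPGroup' h).trans
    (Subgroup.card_subgroup_dvd_card _)) hk ha
  rintro ⟨x, hx⟩ ⟨y, hy⟩
  exact Subtype.ext (homo_comm h x hx y hy)

/-- A Sylow 2-subgroup in the sense of `Syl` as a Sylow 2-subgroup. -/
theorem exists_sylow {G : Type*} [Group G] [Finite G] {X T : Subgroup G} (hT : Syl T X) :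
    ∃ S : Sylow 2 X, (S : Subgroup X) = T.subgroupOf X := by
  have : Fact (Nat.Prime 2) := ⟨Nat.prime_two⟩
  have h1 : IsPGroup 2 (T.subgroupOf X) := IsPGroup.comap_subtype hT.2.1
  exact ⟨h1.toSylow hT.2.2, rfl⟩

/-- **`Homo T` is impossible** (form for subgroups). -/
theorem not_homo (h0506 : S0506Stmt.{u}) {G : Type u} [Group G] [Finite G] {X T : Subgroup G}
    (hX : IsSimpleGroup X) (hna : ¬ IsMulCommutative X) (hT : Syl T X) : ¬ Homo T := by
  intro h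
  obtain ⟨S, hS⟩ := exists_sylow hT
  obtain ⟨a, haT, k, hk, ha⟩ := homo_exists_four h
  have h16 : 16 ∣ Nat.card X := (homo_sixteen_dvd hT.2.1 h).trans (Subgroup.card_dvd_of_le hT.1)
  refine false_of_simple h0506 (X := X) hna S ⟨⟨?_⟩⟩ h16 (k := k) (a := ⟨a, hT.1 haT⟩)
    (Subtype.ext hk) (fun h1 => ha (congrArg Subtype.val h1))
  rintro ⟨x, hx⟩ ⟨y, hy⟩
  have hx' : x ∈ (S : Subgroup X) := hx
  have hy' : y ∈ (S : Subgroup X) := hy
  rw [hS] at hx' hy'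
  exact Subtype.ext (Subtype.ext (homo_comm h x hx' y hy'))

end Cfsg.Agent.Cit.Nil.NoHomo
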