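import Cfsg.Agent.Cit.Sub
import Cfsg.Prelude.Def_Local

/-!
# The frame of S1309, `J` 2-nilpotent: definitions

`T0 Om` : `Om` is a family with `Hyp`, all members have order 8, `O(G) = 1`.
`TStat Om K` : the statement `T'` for the member `K`: `NIL` or `ONE` or `THREE`, where the last two refer to
the component `comp Om K` of the non-commuting graph.
`SC` : the simple case.
-/

set_option autoImplicit false

namespace Cfsg.Agent.Cit.Nil.IndDefs

open Subgroup Cfsg Cit

universe u

variable {G : Type*} [Group G]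

/-- elementwise commuting -/
def Cm (A B : Subgroup G) : Prop := ∀ a ∈ A, ∀ b ∈ B, a * b = b * a

theorem Cm.symm {A B : Subgroup G} (h : Cm A B) : Cm B A := fun b hb a ha => (h a ha b hb).symm

/-- two non-commuting members -/
def Adj (Om : Set (Subgroup G)) (K L : Subgroup G) : Prop := K ∈ Om ∧ L ∈ Om ∧ ¬ Cm K L

theorem Adj.symm {Om : Set (Subgroup G)} {K L : Subgroup G} (h : Adj Om K L) : Adj Om L K :=
  ⟨h.2.1, h.1, fun h1 => h.2.2 h1.symm⟩

/-- the component of `K` in the non-commuting graph -/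
def comp (Om : Set (Subgroup G)) (K : Subgroup G) : Set (Subgroup G) :=
  {L | Relation.ReflTransGen (Adj Om) K L}

/-- the world of the induction -/
structure T0 (Om : Set (Subgroup G)) : Prop where
  hyp : Hyp Om
  card : ∀ K ∈ Om, Nat.card K = 8
  core : Cfsg.pPrimeCore 2 G = ⊥

/-- NIL: `z_K ∈ O_2(G)` -/
def NIL (K : Subgroup G) : Prop := zz K ∈ Cfsg.pCore 2 G

/-- ONE: `z_1 z_2` centralises the members of the component for commuting `K_1`, `K_2` in the component -/
def ONE (Om : Set (Subgroup G)) (K : Subgroup G) : Prop :=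
  ∀ K₁ ∈ comp Om K, ∀ K₂ ∈ comp Om K, Cm K₁ K₂ → ∀ L ∈ comp Om K, ∀ x ∈ L,
    zz K₁ * zz K₂ * x = x * (zz K₁ * zz K₂)

/-- `SL(2,3)` over `K_1`: a subnormal subgroup `J` of `C(z_1)` with `K_1 ≤ J`, `J/O(J) ≃ SL(2,3)` -/
def Three (K₁ : Subgroup G) : Prop :=
  ∃ J : Subgroup G, J ≤ centralizer {zz K₁} ∧ K₁ ≤ J ∧ (J.subgroupOf (centralizer {zz K₁})).IsSubnormal ∧
    Nonempty ((↥J ⧸ oddCore ↥J) ≃* Matrix.SpecialLinearGroup (Fin 2) (ZMod 3))

/-- THREE: some member of the component has `Three` -/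
def THREE (Om : Set (Subgroup G)) (K : Subgroup G) : Prop := ∃ K₁ ∈ comp Om K, Three K₁

/-- the statement `T'` -/
def TStat (Om : Set (Subgroup G)) (K : Subgroup G) : Prop := NIL K ∨ ONE Om K ∨ THREE Om K

/-- the simple case -/
structure SCW (G : Type u) [Group G] [Finite G] (Om : Set (Subgroup G)) : Prop where
  t0 : T0 Om
  top : sSup Om = ⊤
  conn : ∀ K ∈ Om, ∀ L ∈ Om, L ∈ comp Om K
  simple : IsSimpleGroup ↥(generalizedFittingSubgroup G)
  na : ¬ IsMulCommutative ↥(generalizedFittingSubgroup G)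
  ih : ∀ (H : Type u) [Group H] [Finite H] (Om' : Set (Subgroup H)), Nat.card H < Nat.card G → T0 Om' →
    ∀ K ∈ Om', TStat Om' K
  three : ∀ K ∈ Om, ¬ Three K
  two : ∃ K₁ ∈ Om, ∃ K₂ ∈ Om, Cm K₁ K₂ ∧ zz K₁ ≠ zz K₂

/-- **the simple case is impossible** -/
def SC : Prop := ∀ (G : Type u) [Group G] [Finite G] (Om : Set (Subgroup G)), SCW G Om → False

/-! ### API -/

variable {Om : Set (Subgroup G)} {K L M : Subgroup G}

theorem mem_comp_self : K ∈ comp Om K := Relation.ReflTransGen.refl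

theorem comp_symm (h : L ∈ comp Om K) : K ∈ comp Om L := by
  induction h with
  | refl => exact Relation.ReflTransGen.refl
  | tail _ hbc ih => exact Relation.ReflTransGen.head hbc.symm ih

theorem comp_trans (h : L ∈ comp Om K) (h' : M ∈ comp Om L) : M ∈ comp Om K := h.trans h'

theorem comp_eq (h : L ∈ comp Om K) : comp Om L = comp Om K :=
  Set.ext fun _ => ⟨fun h' => comp_trans h h', fun h' => comp_trans (comp_symm h) h'⟩

theorem comp_sub (hK : K ∈ Om) : comp Om K ⊆ Om := by
  intro L hL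
  induction hL with
  | refl => exact hK
  | tail _ hbc _ => exact hbc.2.1

theorem mem_comp_of (hL : L ∈ comp Om K) (h : Adj Om L M) : M ∈ comp Om K :=
  Relation.ReflTransGen.tail hL h

end Cfsg.Agent.Cit.Nil.IndDefs
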