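import Cfsg.Agent.Cit.Nil.ROne.GraphB
import Cfsg.Agent.Cit.OneBasic
import Cfsg.Agent.GH.QAZStar
import Cfsg.Agent.Lib.BenderMaximal
import Cfsg.Agent.Lib.KleinGen
import Cfsg.Agent.TwoFusion.PerfCore
import Cfsg.Prelude.Def_TwoFusion

/-!
# S1309: SC (abstract)

`Z` a set of involutions of `G0 = F*(G)` (simple), closed under conjugation, such that every Sylow 2-subgroup
centralises an element of `Z`; `N z ≤ C(z)` equivariant with `N z = N t` for commuting `z, t ∈ Z`; `O(C(z)) = 1`; no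
strongly closed commutative subgroup in `G0`. Then `N z = 1` (`Sit.eq_bot`; S1173 is a hypothesis).

* `Sit.fus` : fusion in a Sylow 2-subgroup `S` with `z ∈ C(S)` is controlled by `N_G(N z)`;
* `Sit.no_ab` : no commutative 2-subgroup of `G0` is normalised by `N_G(N z)`;
* `Sit.solvable` : `C(T)` is solvable for `T ≠ 1` strongly closed.
-/

set_option autoImplicit false
set_option linter.style.haveILetI false
set_option linter.unusedSectionVars false

namespace Cfsg.Agent.Cit.Nil.SC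

open Subgroup Cfsg Cfsg.Agent.Cit Cfsg.Agent.Cit.Nil.ROne

variable {G : Type*} [Group G]

theorem cj_mul' (x y : G) (A : Subgroup G) : cj x (cj y A) = cj (x * y) A := by
  ext g
  simp only [mem_cj]
  constructor
  · intro h
    have e : (x * y)⁻¹ * g * (x * y) = y⁻¹ * (x⁻¹ * g * x) * y := by group
    rwa [e]
  · intro h
    have e : (x * y)⁻¹ * g * (x * y) = y⁻¹ * (x⁻¹ * g * x) * y := by group
    rwa [e] at h

theorem cj_max {Y A : Subgroup G} {m : G} (hm : cj m Y = Y) (hAY : A ≤ Y) (hn : Y ≤ normalizer (A : Set G)) :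
    cj m A ≤ Y ∧ Y ≤ normalizer (cj m A : Set G) := by
  refine ⟨(cj_mono m hAY).trans hm.le, fun y hy => ?_⟩
  rw [mem_normalizer_iff_cj]
  have h1 : m⁻¹ * y * m ∈ Y := by
    rw [← mem_cj, hm]; exact hy
  have h2 := mem_normalizer_iff_cj.1 (hn h1)
  have h3 : y * m = m * (m⁻¹ * y * m) := by group
  rw [cj_mul', h3, ← cj_mul', h2]

/-- the situation of SC -/
structure Sit [Finite G] (Z : Set G) (G0 : Subgroup G) (N : G → Subgroup G) : Prop where
  sq : ∀ z ∈ Z, z * z = 1
  ne : ∀ z ∈ Z, z ≠ 1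
  conj : ∀ z ∈ Z, ∀ g : G, g * z * g⁻¹ ∈ Z
  fs : FSimp G0
  sub : ∀ z ∈ Z, z ∈ G0
  syl : ∀ S : Sylow 2 G, ∃ t ∈ Z, ∀ s ∈ (S : Subgroup G), s * t = t * s
  cores : ∀ z ∈ Z, OO (centralizer {z}) = ⊥
  closed : ∀ (S : Sylow 2 G) (A : Subgroup G), A ≠ ⊥ → A ≤ G0 → (∀ x ∈ A, ∀ y ∈ A, x * y = y * x) →
    ¬ IsStronglyClosed A (S : Subgroup G)
  eqv : ∀ z ∈ Z, ∀ g : G, N (g * z * g⁻¹) = cj g (N z)
  cent : ∀ z ∈ Z, ∀ n ∈ N z, n * z = z * n
  comm : ∀ z ∈ Z, ∀ t ∈ Z, z * t = t * z → N z = N t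

namespace Sit

variable [Finite G] {Z : Set G} {G0 : Subgroup G} {N : G → Subgroup G} (h : Sit Z G0 N) {z t u x y g : G}

include h

theorem isPGroup (hz : z ∈ Z) : IsPGroup 2 (zpowers z) := by
  refine IsPGroup.of_card (n := 1) ?_
  rw [Nat.card_zpowers, pow_one]
  exact orderOf_eq_prime (by rw [pow_two]; exact h.sq z hz) (h.ne z hz)

/-- elements commuting with `z` normalise `N z` -/
theorem norm_of_comm (hz : z ∈ Z) (hg : g * z = z * g) : g ∈ normalizer (N z : Set G) := by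
  rw [mem_normalizer_iff_cj, ← h.eqv z hz g, hg, mul_inv_cancel_right]

theorem norm_mem (hg : g ∈ normalizer (N z : Set G)) (hu : u ∈ Z) (hN : N u = N z) :
    g * u * g⁻¹ ∈ Z ∧ N (g * u * g⁻¹) = N z := by
  refine ⟨h.conj u hu g, ?_⟩
  rw [h.eqv u hu g, hN]
  exact mem_normalizer_iff_cj.1 hg

/-- **fusion** -/
theorem fus (S : Sylow 2 G) (hz : z ∈ Z) (hzS : ∀ s ∈ (S : Subgroup G), s * z = z * s) (hx : x ∈ (S : Subgroup G))
    (hg : g * x * g⁻¹ ∈ (S : Subgroup G)) : ∃ m ∈ normalizer (N z : Set G), m * x * m⁻¹ = g * x * g⁻¹ := by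
  set y := g * x * g⁻¹ with hy
  have hyp : IsPGroup 2 (zpowers y) := S.isPGroup'.to_le (by rw [zpowers_le]; exact hg)
  have hyC : y ∈ centralizer {y} := mem_centralizer_singleton_iff.2 rfl
  have hzy : z * y = y * z := (hzS y hg).symm
  have hzC : z ∈ centralizer {y} := mem_centralizer_singleton_iff.2 hzy
  -- 2-subgroups `⟨z', y⟩` of `C(y)`
  have key : ∀ v ∈ Z, v * y = y * v → ∃ P, Syl P (centralizer {y}) ∧ v ∈ P ∧ y ∈ P := by
    intro v hv hvy
    have h1 : zpowers v ≤ normalizer (zpowers y : Set G) := by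
      rw [zpowers_le, mem_normalizer_iff_cj]
      have h2 : v * y * v⁻¹ = y := by rw [hvy, mul_inv_cancel_right]
      show (zpowers y).map (MulAut.conj v).toMonoidHom = _
      rw [MonoidHom.map_zpowers]
      show zpowers (v * y * v⁻¹) = _
      rw [h2]
    have h2 : IsPGroup 2 (zpowers v ⊔ zpowers y : Subgroup G) := Cit.OneBasic.isPGroup_sup_of_normalizes (h.isPGroup hv) hyp h1
    obtain ⟨P, hP, hle⟩ := Cit.OneBasic.exists_syl_ge h2 (sup_le (by rw [zpowers_le]; exact mem_centralizer_singleton_iff.2 hvy)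
      (by rw [zpowers_le]; exact hyC))
    exact ⟨P, hP, hle (mem_sup_left (mem_zpowers v)), hle (mem_sup_right (mem_zpowers y))⟩
  obtain ⟨P, hP, hzP, hyP⟩ := key z hz hzy
  have hgz : g * z * g⁻¹ ∈ Z := h.conj z hz g
  have hgzy : g * z * g⁻¹ * y = y * (g * z * g⁻¹) := by
    have h1 : z * x = x * z := (hzS x hx).symm
    calc g * z * g⁻¹ * y = g * (z * x) * g⁻¹ := by rw [hy]; group
      _ = g * (x * z) * g⁻¹ := by rw [h1]
      _ = _ := by rw [hy]; group
  obtain ⟨P', hP', hzP', -⟩ := key _ hgz hgzy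
  obtain ⟨c, hc, hcP⟩ := hP'.exists_conj hP
  obtain ⟨S1, hS1⟩ := hP.2.1.exists_le_sylow
  obtain ⟨t, ht, htS⟩ := h.syl S1
  have h1 : N z = N t := h.comm z hz t ht (htS z (hS1 hzP))
  have h2 : c * (g * z * g⁻¹) * c⁻¹ ∈ P := by
    rw [← hcP]; exact conj_mem_cj hzP'
  have h3 : c * (g * z * g⁻¹) * c⁻¹ = (c * g) * z * (c * g)⁻¹ := by group
  have h4 : N ((c * g) * z * (c * g)⁻¹) = N t := by
    refine h.comm _ (h.conj z hz _) t ht ?_
    rw [← h3]
    exact htS _ (hS1 h2)
  refine ⟨c * g, ?_, ?_⟩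
  · rw [mem_normalizer_iff_cj, ← h.eqv z hz, h4, h1]
  · have h5 : c * y = y * c := mem_centralizer_singleton_iff.1 hc
    calc c * g * x * (c * g)⁻¹ = c * y * c⁻¹ := by rw [hy]; group
      _ = y := by rw [h5, mul_inv_cancel_right]

theorem sylow_le (S : Sylow 2 G) (hz : z ∈ Z) (hzS : ∀ s ∈ (S : Subgroup G), s * z = z * s) :
    (S : Subgroup G) ≤ normalizer (N z : Set G) := fun _ hs => h.norm_of_comm hz (hzS _ hs)

/-- a subgroup of `S` normalised by `N_G(N z)` is strongly closed -/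
theorem strong (S : Sylow 2 G) (hz : z ∈ Z) (hzS : ∀ s ∈ (S : Subgroup G), s * z = z * s) {A : Subgroup G}
    (hn : normalizer (N z : Set G) ≤ normalizer (A : Set G)) :
    IsStronglyClosed (A ⊓ S) (S : Subgroup G) := by
  refine ⟨inf_le_right, fun x hx g hg => ?_⟩
  obtain ⟨m, hm, h1⟩ := h.fus S hz hzS hx.2 hg
  refine ⟨?_, hg⟩
  rw [← h1]
  exact (mem_normalizer_iff.1 (hn hm) x).1 hx.1

/-- **no commutative 2-subgroup of `G0` is normalised by `N_G(N z)`** -/
theorem no_ab (S : Sylow 2 G) (hz : z ∈ Z) (hzS : ∀ s ∈ (S : Subgroup G), s * z = z * s) {A : Subgroup G}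
    (hA : IsPGroup 2 A) (hA0 : A ≤ G0) (hc : ∀ x ∈ A, ∀ y ∈ A, x * y = y * x)
    (hn : normalizer (N z : Set G) ≤ normalizer (A : Set G)) : A = ⊥ := by
  by_contra hne
  have h1 : A ≤ S := by
    have h2 : IsPGroup 2 ((S : Subgroup G) ⊔ A : Subgroup G) :=
      Cit.OneBasic.isPGroup_sup_of_normalizes S.isPGroup' hA ((h.sylow_le S hz hzS).trans hn)
    have h3 := S.is_maximal' h2 le_sup_left
    exact le_sup_right.trans h3.le
  have h2 := h.strong S hz hzS hn
  rw [inf_eq_left.2 h1] at h2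
  exact h.closed S A hne hA0 hc h2

/-- no 2-subgroup of `G0` is normalised by `N_G(N z)` -/
theorem no_two (S : Sylow 2 G) (hz : z ∈ Z) (hzS : ∀ s ∈ (S : Subgroup G), s * z = z * s) {A : Subgroup G}
    (hA : IsPGroup 2 A) (hA0 : A ≤ G0) (hn : normalizer (N z : Set G) ≤ normalizer (A : Set G)) : A = ⊥ := by
  haveI : Fact (Nat.Prime 2) := ⟨Nat.prime_two⟩
  by_contra hne
  have hB : A ⊓ centralizer (A : Set G) = ⊥ := by
    refine h.no_ab S hz hzS (hA.to_le inf_le_left) (inf_le_left.trans hA0) ?_ ?_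
    · intro x hx y hy
      exact mem_centralizer_iff.1 hy.2 x hx.1
    · intro m hm
      have h1 := mem_normalizer_iff.1 (hn hm)
      rw [mem_normalizer_iff]
      have key : ∀ m, (∀ x, x ∈ A ↔ m * x * m⁻¹ ∈ A) → ∀ x ∈ A ⊓ centralizer (A : Set G),
          m * x * m⁻¹ ∈ A ⊓ centralizer (A : Set G) := by
        intro m h1 x hx
        refine ⟨(h1 x).1 hx.1, ?_⟩
        show _ ∈ centralizer (A : Set G)
        rw [mem_centralizer_iff]
        intro a ha
        have h2 : m⁻¹ * a * m ∈ A := by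
          rw [h1]
          have : m * (m⁻¹ * a * m) * m⁻¹ = a := by group
          rw [this]; exact ha
        have h3 := mem_centralizer_iff.1 hx.2 _ h2
        calc a * (m * x * m⁻¹) = m * (m⁻¹ * a * m * x) * m⁻¹ := by group
          _ = m * (x * (m⁻¹ * a * m)) * m⁻¹ := by rw [h3]
          _ = m * x * m⁻¹ * a := by group
      intro x
      refine ⟨key m h1 x, fun hx => ?_⟩
      have h2 : ∀ x, x ∈ A ↔ m⁻¹ * x * m⁻¹⁻¹ ∈ A := by
        intro x
        rw [h1 (m⁻¹ * x * m⁻¹⁻¹)]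
        have : m * (m⁻¹ * x * m⁻¹⁻¹) * m⁻¹ = x := by group
        rw [this]
      have h3 := key m⁻¹ h2 _ hx
      have h4 : m⁻¹ * (m * x * m⁻¹) * m⁻¹⁻¹ = x := by group
      rwa [h4] at h3
  haveI : Nontrivial A := (nontrivial_iff_ne_bot _).2 hne
  haveI := hA.center_nontrivial
  obtain ⟨c, hc⟩ := exists_ne (1 : center A)
  apply hc
  have h1 : ((c : A) : G) ∈ A ⊓ centralizer (A : Set G) := by
    refine ⟨(c : A).2, ?_⟩
    show _ ∈ centralizer (A : Set G)
    rw [mem_centralizer_iff]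
    intro a ha
    exact congrArg Subtype.val (mem_center_iff.1 c.2 ⟨a, ha⟩)
  rw [hB, mem_bot] at h1
  exact Subtype.ext (Subtype.ext h1)

/-- **`C(T)` is solvable for strongly closed `T ≠ 1`** -/
theorem solvable (h1173 : ∀ (S : Sylow 2 G) (T : Subgroup G), IsStronglyClosed T (S : Subgroup G) →
      ((⨅ n : ℕ, derivedSeries ↥(centralizer (T : Set G)) n).map (centralizer (T : Set G)).subtype).Normal)
    (S : Sylow 2 G) {T : Subgroup G} (hT : T ≠ ⊥) (hc : IsStronglyClosed T (S : Subgroup G)) :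
    Group.IsSolvable (centralizer (T : Set G)) := by
  have h1 := h1173 S T hc
  rw [← TwoFusion.PerfCore.perf_eq_iInf] at h1
  refine TwoFusion.PerfCore.solvable_of_perf_eq_bot ?_
  by_contra h2
  have h3 : G0 ≤ TwoFusion.PerfCore.perf (centralizer (T : Set G)) :=
    h.fs.le (fun g _ n hn => h1.conj_mem n hn g) h2
  apply hT
  rw [eq_bot_iff, ← h.fs.cen]
  intro a ha
  rw [mem_centralizer_iff]
  intro x hx
  exact (mem_centralizer_iff.1 (TwoFusion.PerfCore.perf_le _ (h3 hx)) a ha).symm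

/-- `N z = 1` for `z` central in a Sylow 2-subgroup -/
theorem eq_bot_of_central
    (h1173 : ∀ (S : Sylow 2 G) (T : Subgroup G), IsStronglyClosed T (S : Subgroup G) →
      ((⨅ n : ℕ, derivedSeries ↥(centralizer (T : Set G)) n).map (centralizer (T : Set G)).subtype).Normal)
    (S : Sylow 2 G) (hz : z ∈ Z) (hzS : ∀ s ∈ (S : Subgroup G), s * z = z * s) : N z = ⊥ := by
  haveI : Fact (Nat.Prime 2) := ⟨Nat.prime_two⟩
  by_contra hne
  have hSM := h.sylow_le S hz hzS
  -- odd order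
  have hodd : ∀ u ∈ Z, ∀ F : Subgroup G, F ≤ centralizer {u} → centralizer {u} ≤ normalizer (F : Set G) →
      ¬ 2 ∣ Nat.card F → F = ⊥ := by
    intro u hu F h1 h2 h3
    have := le_OO h1 h2 h3
    rw [h.cores u hu] at this
    exact le_bot_iff.1 this
  have h2N : 2 ∣ Nat.card (N z) := by
    by_contra h1
    refine hne (hodd z hz _ (fun n hn => mem_centralizer_singleton_iff.2 (h.cent z hz n hn)) ?_ h1)
    intro g hg
    exact h.norm_of_comm hz (mem_centralizer_singleton_iff.1 hg)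
  -- `T = S ∩ N`
  set T := N z ⊓ (S : Subgroup G) with hTdef
  have hT : T ≠ ⊥ := by
    obtain ⟨x, hx⟩ := exists_prime_orderOf_dvd_card' 2 h2N
    have hx1 : orderOf (x : G) = 2 := by rw [← hx]; exact Subgroup.orderOf_coe x
    have hxp : IsPGroup 2 (zpowers (x : G)) := IsPGroup.of_card (n := 1) (by rw [Nat.card_zpowers, hx1, pow_one])
    have hxM : zpowers (x : G) ≤ normalizer (N z : Set G) := by
      rw [zpowers_le]; exact le_normalizer x.2
    obtain ⟨P, hP, hle⟩ := Cit.OneBasic.exists_syl_ge hxp hxM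
    have hS : Syl (S : Subgroup G) (normalizer (N z : Set G)) := by
      refine ⟨hSM, S.isPGroup', fun h1 => ?_⟩
      have h2 := relIndex_mul_index hSM
      exact S.not_dvd_index (h2 ▸ h1.mul_right _)
    obtain ⟨m, hm, hmP⟩ := hP.exists_conj hS
    intro h1
    have h2 : m * x * m⁻¹ ∈ T := by
      refine ⟨(mem_normalizer_iff.1 hm _).1 x.2, ?_⟩
      show _ ∈ (S : Subgroup G)
      rw [← hmP]
      exact conj_mem_cj (hle (mem_zpowers _))
    rw [h1, mem_bot] at h2
    have h3 : (x : G) = 1 := by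
      have : (x : G) = m⁻¹ * (m * x * m⁻¹) * m := by group
      rw [this, h2]; group
    rw [h3, orderOf_one] at hx1
    omega
  have hTc : IsStronglyClosed T (S : Subgroup G) := by
    refine ⟨inf_le_right, fun x hx g hg => ?_⟩
    obtain ⟨m, hm, h1⟩ := h.fus S hz hzS hx.2 hg
    refine ⟨?_, hg⟩
    rw [← h1]
    exact (mem_normalizer_iff.1 hm x).1 hx.1
  have hsol := h.solvable h1173 S hT hTc
  -- `Y`
  set Y := closure {u | u ∈ Z ∧ N u = N z} with hYdef
  have hYC : Y ≤ centralizer (T : Set G) := by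
    rw [hYdef, closure_le]
    rintro u ⟨hu, hN⟩
    rw [SetLike.mem_coe, mem_centralizer_iff]
    intro n hn
    exact h.cent u hu n (by rw [hN]; exact hn.1)
  have hYG : Y ≤ G0 := by
    rw [hYdef, closure_le]
    rintro u ⟨hu, -⟩
    exact h.sub u hu
  have hYn : normalizer (N z : Set G) ≤ normalizer (Y : Set G) := by
    intro m hm
    rw [mem_normalizer_iff_cj]
    have key : ∀ m ∈ normalizer (N z : Set G), cj m Y ≤ Y := by
      intro m hm
      show Y.map (MulAut.conj m).toMonoidHom ≤ Y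
      rw [map_le_iff_le_comap, hYdef, closure_le]
      rintro u ⟨hu, hN⟩
      exact subset_closure (h.norm_mem hm hu hN)
    refine le_antisymm (key m hm) ?_
    have h1 := cj_mono m (key m⁻¹ (inv_mem hm))
    rwa [cj_cj_inv] at h1
  haveI := hsol
  have hYs : Group.IsSolvable Y :=
    Group.isSolvable_of_isSolvable_injective (f := Subgroup.inclusion hYC) (Subgroup.inclusion_injective hYC)
  have hcjY : ∀ m ∈ normalizer (N z : Set G), cj m Y = Y := fun m hm => mem_normalizer_iff_cj.1 (hYn hm)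
  have hnorm : ∀ A : Subgroup G, (∀ m ∈ normalizer (N z : Set G), cj m A ≤ A) →
      normalizer (N z : Set G) ≤ normalizer (A : Set G) := by
    intro A hA m hm
    rw [mem_normalizer_iff_cj]
    refine le_antisymm (hA m hm) ?_
    have h1 := cj_mono m (hA m⁻¹ (inv_mem hm))
    rwa [cj_cj_inv] at h1
  -- `O₂(Y) = 1`
  have hO2 : (pCore 2 Y).map Y.subtype = ⊥ := by
    refine h.no_two S hz hzS (Lib.LocalCore.isPGroup_map_pCore 2 Y) ((map_subtype_le _).trans hYG) (hnorm _ ?_)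
    intro m hm
    obtain ⟨h1, h2⟩ := cj_max (hcjY m hm) (map_subtype_le (pCore 2 Y)) (Lib.LocalCore.le_normalizer_map_pCore 2 Y)
    exact Lib.LocalCore.le_map_pCore h1 (isPGroup_cj (Lib.LocalCore.isPGroup_map_pCore 2 Y)) h2
  set F := (fittingSubgroup Y).map Y.subtype with hF
  have hF2 : ¬ 2 ∣ Nat.card F := fun h1 => Lib.BenderMaximal.map_pCore_ne_bot h1 hO2
  have hFY : F ≤ Y := map_subtype_le _
  have hFn : normalizer (N z : Set G) ≤ normalizer (F : Set G) := by
    refine hnorm _ fun m hm => ?_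
    obtain ⟨h1, h2⟩ := cj_max (hcjY m hm) hFY (Lib.LocalCore.le_normalizer_map_fittingSubgroup Y)
    refine Lib.LocalCore.le_map_fittingSubgroup h1 ?_ h2
    haveI := Lib.Cores.fittingSubgroup_isNilpotent (G := Y)
    have h3 : Group.IsNilpotent F :=
      Group.nilpotent_of_mulEquiv ((fittingSubgroup Y).equivMapOfInjective Y.subtype Y.subtype_injective)
    haveI := h3
    exact Group.nilpotent_of_mulEquiv (cjEquiv m F)
  -- elements of `D` invert `F`
  have hinv : ∀ u ∈ Z, N u = N z → ∀ f ∈ F, u * f * u⁻¹ = f⁻¹ := by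
    intro u hu hN f hf
    have hCM : centralizer {u} ≤ normalizer (N z : Set G) := by
      intro g hg
      rw [← hN]
      exact h.norm_of_comm hu (mem_centralizer_singleton_iff.1 hg)
    have huM : u ∈ normalizer (N z : Set G) := hCM (mem_centralizer_singleton_iff.2 rfl)
    have h1 : F ⊓ centralizer {u} = ⊥ := by
      refine hodd u hu _ inf_le_right ?_ fun h1 => hF2 (h1.trans (card_dvd_of_le inf_le_left))
      intro g hg
      rw [mem_normalizer_iff_cj, cj_inf, mem_normalizer_iff_cj.1 (hFn (hCM hg)),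
        mem_normalizer_iff_cj.1 (le_normalizer hg)]
    obtain ⟨c, hc, k, hk, h2, h3, h4⟩ := Lib.KleinGen.exists_centralizer_mul_inverted F
      (Nat.not_even_iff_odd.1 fun h1 => hF2 h1.two_dvd) u (h.sq u hu)
      (fun f hf => (mem_normalizer_iff.1 (hFn huM) f).1 hf) hf
    have h5 : c ∈ F ⊓ centralizer {u} := ⟨hc, mem_centralizer_singleton_iff.2 h2.symm⟩
    rw [h1, mem_bot] at h5
    rw [h4, h5, one_mul]
    exact h3
  -- two commuting elements
  obtain ⟨v, hv, hvne, hzv⟩ : ∃ v ∈ Z, v ≠ z ∧ z * v = v * z := by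
    have hnc : ¬ IsMulCommutative G0 := by
      intro h2
      exact h.fs.na fun x hx y hy => congrArg Subtype.val (h2.is_comm.comm ⟨x, hx⟩ ⟨y, hy⟩)
    obtain ⟨g, h2, h3⟩ := GH.QA.not_isolated h.fs.sim hnc (u := (⟨z, h.sub z hz⟩ : G0))
      (Subtype.ext (h.sq z hz)) (fun h2 => h.ne z hz (congrArg Subtype.val h2))
    exact ⟨g * z * (g : G)⁻¹, h.conj z hz g, fun h4 => h3 (Subtype.ext h4), congrArg Subtype.val h2⟩
  have hNv : N v = N z := (h.comm z hz v hv hzv).symm
  have hzvC : z * v ∈ Y ⊓ centralizer (F : Set G) := by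
    refine ⟨mul_mem (subset_closure ⟨hz, rfl⟩) (subset_closure ⟨hv, hNv⟩), ?_⟩
    show _ ∈ centralizer (F : Set G)
    rw [mem_centralizer_iff]
    intro f hf
    have h1 := hinv v hv hNv f hf
    have h2 := hinv z hz rfl f⁻¹ (inv_mem hf)
    rw [inv_inv] at h2
    have h3 : z * v * f * (z * v)⁻¹ = f := by
      calc z * v * f * (z * v)⁻¹ = z * (v * f * v⁻¹) * z⁻¹ := by group
        _ = f := by rw [h1, h2]
    exact (mul_inv_eq_iff_eq_mul.1 h3).symm
  have h1 := Lib.BenderMaximal.inf_centralizer_fitting_le hYs hzvC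
  have h2 : (z * v) * (z * v) = 1 := by
    calc (z * v) * (z * v) = z * (v * z) * v := by group
      _ = (z * z) * (v * v) := by rw [← hzv]; group
      _ = 1 := by rw [h.sq z hz, h.sq v hv, one_mul]
  have h3 : z * v ≠ 1 := by
    intro h3
    apply hvne
    have h4 : v = z⁻¹ := eq_inv_of_mul_eq_one_right h3
    rw [h4]
    exact inv_eq_of_mul_eq_one_right (h.sq z hz)
  have h4 : orderOf (z * v) = 2 := orderOf_eq_prime (by rw [pow_two]; exact h2) h3
  apply hF2
  have h5 : orderOf (⟨z * v, h1⟩ : F) ∣ Nat.card F := orderOf_dvd_natCard _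
  rwa [Subgroup.orderOf_mk, h4] at h5

/-- **SC** -/
theorem eq_bot
    (h1173 : ∀ (S : Sylow 2 G) (T : Subgroup G), IsStronglyClosed T (S : Subgroup G) →
      ((⨅ n : ℕ, derivedSeries ↥(centralizer (T : Set G)) n).map (centralizer (T : Set G)).subtype).Normal)
    (hz : z ∈ Z) : N z = ⊥ := by
  obtain ⟨S, hS⟩ := (h.isPGroup hz).exists_le_sylow
  obtain ⟨t, ht, htS⟩ := h.syl S
  rw [h.comm z hz t ht (htS z (hS (mem_zpowers z)))]
  exact h.eq_bot_of_central h1173 S ht htS

end Sit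

end Cfsg.Agent.Cit.Nil.SC
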