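import Cfsg.Agent.Cit.Nil.SC
import Cfsg.Agent.Cit.Nil.ROne.EndG0
import Cfsg.Agent.Cit.WeakCl
import Cfsg.Agent.Cit.NilComp

/-!
# S1309: SC for the worlds `r ≥ 2`, `m = 1`

`Om` : members are 2-groups, commuting members have the same `zz` (`m = 1`), over every `z` there are two different
members (`r ≥ 2`); `G0 = F*(G)` simple, all members in `G0`.

* `Wd.central` : `K ≤ S` : `zz K` is central in the Sylow 2-subgroup `S`;
* `Wd.false_of_closed` : no strongly closed commutative subgroup in `G0` (Bender's theorem, S1169);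
* `Wd.eq_bot` : **SC** : `N z = 1`.
-/

set_option autoImplicit false
set_option linter.style.haveILetI false
set_option linter.unusedSectionVars false

namespace Cfsg.Agent.Cit.Nil.SC

open Subgroup Cfsg Cfsg.Agent.Cit Cfsg.Agent.Cit.Nil.ROne

variable {G : Type*} [Group G] {Om : Set (Subgroup G)} {G0 K L A : Subgroup G} {N : G → Subgroup G} {z g : G}

/-- the world of SC -/
structure Wd (Om : Set (Subgroup G)) : Prop where
  hyp : Hyp Om
  two : ∀ K ∈ Om, IsPGroup 2 K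
  one : ∀ K ∈ Om, ∀ L ∈ Om, (∀ k ∈ K, ∀ l ∈ L, k * l = l * k) → zz K = zz L
  dbl : ∀ K ∈ Om, ∃ L ∈ Om, L ≠ K ∧ zz L = zz K
  ne : Om.Nonempty

namespace Wd

variable [Finite G] (h : Wd Om)

include h

theorem mem_OmS (hK : K ∈ Om) {S : Subgroup G} (hKS : K ≤ S) : K ∈ OmS Om S :=
  mem_OmS_of_le hK (syl_self (h.two K hK)) hKS

theorem comm {S : Subgroup G} (hS : IsPGroup 2 S) (hK : K ∈ Om) (hL : L ∈ Om) (hKS : K ≤ S) (hLS : L ≤ S)
    (hne : K ≠ L) {k l : G} (hk : k ∈ K) (hl : l ∈ L) : k * l = l * k :=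
  h.hyp.comm hS (h.mem_OmS hK hKS) (h.mem_OmS hL hLS) hne ⟨hk, hKS hk⟩ ⟨hl, hLS hl⟩

theorem zz_eq {S : Subgroup G} (hS : IsPGroup 2 S) (hK : K ∈ Om) (hL : L ∈ Om) (hKS : K ≤ S) (hLS : L ≤ S) :
    zz K = zz L := by
  by_cases hne : K = L
  · rw [hne]
  · exact h.one K hK L hL fun k hk l hl => h.comm hS hK hL hKS hLS hne hk hl

/-- `zz K` is central in `S ≥ K` -/
theorem central {S : Subgroup G} (hS : IsPGroup 2 S) (hK : K ∈ Om) (hKS : K ≤ S) {s : G} (hs : s ∈ S) :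
    s * zz K = zz K * s := by
  have h1 : cj s K ≤ S := by
    have h2 := cj_mono s hKS
    rwa [mem_normalizer_iff_cj.1 (le_normalizer hs)] at h2
  have h2 := h.zz_eq hS hK (h.hyp.conj K hK s) hKS h1
  rw [h.hyp.zz_cj hK] at h2
  rw [← mul_inv_eq_iff_eq_mul, ← h2]

/-- every Sylow 2-subgroup contains two members over the same `z` -/
theorem exists_two (S : Sylow 2 G) : ∃ K ∈ Om, ∃ L ∈ Om, K ≠ L ∧ zz L = zz K ∧ K ≤ S ∧ L ≤ S := by
  obtain ⟨K, hK⟩ := h.ne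
  obtain ⟨L, hL, hne, hz⟩ := h.dbl K hK
  have hc : ∀ k ∈ K, ∀ l ∈ L, k * l = l * k := by
    have h1 := h.hyp.comm_of_zz_comm hK hL (h.two K hK) (h.two L hL) (fun k hk => by
      rw [hz]; exact h.hyp.comm_zz hK (le_normalizer hk)) hne.symm
    exact h1
  have h1 : K ≤ normalizer (L : Set G) := by
    intro k hk
    rw [mem_normalizer_iff_cj]
    ext x
    rw [mem_cj]
    constructor
    · intro hx
      have h2 := hc k hk _ hx
      have h3 : x = k⁻¹ * x * k := by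
        have h4 : k * (k⁻¹ * x * k) = x * k := by group
        rw [h4] at h2
        exact mul_right_cancel h2
      rw [h3]; exact hx
    · intro hx
      have h2 := hc k hk _ hx
      have h3 : k⁻¹ * x * k = x := by rw [mul_assoc, ← h2]; group
      rw [h3]; exact hx
  have h2 : IsPGroup 2 (K ⊔ L : Subgroup G) := Cit.OneBasic.isPGroup_sup_of_normalizes (h.two K hK) (h.two L hL) h1
  obtain ⟨S', hS'⟩ := h2.exists_le_sylow
  obtain ⟨g, hg⟩ := exists_cj_sylow S' S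
  refine ⟨cj g K, h.hyp.conj K hK g, cj g L, h.hyp.conj L hL g, fun h3 => hne (cj_inj.1 h3).symm, ?_, ?_, ?_⟩
  · rw [h.hyp.zz_cj hK, h.hyp.zz_cj hL, hz]
  · rw [← hg]; exact cj_mono g (le_sup_left.trans hS')
  · rw [← hg]; exact cj_mono g (le_sup_right.trans hS')

/-- **no strongly closed commutative subgroup in `G0`** -/
theorem false_of_closed (f : FSimp G0) (hle : ∀ K ∈ Om, K ≤ G0) (gold : Cit.ROne.Gold G0) (hB : CloEnd.Bend G0)
    (S : Sylow 2 G) (hA : A ≠ ⊥) (hAG : A ≤ G0) (hc : ∀ x ∈ A, ∀ y ∈ A, x * y = y * x) :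
    ¬ IsStronglyClosed A (S : Subgroup G) := by
  intro hsc
  obtain ⟨K, hK, L, hL, hne, -, hKS, hLS⟩ := h.exists_two S
  obtain ⟨T, hT⟩ := exists_sylow_subgroupOf f.nor S
  have hA' : A.subgroupOf G0 ≠ ⊥ := by
    intro h1
    apply hA
    rw [← map_subgroupOf_eq_of_le hAG, h1, Subgroup.map_bot]
  have hc' : ∀ x ∈ A.subgroupOf G0, ∀ y ∈ A.subgroupOf G0, x * y = y * x := fun x hx y hy =>
    Subtype.ext (hc x hx y hy)
  have hsc' : IsStronglyClosed (A.subgroupOf G0) (T : Subgroup G0) := by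
    refine ⟨?_, fun x hx g hg => ?_⟩
    · rw [hT]
      exact comap_mono hsc.1
    · rw [hT] at hg
      exact hsc.2 x hx g hg
  have key : ∀ K ∈ Om, K ≤ (S : Subgroup G) → K.subgroupOf G0 ∈ OmS (restr Om G0) (T : Subgroup G0) := by
    intro K hK hKS
    refine mem_OmS_of_le (subgroupOf_mem_restr hK (hle K hK)) (syl_self ((h.two K hK).comap_subtype)) ?_
    rw [hT]
    exact comap_mono hKS
  refine Cit.ROne.false_of_closed (h.hyp.restr G0) T (key K hK hKS) (key L hL hLS) ?_ gold hB hA' hc' hsc'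
  intro h1
  apply hne
  rw [← map_subgroupOf_eq_of_le (hle K hK), h1, map_subgroupOf_eq_of_le (hle L hL)]

/-- the situation of SC -/
theorem sit (f : FSimp G0) (hle : ∀ K ∈ Om, K ≤ G0) (gold : Cit.ROne.Gold G0) (hB : CloEnd.Bend G0)
    (cores : ∀ K ∈ Om, OO (centralizer {zz K}) = ⊥)
    (eqv : ∀ K ∈ Om, ∀ g : G, N (g * zz K * g⁻¹) = cj g (N (zz K)))
    (cent : ∀ K ∈ Om, ∀ n ∈ N (zz K), n * zz K = zz K * n)
    (comm : ∀ K ∈ Om, ∀ L ∈ Om, zz K * zz L = zz L * zz K → N (zz K) = N (zz L)) :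
    Sit {z | ∃ K ∈ Om, zz K = z} G0 N where
  sq := by
    rintro _ ⟨K, hK, rfl⟩
    have h1 := pow_orderOf_eq_one (zz K)
    rwa [h.hyp.orderOf_zz hK, pow_two] at h1
  ne := by
    rintro _ ⟨K, hK, rfl⟩ h1
    have h2 := h.hyp.orderOf_zz hK
    rw [h1, orderOf_one] at h2
    omega
  conj := by
    rintro _ ⟨K, hK, rfl⟩ g
    exact ⟨cj g K, h.hyp.conj K hK g, h.hyp.zz_cj hK g⟩
  fs := f
  sub := by
    rintro _ ⟨K, hK, rfl⟩
    exact hle K hK (h.hyp.zz_mem hK)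
  syl S := by
    obtain ⟨K, hK, L, hL, hne, -, hKS, hLS⟩ := h.exists_two S
    exact ⟨_, ⟨K, hK, rfl⟩, fun s hs => h.central S.isPGroup' hK hKS hs⟩
  cores := by
    rintro _ ⟨K, hK, rfl⟩
    exact cores K hK
  closed S A h1 h2 h3 := h.false_of_closed f hle gold hB S h1 h2 h3
  eqv := by
    rintro _ ⟨K, hK, rfl⟩
    exact eqv K hK
  cent := by
    rintro _ ⟨K, hK, rfl⟩
    exact cent K hK
  comm := by
    rintro _ ⟨K, hK, rfl⟩ _ ⟨L, hL, rfl⟩
    exact comm K hK L hL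

/-- **SC** -/
theorem eq_bot (f : FSimp G0) (hle : ∀ K ∈ Om, K ≤ G0) (gold : Cit.ROne.Gold G0) (hB : CloEnd.Bend G0)
    (h1173 : ∀ (S : Sylow 2 G) (T : Subgroup G), IsStronglyClosed T (S : Subgroup G) →
      ((⨅ n : ℕ, derivedSeries ↥(centralizer (T : Set G)) n).map (centralizer (T : Set G)).subtype).Normal)
    (cores : ∀ K ∈ Om, OO (centralizer {zz K}) = ⊥)
    (eqv : ∀ K ∈ Om, ∀ g : G, N (g * zz K * g⁻¹) = cj g (N (zz K)))
    (cent : ∀ K ∈ Om, ∀ n ∈ N (zz K), n * zz K = zz K * n)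
    (comm : ∀ K ∈ Om, ∀ L ∈ Om, zz K * zz L = zz L * zz K → N (zz K) = N (zz L)) (hK : K ∈ Om) :
    N (zz K) = ⊥ :=
  (h.sit f hle gold hB cores eqv cent comm).eq_bot h1173 ⟨K, hK, rfl⟩

end Wd

end Cfsg.Agent.Cit.Nil.SC
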