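import Cfsg.Agent.Cit.Nil.Top

/-!
# S1309: the world `SCK` of the nodes of the simple case

* `SCK G K` : one class, `SCW G (cls K)`, core-free, (C3); everything else is a theorem about it;
* `SCK.false_of_many` : `r ≥ 3`, `r ≠ 4` is impossible;
* `NodeCV`, `Node n` : the nodes.
-/

set_option autoImplicit false
set_option linter.style.haveILetI false
set_option linter.unusedSectionVars false

namespace Cfsg.Agent.Cit.Nil.SCMain

open Subgroup Cfsg Cfsg.Agent.Cit Cfsg.Agent.Cit.Nil.IndDefs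
open Cfsg.Agent.Cit.Nil.ROne (FSimp)

universe u

section SCW

variable {G : Type u} [Group G] [Finite G] {Om : Set (Subgroup G)} {K L M K₁ K₂ : Subgroup G}

theorem even (w : SCW G Om) : 2 ∣ Nat.card ↥(generalizedFittingSubgroup G) := by
  by_contra hodd
  have h3 : generalizedFittingSubgroup G ≤ pPrimeCore 2 G := by
    have hn : (generalizedFittingSubgroup G).Normal := Lib.GenFitting.genFitting_normal (G := G)
    refine Lib.Cores.le_pPrimeCore hn ?_
    exact (Nat.Prime.coprime_iff_not_dvd Nat.prime_two).2 hodd |>.symm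
  rw [w.t0.core, le_bot_iff] at h3
  have h4 := w.simple.toNontrivial
  rw [h3] at h4
  exact not_nontrivial _ h4

theorem fs (w : SCW G Om) : AssemblyNil.FS G := ⟨w.simple, w.na, even w⟩

theorem fsimp (w : SCW G Om) : FSimp (generalizedFittingSubgroup G) := ROne.fsimp_of w.simple w.na

theorem ne_bot (w : SCW G Om) (hK : K ∈ Om) : K ≠ ⊥ := by
  rintro rfl
  have h1 := w.t0.card _ hK
  rw [Subgroup.card_bot] at h1
  omega

end SCW

/-- **the world of the nodes**: one class, (C3), core-free, two commuting members over different involutions -/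
structure SCK (G : Type u) [Group G] [Finite G] (K : Subgroup G) : Prop where
  scw : SCW G (cls K)
  free : ∀ t : G, orderOf t = 2 → centralizerPPrimeCore 2 t = ⊥
  c3 : Nil.C3 K

namespace SCK

variable {G : Type u} [Group G] [Finite G] {K L M : Subgroup G} {z : G}

theorem t0 (w : SCK G K) : T0 (cls K) := w.scw.t0

theorem hyp (w : SCK G K) : Hyp (cls K) := w.scw.t0.hyp

theorem card (w : SCK G K) (hL : L ∈ cls K) : Nat.card L = 8 := w.scw.t0.card L hL

theorem isPGroup (w : SCK G K) (hL : L ∈ cls K) : IsPGroup 2 L :=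
  IsPGroup.of_card (n := 3) (by rw [w.card hL]; norm_num)

theorem even (w : SCK G K) : 2 ∣ Nat.card ↥(generalizedFittingSubgroup G) := SCMain.even w.scw

theorem fs (w : SCK G K) : AssemblyNil.FS G := SCMain.fs w.scw

theorem fsimp (w : SCK G K) : FSimp (generalizedFittingSubgroup G) := SCMain.fsimp w.scw

theorem pCore_eq_bot (w : SCK G K) : pCore 2 G = ⊥ := Top.pCore_eq_bot w.fsimp

theorem oddCore_eq_bot (w : SCK G K) : pPrimeCore 2 G = ⊥ := w.scw.t0.core

theorem top (w : SCK G K) : sSup (cls K) = ⊤ := w.scw.top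

theorem two (w : SCK G K) : ∃ K₁ ∈ cls K, ∃ K₂ ∈ cls K, Cm K₁ K₂ ∧ zz K₁ ≠ zz K₂ := w.scw.two

theorem three (w : SCK G K) (hL : L ∈ cls K) : ¬ Three L := w.scw.three L hL

/-- an element centralising all members is trivial -/
theorem eq_one_of_cent (w : SCK G K) {c : G} (h : ∀ L ∈ cls K, ∀ x ∈ L, c * x = x * c) : c = 1 :=
  Top.eq_one_of_cent w.fsimp w.hyp.conj (self_mem_cls K) (ne_bot w.scw (self_mem_cls K)) h

/-- `O(C(t)) = 1` in the language of `OO` -/
theorem OO_eq_bot (w : SCK G K) {j : G} (hj : j * j = 1) (hj1 : j ≠ 1) : OO (centralizer {j}) = ⊥ :=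
  haveI : Fact (Nat.Prime 2) := ⟨Nat.prime_two⟩
  w.free j (orderOf_eq_prime (by rw [pow_two]; exact hj) hj1)

/-- the number of members over `zz L` -/
theorem ncard (w : SCK G K) (hL : L ∈ cls K) : {M | M ∈ cls K ∧ zz M = zz L}.ncard = (AssemblyNil.ovr K).ncard := by
  obtain ⟨g, rfl⟩ := hL
  have h2 : {M | M ∈ cls K ∧ zz M = zz (cj g K)} = (cj g) '' (AssemblyNil.ovr K) := by
    ext M
    constructor
    · rintro ⟨hM, hz⟩
      refine ⟨cj g⁻¹ M, ⟨w.hyp.conj M hM _, ?_⟩, cj_cj_inv g M⟩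
      rw [w.hyp.zz_cj hM, hz, w.hyp.zz_cj (self_mem_cls K)]
      group
    · rintro ⟨M, ⟨hM, hz⟩, rfl⟩
      refine ⟨w.hyp.conj M hM g, ?_⟩
      rw [w.hyp.zz_cj hM, hz, w.hyp.zz_cj (self_mem_cls K)]
  rw [h2, Set.ncard_image_of_injective _ (fun A B hAB => cj_inj.1 hAB)]

/-- `zz L ∈ F*(G)` -/
theorem zz_mem (w : SCK G K) (hL : L ∈ cls K) : zz L ∈ generalizedFittingSubgroup G :=
  haveI : Fact (Nat.Prime 2) := ⟨Nat.prime_two⟩
  RG.zz_mem_of_fsimp w.hyp (fun _ hM => w.isPGroup hM) w.fsimp w.even ⟨L, hL, rfl⟩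

theorem wr (w : SCK G K) : RG.WR (cls K) := RG.WR.of_hyp w.hyp fun _ hL => w.card hL

/-- **`r ≥ 3`, `r ≠ 4` is impossible** -/
theorem false_of_many (i : RFour.LIn.{u}) (w : SCK G K) (e1 : (AssemblyNil.ovr K).ncard ≠ 1)
    (e2 : (AssemblyNil.ovr K).ncard ≠ 2) (e4 : (AssemblyNil.ovr K).ncard ≠ 4) : False := by
  have f := w.fsimp
  haveI := f.sim
  have gold : Cit.ROne.Gold ↥(generalizedFittingSubgroup G) := fun S A h1 h2 h3 => i.gold _ S A h1 h2 h3
  have hB : CloEnd.Bend ↥(generalizedFittingSubgroup G) := i.bend _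
  have h := w.wr
  have hnc : ∀ z ∈ RG.ZZ (cls K), (RG.Ov (cls K) z).ncard = (AssemblyNil.ovr K).ncard := by
    rintro _ ⟨L, hL, rfl⟩
    exact w.ncard hL
  have e0 : (AssemblyNil.ovr K).ncard ≠ 0 := by
    rw [Ne, Set.ncard_eq_zero]
    exact Set.Nonempty.ne_empty ⟨K, self_mem_cls K, rfl⟩
  have r3 : RG.R3 (cls K) := fun z hz => by rw [hnc z hz]; omega
  have hT : RG.NoTI (cls K) := RG.NoTI.of_ne h r3 fun z hz => by rw [hnc z hz]; exact e4
  have hC : RG.AllC (cls K) := fun s hs x hx hne hc => h.cp_of_comm hT r3 hs hx hne hc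
  exact h.false_of_allC hC r3.r2 w.hyp (z := zz K) ⟨K, self_mem_cls K, rfl⟩ f w.even gold hB

end SCK

/-! ### The nodes -/

/-- **(n8)**: without (C3) there is one member per Sylow 2-subgroup -/
def NodeCV : Prop := ∀ (G : Type u) [Group G] [Finite G] (Om : Set (Subgroup G)), SCW G Om →
  (∀ t : G, orderOf t = 2 → centralizerPPrimeCore 2 t = ⊥) → ∀ K ∈ Om, ¬ Nil.C3 K → One (cls K)

/-- **the node for `r = n`** -/
def Node (n : ℕ) : Prop := ∀ (G : Type u) [Group G] [Finite G] (K : Subgroup G), SCK G K →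
  (AssemblyNil.ovr K).ncard = n → False

end Cfsg.Agent.Cit.Nil.SCMain
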