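import Cfsg.Agent.Cit.OneF.Star
import Cfsg.Agent.Cit.OneF.LTwo

/-!
# (6b), `|Om(S)| = 1`, 2-nilpotent members: definitions and elementwise tools

Blueprint: `blueprints/CIT-6b-One-helper454.md`.

`IZ Om t`   : `t` is the involution of a member.
`PE Om b t` : `t` is the involution of a member `L` with `Perp b L`.
`NilK K`    : `K = O(K) Q`.
`RW Om K Q w r` : `w ∈ Q`, `w² = z`, `r ∈ C(Q)`, `r² = z`, `w r` is the involution of a member.
-/

set_option autoImplicit false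
set_option linter.style.haveILetI false
set_option linter.unusedSectionVars false

namespace Cfsg.Agent.Cit.Nil

open Subgroup Cfsg Cit OneBasic OneF

variable {G : Type*} [Group G]

/-- `K = O(K) Q` -/
def NilK (K : Subgroup G) : Prop := ∀ Q, Syl Q K → K ≤ OO K ⊔ Q

/-- all members are 2-nilpotent -/
def NilOm (Om : Set (Subgroup G)) : Prop := ∀ K ∈ Om, NilK K

/-- `t` is the involution of a member -/
def IZ (Om : Set (Subgroup G)) (t : G) : Prop := ∃ L ∈ Om, zz L = t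

/-- `b ⊥ t` -/
def PE (Om : Set (Subgroup G)) (b t : G) : Prop := ∃ L ∈ Om, zz L = t ∧ Perp b L

/-- see the head of the file -/
structure RW (Om : Set (Subgroup G)) (K Q : Subgroup G) (w r : G) : Prop where
  wQ : w ∈ Q
  w2 : w * w = zz K
  cent : ∀ q ∈ Q, r * q = q * r
  sq : r * r = zz K
  mem : IZ Om (w * r)

section

variable [Finite G] {Om : Set (Subgroup G)} {K L Q : Subgroup G} {a b g s t z w r : G}

theorem IZ.of (hL : L ∈ Om) : IZ Om (zz L) := ⟨L, hL, rfl⟩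

theorem IZ.mul_self (h : One Om) (ht : IZ Om t) : t * t = 1 := by
  obtain ⟨L, hL, rfl⟩ := ht
  exact h.hyp.zz_mul hL

theorem IZ.inv (h : One Om) (ht : IZ Om t) : t⁻¹ = t := inv_eq_of_mul_eq_one_right (ht.mul_self h)

theorem IZ.ne_one (h : One Om) (ht : IZ Om t) : t ≠ 1 := by
  obtain ⟨L, hL, rfl⟩ := ht
  exact h.hyp.zz_ne hL

theorem IZ.two (h : One Om) (ht : IZ Om t) : IsPGroup 2 (zpowers t) := by
  obtain ⟨L, hL, rfl⟩ := ht
  exact isPGroup_zpowers_zz h.hyp hL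

theorem IZ.conj (h : One Om) (ht : IZ Om t) (g : G) : IZ Om (g * t * g⁻¹) := by
  obtain ⟨L, hL, rfl⟩ := ht
  exact ⟨cj g L, h.hyp.conj L hL g, h.hyp.zz_cj hL g⟩

theorem IZ.mul (h : One Om) (hs : IZ Om s) (ht : IZ Om t) (hne : s ≠ t) (hc : s * t = t * s) :
    IZ Om (s * t) := by
  obtain ⟨K, hK, rfl⟩ := hs
  obtain ⟨L, hL, rfl⟩ := ht
  exact exists_mul h hK hL (fun hh => hne (by rw [hh])) hc

/-- `Z ∩ C(Q) = {z}` -/
theorem IZ.eq_of_cent (h : One Om) (hK : K ∈ Om) (hQ : Syl Q K) (ht : IZ Om t)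
    (hc : ∀ q ∈ Q, t * q = q * t) : t = zz K := by
  obtain ⟨L, hL, rfl⟩ := ht
  exact h.zz_eq_of_cent hK hL hQ hc

theorem PE.iz (hp : PE Om b t) : IZ Om t := by
  obtain ⟨L, hL, h1, -⟩ := hp
  exact ⟨L, hL, h1⟩

theorem PE.perp (h : One Om) (hp : PE Om b (zz L)) (hL : L ∈ Om) : Perp b L := by
  obtain ⟨M, hM, h1, h2⟩ := hp
  rwa [h.eq_of_zz_eq hM hL h1] at h2

theorem pe_iff (h : One Om) (hL : L ∈ Om) : PE Om b (zz L) ↔ Perp b L :=
  ⟨fun hp => hp.perp h hL, fun hp => ⟨L, hL, rfl, hp⟩⟩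

theorem PE.comm (h : One Om) (hp : PE Om b t) : b * t = t * b := by
  obtain ⟨L, hL, rfl, h2⟩ := hp
  exact h2.comm h.hyp hL

theorem PE.conj (h : One Om) (hp : PE Om b t) (g : G) : PE Om (g * b * g⁻¹) (g * t * g⁻¹) := by
  obtain ⟨L, hL, rfl, h2⟩ := hp
  exact ⟨cj g L, h.hyp.conj L hL g, h.hyp.zz_cj hL g, h2.conj g⟩

theorem PE.conj_comm (h : One Om) (hp : PE Om b t) (hg : g * b = b * g) : PE Om b (g * t * g⁻¹) := by
  have h1 := hp.conj h g
  rwa [hg, mul_inv_cancel_right] at h1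

theorem PE.conj_comm_iff (h : One Om) (hg : g * b = b * g) : PE Om b (g * t * g⁻¹) ↔ PE Om b t := by
  refine ⟨fun hp => ?_, fun hp => hp.conj_comm h hg⟩
  have h1 : g⁻¹ * b = b * g⁻¹ := by
    rw [inv_mul_eq_iff_eq_mul, ← mul_assoc, hg, mul_inv_cancel_right]
  have h2 := hp.conj_comm h h1
  have h3 : g⁻¹ * (g * t * g⁻¹) * g⁻¹⁻¹ = t := by group
  rwa [h3] at h2

/-- `b ⊥ t` and `z b ⊥ t` imply `t = z` -/
theorem PE.eq_of_both (h : One Om) (hz : IZ Om z) (hb : IsPGroup 2 (zpowers b)) (hbz : b * z = z * b)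
    (h1 : PE Om b t) (h2 : PE Om (z * b) t) : t = z := by
  obtain ⟨K, hK, rfl⟩ := hz
  obtain ⟨L, hL, rfl, h3⟩ := h1
  have h4 := h2.perp h hL
  by_contra hne
  have hKL : K ≠ L := fun hh => hne (by rw [hh])
  have hbL := h3.mem_normalizer h hL
  have hzbL := h4.mem_normalizer h hL
  have hzL : zz K ∈ normalizer (L : Set G) := by
    have := mul_mem hzbL (inv_mem hbL)
    rwa [mul_inv_cancel_right] at this
  have hA : IsPGroup 2 (zpowers (zz K) ⊔ zpowers b : Subgroup G) :=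
    exists_two_of_commute (isPGroup_zpowers_zz h.hyp hK) hb hbz.symm
  have hAL : zpowers (zz K) ⊔ zpowers b ≤ normalizer (L : Set G) := by
    rw [sup_le_iff, zpowers_le, zpowers_le]
    exact ⟨hzL, hbL⟩
  have h5 := h4.mul h3.inv h hL hA hAL (mul_mem (mem_sup_left (mem_zpowers _)) (mem_sup_right (mem_zpowers _)))
    (inv_mem (mem_sup_right (mem_zpowers _)))
  rw [mul_inv_cancel_right] at h5
  exact not_perp h hL hK hKL.symm h5

theorem P3.pe (h3 : P3 Om b) (hne : z ≠ t) (hc : z * t = t * z) (hbz : PE Om b z)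
    (ht : IZ Om t) (hbt : b * t = t * b) : PE Om b t ∨ PE Om (z * b) t := by
  obtain ⟨K, hK, rfl, hbK⟩ := hbz
  obtain ⟨L, hL, rfl⟩ := ht
  rcases h3 K hK L hL (fun hh => hne (by rw [hh])) hc hbK hbt with h1 | h1
  · exact Or.inl ⟨L, hL, rfl, h1⟩
  · exact Or.inr ⟨L, hL, rfl, h1⟩

/-- **KEY** elementwise -/
theorem key_pe (h : One Om) (hb : IsPGroup 2 (zpowers b)) (h3 : P3 Om b) (hbz : PE Om b z) (hbt : PE Om b t)
    (hne : z ≠ t) (hc : z * t = t * z) (hs : IZ Om s) (hbs : b * s = s * b) (hzs : z * s = s * z)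
    (hts : t * s = s * t) : PE Om b s := by
  obtain ⟨K, hK, rfl, hbK⟩ := hbz
  obtain ⟨T, hT, rfl, hbT⟩ := hbt
  obtain ⟨L, hL, rfl⟩ := hs
  exact ⟨L, hL, rfl, key h hb h3 hK hT hL hbK hbT (fun hh => hne (by rw [hh])) hc hbs hzs hts⟩

/-- commuting neighbours of `z` have the same behaviour -/
theorem key_iff (h : One Om) (hb : IsPGroup 2 (zpowers b)) (h3 : P3 Om b) (hbz : PE Om b z)
    (ht : IZ Om t) (hs : IZ Om s) (hzt : z ≠ t) (hzs : z ≠ s) (hct : z * t = t * z) (hcs : z * s = s * z)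
    (hts : t * s = s * t) (hbt : b * t = t * b) (hbs : b * s = s * b) : PE Om b t ↔ PE Om b s :=
  ⟨fun hp => key_pe h hb h3 hbz hp hzt hct hs hbs hcs hts,
    fun hp => key_pe h hb h3 hbz hp hzs hcs ht hbt hct hts.symm⟩

theorem P3.of_invol (h : One Om) (hb : b * b = 1) : P3 Om b := by
  have hb2 : IsPGroup 2 (zpowers b) := by
    intro x
    obtain ⟨k, hk⟩ := x.2
    refine ⟨1, Subtype.ext ?_⟩
    have hk' : b ^ k = (x : G) := hk
    rw [pow_one, pow_two]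
    change (x : G) * x = 1
    rw [← hk', ← (Commute.refl b).mul_zpow, hb, one_zpow]
  refine p3_of_sq h hb2 fun L hL _ => ?_
  rw [hb]
  exact Perp.one L

theorem two_of_sq_one (hb : b * b = 1) : IsPGroup 2 (zpowers b) := by
  intro x
  obtain ⟨k, hk⟩ := x.2
  refine ⟨1, Subtype.ext ?_⟩
  have hk' : b ^ k = (x : G) := hk
  rw [pow_one, pow_two]
  change (x : G) * x = 1
  rw [← hk', ← (Commute.refl b).mul_zpow, hb, one_zpow]

/-! ### `MOVE` -/

/-- a 2-group `A` normalising `K` and the Sylow subgroup `Q`: the Sylow subgroup `A ⊔ Q` of `A ⊔ K` -/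
theorem syl_sup {A : Subgroup G} (hA : IsPGroup 2 A) (hAK : A ≤ normalizer (K : Set G)) (hQ : Syl Q K)
    (hAQ : A ≤ normalizer (Q : Set G)) : Syl (A ⊔ Q) (A ⊔ K) ∧ K ⊓ (A ⊔ Q) = Q := by
  have h1 : IsPGroup 2 (A ⊔ Q : Subgroup G) := isPGroup_sup_of_normalizes hA hQ.2.1 hAQ
  have h3 : K ⊓ (A ⊔ Q) = Q := by
    symm
    exact syl_eq_of_le hQ (h1.to_le inf_le_right) inf_le_left (le_inf hQ.1 le_sup_right)
  refine ⟨?_, h3⟩
  obtain ⟨T, hT, hXT⟩ := exists_syl_ge h1 (sup_le_sup_left hQ.1 _ : A ⊔ Q ≤ A ⊔ K)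
  have h4 : T = A ⊔ Q := by
    refine le_antisymm ?_ hXT
    intro x hx
    obtain ⟨a, ha, k, hk, rfl⟩ := exists_mul_of_mem_sup hAK (hT.1 hx)
    refine mul_mem (mem_sup_left ha) ?_
    have h5 : k ∈ K ⊓ T := by
      refine ⟨hk, ?_⟩
      have : k = a⁻¹ * (a * k) := by group
      rw [this]
      exact T.mul_mem (T.inv_mem (hXT (mem_sup_left ha))) hx
    have h6 : K ⊓ T = Q :=
      (syl_eq_of_le hQ (hT.2.1.to_le inf_le_right) inf_le_left (le_inf hQ.1 (le_sup_right.trans hXT))).symm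
    rw [h6] at h5
    exact mem_sup_right h5
  rw [← h4]
  exact hT

/-- **MOVE** -/
theorem move {K Q Q1 A : Subgroup G} (hn : NilK K) (hQ : Syl Q K) (hQ1 : Syl Q1 K) (hA : IsPGroup 2 A)
    (hAK : A ≤ normalizer (K : Set G)) (hAQ : A ≤ normalizer (Q : Set G)) (hAQ1 : A ≤ normalizer (Q1 : Set G)) :
    ∃ g ∈ OO K, (∀ a ∈ A, a * g = g * a) ∧ cj g Q1 = Q := by
  obtain ⟨hS, hKQ⟩ := syl_sup hA hAK hQ hAQ
  obtain ⟨hS1, hKQ1⟩ := syl_sup hA hAK hQ1 hAQ1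
  obtain ⟨m, hm, hmS⟩ := hS1.exists_conj hS
  -- `m = s o` with `s ∈ A ⊔ Q`, `o ∈ O(K)`
  have hOA : A ≤ normalizer (OO K : Set G) := by
    intro a ha
    rw [mem_normalizer_iff_cj, ← OO_cj, mem_normalizer_iff_cj.1 (hAK ha)]
  have hOQ : Q ≤ normalizer (OO K : Set G) := hQ.1.trans (le_normalizer_OO K)
  have hOS : A ⊔ Q ≤ normalizer (OO K : Set G) := sup_le hOA hOQ
  have hm' : m ∈ (A ⊔ Q) ⊔ OO K := by
    have : A ⊔ K ≤ (A ⊔ Q) ⊔ OO K := by
      refine sup_le (le_sup_left.trans le_sup_left) ((hn Q hQ).trans ?_)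
      exact sup_le le_sup_right (le_sup_right.trans le_sup_left)
    exact this hm
  obtain ⟨s, hs, o, ho, hso⟩ := exists_mul_of_mem_sup hOS hm'
  have h1 : cj o (A ⊔ Q1) = A ⊔ Q := by
    have h2 : cj s⁻¹ (A ⊔ Q) = A ⊔ Q := mem_normalizer_iff_cj.1 (inv_mem (le_normalizer hs))
    rw [← h2, ← hmS, hso, cj_mul, cj_inv_cj]
  refine ⟨o, ho, ?_, ?_⟩
  · intro a ha
    have h2 : o * a * o⁻¹ ∈ A ⊔ Q := by
      rw [← h1]; exact conj_mem_cj (mem_sup_left ha)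
    have h3 : o * a * o⁻¹ * a⁻¹ ∈ A ⊔ Q := mul_mem h2 (inv_mem (mem_sup_left ha))
    have h4 : o * a * o⁻¹ * a⁻¹ ∈ OO K := by
      have h5 := (OO K).mul_mem ho (conj_mem_of (hOA ha) ((OO K).inv_mem ho))
      have h6 : o * (a * o⁻¹ * a⁻¹) = o * a * o⁻¹ * a⁻¹ := by group
      rwa [h6] at h5
    have h5 : o * a * o⁻¹ * a⁻¹ = 1 := by
      have h6 : IsPGroup 2 (A ⊔ Q : Subgroup G) := hS.2.1
      have h7 : IsPGroup 2 ((A ⊔ Q) ⊓ OO K : Subgroup G) := h6.to_le inf_le_left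
      by_contra hne
      have h8 : ((A ⊔ Q) ⊓ OO K : Subgroup G) ≠ ⊥ := by
        intro hh
        apply hne
        rw [← mem_bot, ← hh]
        exact ⟨h3, h4⟩
      haveI : Fact (Nat.Prime 2) := ⟨Nat.prime_two⟩
      obtain ⟨n, hn1⟩ := IsPGroup.iff_card.1 h7
      have hn0 : n ≠ 0 := by
        rintro rfl
        rw [pow_zero, card_eq_one] at hn1
        exact h8 hn1
      apply odd_OO K
      refine dvd_trans ?_ (card_dvd_of_le (inf_le_right : (A ⊔ Q) ⊓ OO K ≤ OO K))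
      rw [hn1]
      exact dvd_pow_self 2 hn0
    rw [mul_inv_eq_one, mul_inv_eq_iff_eq_mul] at h5
    exact h5.symm
  · have h2 : cj o (K ⊓ (A ⊔ Q1)) = K ⊓ (A ⊔ Q) := by
      rw [cj_inf, h1, mem_normalizer_iff_cj.1 (le_normalizer (OO_le K ho))]
    rwa [hKQ, hKQ1] at h2

end

end Cfsg.Agent.Cit.Nil
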