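import Cfsg.Agent.Cit.Defs

/-!
# An elementary Sylow 2-subgroup of order eight is not normalised by a transvection

`X` a perfect normal subgroup of the finite group `G` with an elementary abelian Sylow 2-subgroup `S` of
order `8`: `N_X(S)` is transitive on `S \ {1}` (`exists_conj`), and no element of `G` acts on `S` as a
transvection (`false_of_transvection`). (Piece (I) of blueprints/CIT-6b-One-helper454.md.)
-/

set_option autoImplicit false

namespace Cfsg.Agent.Cit.Nil.EEight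

open Subgroup MulAction

section orbits

variable {N α : Type*} [Group N] [MulAction N α] [Finite α]

theorem trans_seven (h7 : Nat.card α = 7) (hodd : ∀ x : α, Odd (orbit N x).ncard)
    (hne : ∀ x : α, (orbit N x).ncard ≠ 1) (x y : α) : y ∈ orbit N x := by
  have h3 : ∀ x : α, 3 ≤ (orbit N x).ncard := by
    intro x
    obtain ⟨k, hk⟩ := hodd x
    have := hne x
    omega
  have hle : ∀ s : Set α, s.ncard ≤ 7 := fun s => by
    rw [← h7]
    exact (Set.ncard_le_ncard (Set.subset_univ s)).trans_eq (Set.ncard_univ α)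
  have hdis : ∀ x y : α, y ∉ orbit N x → Disjoint (orbit N x) (orbit N y) := by
    intro x y hxy
    rcases MulAction.orbit.eq_or_disjoint (G := N) x y with h | h
    · exact absurd (by rw [h]; exact mem_orbit_self y) hxy
    · exact h
  by_contra hxy
  have h1 := Set.ncard_union_eq (hdis x y hxy)
  by_cases huniv : orbit N x ∪ orbit N y = Set.univ
  · rw [huniv, Set.ncard_univ, h7] at h1
    obtain ⟨i, hi⟩ := hodd x
    obtain ⟨j, hj⟩ := hodd y
    omega
  · obtain ⟨w, hw⟩ := (Set.ne_univ_iff_exists_notMem _).1 huniv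
    rw [Set.mem_union, not_or] at hw
    have h2 : Disjoint (orbit N x ∪ orbit N y) (orbit N w) :=
      Set.disjoint_union_left.2 ⟨hdis x w hw.1, hdis y w hw.2⟩
    have h4 := Set.ncard_union_eq h2
    have h5 := hle (orbit N x ∪ orbit N y ∪ orbit N w)
    have := h3 x
    have := h3 y
    have := h3 w
    omega

end orbits

section transfer

variable {Y : Type*} [Group Y] [Finite Y]

/-- In a perfect group an element of an abelian Sylow `p`-subgroup `S` which is centralised by `N(S)` is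
trivial. -/
theorem eq_one_of_central {p : ℕ} [Fact p.Prime] (hY : commutator Y = ⊤) (S : Sylow p Y)
    (hS : ∀ a ∈ S, ∀ b ∈ S, a * b = b * a) {s : Y} (hs : s ∈ S)
    (hc : ∀ n ∈ normalizer ((S : Subgroup Y) : Set Y), n * s = s * n) : s = 1 := by
  have hcomm : IsMulCommutative (S : Subgroup Y) :=
    ⟨⟨fun a b => Subtype.ext (hS a a.2 b b.2)⟩⟩
  let _ : CommGroup (S : Subgroup Y) := { (inferInstance : Group (S : Subgroup Y)) with
    mul_comm := fun a b => Subtype.ext (hS a a.2 b b.2) }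
  have key : ∀ (k : ℕ) (g₀ : Y), g₀⁻¹ * s ^ k * g₀ ∈ (S : Subgroup Y) → g₀⁻¹ * s ^ k * g₀ = s ^ k := by
    intro k g₀ hk
    obtain ⟨n, hn, hn1⟩ := Sylow.conj_eq_normalizer_conj_of_mem S (s ^ k) g₀ (pow_mem hs k) hk
    rw [hn1]
    have h1 : Commute n (s ^ k) := (show Commute n s from hc n hn).pow_right k
    rw [mul_assoc, ← h1.eq, inv_mul_cancel_left]
  have h1 := MonoidHom.transfer_eq_pow (MonoidHom.id (S : Subgroup Y)) s key
  have h2 : (MonoidHom.transfer (MonoidHom.id (S : Subgroup Y))) s = 1 := by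
    have h3 : commutator Y ≤ (MonoidHom.transfer (MonoidHom.id (S : Subgroup Y))).ker :=
      Abelianization.commutator_subset_ker _
    rw [hY] at h3
    exact h3 (mem_top s)
  rw [h2] at h1
  have h3 : s ^ (S : Subgroup Y).index = 1 := (congrArg Subtype.val h1).symm
  obtain ⟨k, hk⟩ := IsPGroup.iff_orderOf.1 S.isPGroup' ⟨s, hs⟩
  rw [Subgroup.orderOf_mk] at hk
  have h4 : orderOf s ∣ (S : Subgroup Y).index := orderOf_dvd_of_pow_eq_one h3
  rw [← orderOf_eq_one_iff, hk]
  by_contra hne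
  have h5 : k ≠ 0 := fun e => hne (by rw [e, pow_zero])
  exact S.not_dvd_index ((dvd_pow_self p h5).trans (hk ▸ h4))

/-- the action of `N(S)` on `S \ {1}` -/
@[instance_reducible] def act (S : Subgroup Y) : MulAction (normalizer (S : Set Y)) {s : Y // s ∈ S ∧ s ≠ 1} where
  smul n s := ⟨n * s * (n : Y)⁻¹, (mem_normalizer_iff.1 n.2 s).1 s.2.1, fun h => s.2.2 (by
    rwa [mul_inv_eq_one, mul_eq_left] at h)⟩
  one_smul s := Subtype.ext (by show (1 : Y) * s * (1 : Y)⁻¹ = s; group)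
  mul_smul n m s := Subtype.ext (by
    show (n * m : Y) * s * (n * m : Y)⁻¹ = n * (m * s * (m : Y)⁻¹) * (n : Y)⁻¹
    group)

/-- `N(S)` is transitive on `S \ {1}` -/
theorem exists_conj (hY : commutator Y = ⊤) (S : Sylow 2 Y) (h8 : Nat.card (S : Subgroup Y) = 8)
    (hel : ∀ a ∈ S, a * a = 1) {a b : Y} (ha : a ∈ S) (hb : b ∈ S) (ha1 : a ≠ 1) (hb1 : b ≠ 1) :
    ∃ n ∈ normalizer ((S : Subgroup Y) : Set Y), n * a * n⁻¹ = b := by
  have : Fact (Nat.Prime 2) := ⟨Nat.prime_two⟩
  have hcomm : ∀ a ∈ S, ∀ b ∈ S, a * b = b * a := by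
    intro a ha b hb
    have h1 := hel (a * b) (mul_mem ha hb)
    have h2 := hel a ha
    have h3 := hel b hb
    calc a * b = a * (a * b * (a * b)) * b := by rw [h1, mul_one]
      _ = (a * a) * (b * a) * (b * b) := by group
      _ = b * a := by rw [h2, h3, one_mul, mul_one]
  let _ := act (S : Subgroup Y)
  have hcard : Nat.card {s : Y // s ∈ (S : Subgroup Y) ∧ s ≠ 1} = 7 := by
    have h1 : ({s : Y | s ∈ (S : Subgroup Y) ∧ s ≠ 1}).ncard = 7 := by
      have h2 : {s : Y | s ∈ (S : Subgroup Y) ∧ s ≠ 1} = ((S : Subgroup Y) : Set Y) \ {1} := rfl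
      rw [h2, Set.ncard_sdiff_singleton_of_mem (one_mem (S : Subgroup Y))]
      have h3 : ((S : Subgroup Y) : Set Y).ncard = 8 := h8
      rw [h3]
    exact h1
  have hfix : ∀ x : {s : Y // s ∈ (S : Subgroup Y) ∧ s ≠ 1},
      (orbit (normalizer ((S : Subgroup Y) : Set Y)) x).ncard ≠ 1 := by
    intro x hx
    apply x.2.2
    apply eq_one_of_central hY S hcomm x.2.1
    intro n hn
    obtain ⟨y, hy⟩ := Set.ncard_eq_one.1 hx
    have h1 : x = y := by
      have := mem_orbit_self (M := normalizer ((S : Subgroup Y) : Set Y)) x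
      rw [hy] at this
      exact this
    have h2 : (⟨n, hn⟩ : normalizer ((S : Subgroup Y) : Set Y)) • x = y := by
      have := mem_orbit x (⟨n, hn⟩ : normalizer ((S : Subgroup Y) : Set Y))
      rw [hy] at this
      exact this
    rw [← h1] at h2
    have h3 : n * x * n⁻¹ = x := congrArg Subtype.val h2
    rwa [mul_inv_eq_iff_eq_mul] at h3
  have hodd : ∀ x : {s : Y // s ∈ (S : Subgroup Y) ∧ s ≠ 1},
      Odd (orbit (normalizer ((S : Subgroup Y) : Set Y)) x).ncard := by
    intro x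
    have h1 : (orbit (normalizer ((S : Subgroup Y) : Set Y)) x).ncard =
        (stabilizer (normalizer ((S : Subgroup Y) : Set Y)) x).index := by
      rw [index_stabilizer]
    rw [h1, ← Nat.not_even_iff_odd, even_iff_two_dvd]
    have h2 : (S : Subgroup Y).subgroupOf (normalizer ((S : Subgroup Y) : Set Y)) ≤
        stabilizer (normalizer ((S : Subgroup Y) : Set Y)) x := by
      intro n hn
      rw [mem_stabilizer_iff]
      apply Subtype.ext
      show (n : Y) * x * (n : Y)⁻¹ = x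
      rw [hcomm n hn x x.2.1, mul_inv_cancel_right]
    have h3 : ¬ 2 ∣ ((S : Subgroup Y).subgroupOf (normalizer ((S : Subgroup Y) : Set Y))).index := by
      intro h
      apply S.not_dvd_index
      exact h.trans (relIndex_dvd_index_of_le le_normalizer)
    exact fun h => h3 (h.trans (index_dvd_of_le h2))
  obtain ⟨n, hn⟩ := trans_seven hcard hodd hfix ⟨a, ha, ha1⟩ ⟨b, hb, hb1⟩
  exact ⟨n, n.2, congrArg Subtype.val hn⟩

end transfer

section main

variable {G : Type*} [Group G] [Finite G]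

/-- the same for a Sylow 2-subgroup `S` of a perfect subgroup `X` -/
theorem exists_conj' {X S : Subgroup G} (hX : ⁅X, X⁆ = X) (hS : Syl S X) (h8 : Nat.card S = 8)
    (hel : ∀ a ∈ S, a * a = 1) {a b : G} (ha : a ∈ S) (hb : b ∈ S) (ha1 : a ≠ 1) (hb1 : b ≠ 1) :
    ∃ n ∈ X, n ∈ normalizer (S : Set G) ∧ n * a * n⁻¹ = b := by
  have : Fact (Nat.Prime 2) := ⟨Nat.prime_two⟩
  obtain ⟨T, hT⟩ := hS.exists_sylow
  have hY : commutator X = ⊤ := by
    have h1 : (commutator X).map X.subtype = ⁅X, X⁆ := map_subtype_commutator X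
    rw [hX] at h1
    have h2 : (commutator X).map X.subtype = (⊤ : Subgroup X).map X.subtype := by
      rw [h1, ← MonoidHom.range_eq_map, X.range_subtype]
    exact map_injective X.subtype_injective h2
  have h8' : Nat.card (T : Subgroup X) = 8 := by
    rw [hT, ← h8]
    exact Nat.card_congr (subgroupOfEquivOfLe hS.1).toEquiv
  have hmem : ∀ s : X, s ∈ T ↔ (s : G) ∈ S := by
    intro s
    have : s ∈ (T : Subgroup X) ↔ (s : G) ∈ S := by rw [hT, mem_subgroupOf]
    exact this
  obtain ⟨n, hn, hna⟩ := exists_conj hY T h8' (fun s hs => Subtype.ext (hel s ((hmem s).1 hs)))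
    (a := ⟨a, hS.1 ha⟩) (b := ⟨b, hS.1 hb⟩) ((hmem _).2 ha) ((hmem _).2 hb)
    (fun h => ha1 (congrArg Subtype.val h)) (fun h => hb1 (congrArg Subtype.val h))
  refine ⟨n, n.2, ?_, congrArg Subtype.val hna⟩
  rw [mem_normalizer_iff]
  intro s
  constructor
  · intro hs
    exact (hmem _).1 ((mem_normalizer_iff.1 hn ⟨s, hS.1 hs⟩).1 ((hmem _).2 hs))
  · intro hs
    have h1 : s ∈ X := by
      have h2 := hS.1 hs
      have h3 : s = (n : G)⁻¹ * ((n : G) * s * (n : G)⁻¹) * n := by group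
      rw [h3]
      exact mul_mem (mul_mem (inv_mem n.2) h2) n.2
    exact (hmem ⟨s, h1⟩).1 ((mem_normalizer_iff.1 hn ⟨s, h1⟩).2 ((hmem _).2 hs))

/-- **(I)** -/
theorem false_of_transvection {X S : Subgroup G} (hXn : X.Normal) (hX : ⁅X, X⁆ = X) (hS : Syl S X)
    (h8 : Nat.card S = 8) (hel : ∀ a ∈ S, a * a = 1) {x c a b v : G}
    (hxc : ∀ s ∈ S, x * s * x⁻¹ = s ∨ x * s * x⁻¹ = s * c) (hcS : c ∈ S)
    (ha : a ∈ S) (hb : b ∈ S) (ha1 : a ≠ 1) (hb1 : b ≠ 1) (hab : a ≠ b)
    (hxa : x * a = a * x) (hxb : x * b = b * x) (hv : v ∈ S) (hxv : x * v ≠ v * x) : False := by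
  have : Fact (Nat.Prime 2) := ⟨Nat.prime_two⟩
  have hcomm : ∀ a ∈ S, ∀ b ∈ S, a * b = b * a := by
    intro a ha b hb
    have h1 := hel (a * b) (mul_mem ha hb)
    have h2 := hel a ha
    have h3 := hel b hb
    calc a * b = a * (a * b * (a * b)) * b := by rw [h1, mul_one]
      _ = (a * a) * (b * a) * (b * b) := by group
      _ = b * a := by rw [h2, h3, one_mul, mul_one]
  have hcc := hel c hcS
  have hxv' : x * v * x⁻¹ = v * c := by
    rcases hxc v hv with h | h
    · exact absurd (mul_inv_eq_iff_eq_mul.1 h) hxv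
    · exact h
  have hc1 : c ≠ 1 := by
    rintro rfl
    rw [mul_one] at hxv'
    exact hxv (mul_inv_eq_iff_eq_mul.1 hxv')
  have hxcc : x * c * x⁻¹ = c := by
    rcases hxc c hcS with h | h
    · exact h
    · rw [hcc, mul_inv_eq_one, mul_eq_left] at h
      exact absurd h hc1
  -- another fixed point
  obtain ⟨d, hdS, hd1, hdc, hxd⟩ : ∃ d ∈ S, d ≠ 1 ∧ d ≠ c ∧ x * d = d * x := by
    by_cases h : a = c
    · exact ⟨b, hb, hb1, fun e => hab (h.trans e.symm), hxb⟩
    · exact ⟨a, ha, ha1, h, hxa⟩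
  have hdd := hel d hdS
  obtain ⟨n, hnX, hnS, hnc⟩ := exists_conj' hX hS h8 hel hcS hdS hc1 hd1
  obtain ⟨y, hy⟩ : ∃ y, y = n * x * n⁻¹ := ⟨_, rfl⟩
  have hyd : ∀ s ∈ S, y * s * y⁻¹ = s ∨ y * s * y⁻¹ = s * d := by
    intro s hs
    have h1 : n⁻¹ * s * n ∈ S := by
      have := (mem_normalizer_iff.1 (inv_mem hnS) s).1 hs
      rwa [inv_inv] at this
    have h2 : y * s * y⁻¹ = n * (x * (n⁻¹ * s * n) * x⁻¹) * n⁻¹ := by rw [hy]; group
    rw [h2]
    rcases hxc _ h1 with h | h
    · left; rw [h]; group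
    · right
      rw [h]
      calc n * (n⁻¹ * s * n * c) * n⁻¹ = s * (n * c * n⁻¹) := by group
        _ = s * d := by rw [hnc]
  have hyS : ∀ s ∈ S, y * s * y⁻¹ ∈ S := by
    intro s hs
    rcases hyd s hs with h | h
    · rw [h]; exact hs
    · rw [h]; exact mul_mem hs hdS
  have hydd : y * d * y⁻¹ = d := by
    rcases hyd d hdS with h | h
    · exact h
    · rw [hdd, mul_inv_eq_one, mul_eq_left] at h
      exact absurd h hd1
  have hxi : ∀ s ∈ S, x⁻¹ * s * x = s ∨ x⁻¹ * s * x = s * c := by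
    intro s hs
    rcases hxc s hs with h | h
    · left
      nth_rewrite 1 [← h]
      group
    · right
      have h1 : x⁻¹ * c * x = c := by
        nth_rewrite 1 [← hxcc]; group
      have h2 : s = (x⁻¹ * s * x) * (x⁻¹ * c * x) := by
        calc s = x⁻¹ * (x * s * x⁻¹) * x := by group
          _ = x⁻¹ * (s * c) * x := by rw [h]
          _ = _ := by group
      rw [h1] at h2
      calc x⁻¹ * s * x = (x⁻¹ * s * x) * c * c := by rw [mul_assoc _ c c, hcc, mul_one]
        _ = s * c := by rw [← h2]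
  obtain ⟨k, hk⟩ : ∃ k, k = y * x⁻¹ := ⟨_, rfl⟩
  have hks : ∀ s, k * s * k⁻¹ = y * (x⁻¹ * s * x) * y⁻¹ := by intro s; rw [hk]; group
  have hkd : k * d * k⁻¹ = d := by
    rw [hks]
    have h1 : x⁻¹ * d * x = d := by rw [mul_assoc, ← hxd]; group
    rw [h1, hydd]
  have hkc : k * c * k⁻¹ = c ∨ k * c * k⁻¹ = c * d := by
    rw [hks]
    have h1 : x⁻¹ * c * x = c := by
      nth_rewrite 1 [← hxcc]; group
    rw [h1]
    exact hyd c hcS
  have hmul : ∀ s t, k * (s * t) * k⁻¹ = (k * s * k⁻¹) * (k * t * k⁻¹) := by intro s t; group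
  have hu : ∀ s ∈ S, ∃ u ∈ S, k * s * k⁻¹ = s * u ∧ (k * u * k⁻¹ = u ∨ k * u * k⁻¹ = u * d) := by
    intro s hs
    have hcd : k * (c * d) * k⁻¹ = c * d ∨ k * (c * d) * k⁻¹ = c * d * d := by
      rw [hmul, hkd]
      rcases hkc with h | h
      · left; rw [h]
      · right; rw [h]
    rw [hks]
    rcases hxi s hs with h | h
    · rw [h]
      rcases hyd s hs with h1 | h1
      · exact ⟨1, one_mem _, by rw [h1, mul_one], Or.inl (by group)⟩
      · exact ⟨d, hdS, h1, Or.inl hkd⟩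
    · rw [h]
      have h2 : y * (s * c) * y⁻¹ = (y * s * y⁻¹) * (y * c * y⁻¹) := by group
      rw [h2]
      rcases hyd s hs with h1 | h1 <;> rcases hyd c hcS with h3 | h3
      · exact ⟨c, hcS, by rw [h1, h3], hkc⟩
      · exact ⟨c * d, mul_mem hcS hdS, by rw [h1, h3], hcd⟩
      · refine ⟨c * d, mul_mem hcS hdS, ?_, hcd⟩
        rw [h1, h3, mul_assoc, hcomm d hdS c hcS]
      · refine ⟨c, hcS, ?_, hkc⟩
        rw [h1, h3, mul_assoc, ← mul_assoc d c d, hcomm d hdS c hcS, mul_assoc c d d, hdd, mul_one]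
  have hk2 : ∀ s ∈ S, k * (k * s * k⁻¹) * k⁻¹ = s ∨ k * (k * s * k⁻¹) * k⁻¹ = s * d := by
    intro s hs
    obtain ⟨u, huS, h1, h2⟩ := hu s hs
    have huu := hel u huS
    have h3 : k * (k * s * k⁻¹) * k⁻¹ = s * u * (k * u * k⁻¹) := by
      rw [h1, hmul, h1]
    rw [h3]
    rcases h2 with h | h
    · left; rw [h, mul_assoc, huu, mul_one]
    · right; rw [h, mul_assoc, ← mul_assoc u u d, huu, one_mul]
  have hk4 : ∀ s ∈ S, Commute (k ^ 4) s := by
    intro s hs
    have h1 : k ^ 4 * s * (k ^ 4)⁻¹ = k * (k * (k * (k * s * k⁻¹) * k⁻¹) * k⁻¹) * k⁻¹ := by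
      have h5 : k ^ 4 = k * k * k * k := by rw [pow_succ, pow_succ, pow_two]
      rw [h5]
      group
    have h2 : k ^ 4 * s * (k ^ 4)⁻¹ = s := by
      rw [h1]
      rcases hk2 s hs with h | h
      · rw [h]
        rcases hk2 s hs with h' | h'
        · exact h'
        · rw [h] at h'
          exact absurd (left_eq_mul.1 h') hd1
      · rw [h]
        calc k * (k * (s * d) * k⁻¹) * k⁻¹ =
            (k * (k * s * k⁻¹) * k⁻¹) * (k * (k * d * k⁻¹) * k⁻¹) := by group
          _ = s * d * d := by rw [h, hkd, hkd]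
          _ = s := by rw [mul_assoc, hdd, mul_one]
    exact mul_inv_eq_iff_eq_mul.1 h2
  -- `k ∈ N_X(S)`
  have hkX : k ∈ X := by
    have h1 : k = n * (x * n⁻¹ * x⁻¹) := by rw [hk, hy]; group
    rw [h1]
    exact mul_mem hnX (hXn.conj_mem _ (inv_mem hnX) x)
  have hkS : ∀ s ∈ S, k * s * k⁻¹ ∈ S := by
    intro s hs
    obtain ⟨u, huS, h1, -⟩ := hu s hs
    rw [h1]
    exact mul_mem hs huS
  have hkN : k ∈ normalizer (S : Set G) := by
    rw [mem_normalizer_iff]
    intro s
    refine ⟨hkS s, fun hs => ?_⟩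
    -- injectivity on the finite set `S`
    have hinj : Function.Injective (fun t : S => (⟨k * t * k⁻¹, hkS t t.2⟩ : S)) := by
      intro t t' h
      have h1 : k * (t : G) * k⁻¹ = k * (t' : G) * k⁻¹ := congrArg Subtype.val h
      exact Subtype.ext (mul_left_cancel (mul_right_cancel h1))
    obtain ⟨t, ht⟩ := (Finite.injective_iff_surjective.1 hinj) ⟨_, hs⟩
    have h1 : k * (t : G) * k⁻¹ = k * s * k⁻¹ := congrArg Subtype.val ht
    rw [← mul_left_cancel (mul_right_cancel h1)]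
    exact t.2
  obtain ⟨m, hm, hkm⟩ : ∃ m : ℕ, Odd m ∧ k ^ m ∈ S := by
    set N := X ⊓ normalizer (S : Set G) with hN
    have hSN : S ≤ N := le_inf hS.1 le_normalizer
    have hnorm : (S.subgroupOf N).Normal := by
      constructor
      intro s hs g
      rw [mem_subgroupOf] at hs ⊢
      exact (mem_normalizer_iff.1 g.2.2 _).1 hs
    refine ⟨(S.subgroupOf N).index, ?_, ?_⟩
    · rw [← Nat.not_even_iff_odd, even_iff_two_dvd]
      intro h
      exact hS.2.2 (h.trans (Dvd.intro _ (relIndex_mul_relIndex S N X hSN inf_le_left)))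
    · have h1 := (S.subgroupOf N).pow_index_mem (⟨k, hkX, hkN⟩ : N)
      exact h1
  have hkc' : ∀ s ∈ S, Commute k s := by
    intro s hs
    have h1 : Commute (k ^ m) s := hcomm _ hkm s hs
    have h2 := hk4 s hs
    have hcop : Nat.gcd 4 m = 1 := by
      have : Nat.Coprime (2 ^ 2) m := Nat.Coprime.pow_left 2 (Nat.coprime_two_left.2 hm)
      exact this
    have h3 := Nat.gcd_eq_gcd_ab 4 m
    rw [hcop] at h3
    have h4 : k = (k ^ 4) ^ (Nat.gcdA 4 m) * (k ^ m) ^ (Nat.gcdB 4 m) := by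
      rw [← zpow_natCast k 4, ← zpow_natCast k m, ← zpow_mul, ← zpow_mul, ← zpow_add]
      push_cast at h3 ⊢
      rw [← h3, zpow_one]
    rw [h4]
    exact (h2.zpow_left _).mul_left (h1.zpow_left _)
  have hyx : y = k * x := by rw [hk, inv_mul_cancel_right]
  have h1 : y * v * y⁻¹ = v * c := by
    calc y * v * y⁻¹ = k * (x * v * x⁻¹) * k⁻¹ := by rw [hyx]; group
      _ = k * (v * c) * k⁻¹ := by rw [hxv']
      _ = v * c := by rw [(hkc' _ (mul_mem hv hcS)).eq, mul_inv_cancel_right]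
  rcases hyd v hv with h | h
  · rw [h1, mul_eq_left] at h
    exact hc1 h
  · rw [h1] at h
    exact hdc (mul_left_cancel h).symm

end main

end Cfsg.Agent.Cit.Nil.EEight
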