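import Cfsg.Agent.Cit.Nil.SdEnd
import Cfsg.Agent.S0215

/-!
# (6b), `|Om(S)| = 1`, 5.0: the involutions of the members lie in the normal subgroup `X`

`X` normal in `G`, `C_G(X) = 1`, `X` without normal subgroup of odd order `≠ 1`.
If `z = zz K ∉ X` then `Q ∩ X = 1`, so `[Q, S ∩ X] = 1` and `z` is isolated in `X⟨z⟩`; now the `Z*`-theorem.
-/

set_option autoImplicit false
set_option linter.style.haveILetI false
set_option linter.unusedSectionVars false

namespace Cfsg.Agent.Cit.Nil.ZMem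

open Subgroup Cfsg Cit OneBasic OneF

variable {G : Type*} [Group G] [Finite G] {Om : Set (Subgroup G)} {K X : Subgroup G}

/-- an element of a product `X ⟨z⟩`, `X` normal -/
theorem exists_mul_zpow (hX : X.Normal) {z g : G} (hg : g ∈ X ⊔ zpowers z) : ∃ x ∈ X, ∃ i : ℤ, g = x * z ^ i := by
  haveI := hX
  obtain ⟨x, hx, y, hy, rfl⟩ := Subgroup.mem_sup_of_normal_left.1 hg
  obtain ⟨i, rfl⟩ := hy
  exact ⟨x, hx, i, rfl⟩

theorem zz_mem (h : One Om) (hX : X.Normal)
    (hodd : ∀ N : Subgroup G, N ≤ X → X ≤ normalizer (N : Set G) → ¬ 2 ∣ Nat.card N → N = ⊥)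
    (hC : centralizer (X : Set G) = ⊥) (hK : K ∈ Om) : zz K ∈ X := by
  haveI : Fact (Nat.Prime 2) := ⟨Nat.prime_two⟩
  by_contra hzX
  obtain ⟨Q, hQ⟩ := Hyp.exists_syl K
  obtain ⟨S, hS, hQS⟩ := exists_syl_ge hQ.2.1 (hQ.1.trans le_normalizer)
  have hStop := OneEndGlue.Fr.syl_top h hK hS
  have hKS : Q = K ⊓ S := syl_eq_of_le hQ (hS.2.1.to_le inf_le_right) inf_le_left (le_inf hQ.1 hQS)
  have hSQ : S ≤ normalizer (Q : Set G) := by
    intro s hs
    rw [hKS, mem_normalizer_iff_cj, cj_inf, mem_normalizer_iff_cj.1 (hS.1 hs),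
      mem_normalizer_iff_cj.1 (le_normalizer hs)]
  -- `Q ∩ X = 1`
  have hQX : ∀ q ∈ Q, q ∈ X → q = 1 := by
    intro q hq hqX
    by_contra hq1
    have h2 : IsPGroup 2 (zpowers q) := hQ.2.1.to_le (zpowers_le.2 hq)
    obtain ⟨n, hn⟩ := IsPGroup.iff_card.1 h2
    have hn0 : n ≠ 0 := by
      rintro rfl
      rw [pow_zero, card_eq_one, zpowers_eq_bot] at hn
      exact hq1 hn
    have h3 : 2 ∣ orderOf q := by
      rw [← Nat.card_zpowers, hn]; exact dvd_pow_self 2 hn0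
    have h4 : orderOf (q ^ (orderOf q / 2)) = 2 :=
      orderOf_pow_orderOf_div (orderOf_pos q).ne' h3
    have h5 := h.hyp.uniq K hK _ (K.pow_mem (hQ.1 hq) _) h4
    exact hzX (h5 ▸ X.pow_mem hqX _)
  have hzQ : zz K ∈ Q := by
    have h1 := h.hyp.zz_spec hK
    obtain ⟨c, v, n, g⟩ := h.hyp.exists_gq hK hQ
    exact g.z_mem
  -- `[Q, S ∩ X] = 1`
  have hcom : ∀ s ∈ S, s ∈ X → ∀ q ∈ Q, s * q = q * s := by
    intro s hs hsX q hq
    have h1 : s * q * s⁻¹ * q⁻¹ ∈ Q := Q.mul_mem (conj_mem_of (hSQ hs) hq) (Q.inv_mem hq)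
    have h2 : s * q * s⁻¹ * q⁻¹ ∈ X := by
      have h3 := X.mul_mem hsX (hX.conj_mem _ (X.inv_mem hsX) q)
      have h4 : s * (q * s⁻¹ * q⁻¹) = s * q * s⁻¹ * q⁻¹ := by group
      rwa [h4] at h3
    have h3 := hQX _ h1 h2
    rw [mul_inv_eq_one, mul_inv_eq_iff_eq_mul] at h3
    exact h3
  have hzc : ∀ q ∈ Q, zz K * q = q * zz K := fun q hq =>
    (h.hyp.comm_zz hK (le_normalizer (hQ.1 hq))).symm
  -- the Sylow subgroup of `X ⟨z⟩`
  have hzS : zz K ∈ S := hQS hzQ
  obtain ⟨T, hT, hPT⟩ := exists_syl_ge (A := (S ⊓ X) ⊔ zpowers (zz K)) (M := X ⊔ zpowers (zz K))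
    (hS.2.1.to_le (sup_le inf_le_left (zpowers_le.2 hzS))) (sup_le_sup_right inf_le_right _)
  have hSX : Syl (S ⊓ X) X := syl_inf_normal hStop le_top (by rw [normalizer_eq_top_iff.2 hX])
  have hTX : S ⊓ X = T ⊓ X :=
    syl_eq_of_le hSX (hT.2.1.to_le inf_le_left) inf_le_right (le_inf (le_sup_left.trans hPT) inf_le_right)
  have hTc : ∀ τ ∈ T, ∀ q ∈ Q, τ * q = q * τ := by
    intro τ hτ q hq
    obtain ⟨x, hx, i, rfl⟩ := exists_mul_zpow hX (hT.1 hτ)
    have hzT : zz K ^ i ∈ T := T.zpow_mem (hPT (mem_sup_right (mem_zpowers _))) i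
    have hxT : x ∈ T := by
      have := T.mul_mem hτ (T.inv_mem hzT)
      rwa [mul_inv_cancel_right] at this
    have hxS : x ∈ S ⊓ X := by rw [hTX]; exact ⟨hxT, hx⟩
    exact ((show Commute x q from hcom x hxS.1 hxS.2 q hq).mul_left
      ((show Commute (zz K) q from hzc q hq).zpow_left i)).eq
  -- `Z*`
  obtain ⟨H, hH⟩ : ∃ H, H = X ⊔ zpowers (zz K) := ⟨_, rfl⟩
  rw [← hH] at hT
  obtain ⟨P, hP⟩ := hT.exists_sylow
  have hzH : zz K ∈ H := by rw [hH]; exact mem_sup_right (mem_zpowers _)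
  obtain ⟨N, hN, hNo, hNc⟩ := S0215.result P (⟨zz K, hzH⟩ : H)
    (by rw [← orderOf_coe]; exact h.hyp.orderOf_zz hK)
    (by
      have h1 : (⟨zz K, hzH⟩ : H) ∈ (P : Subgroup H) := by
        rw [hP, mem_subgroupOf]
        exact hPT (mem_sup_right (mem_zpowers _))
      exact h1)
    (by
      intro g hg
      have hg0 : g * (⟨zz K, hzH⟩ : H) * g⁻¹ ∈ (P : Subgroup H) := hg
      rw [hP, mem_subgroupOf] at hg0
      apply Subtype.ext
      have hg' : (g : G) * zz K * (g : G)⁻¹ ∈ T := hg0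
      change (g : G) * zz K * (g : G)⁻¹ = zz K
      rw [← h.hyp.zz_cj hK] at hg' ⊢
      exact h.zz_eq_of_cent hK (h.hyp.conj K hK _) hQ (fun x hx => hTc _ hg' x hx))
  -- `N ∩ X = 1`
  have hXH : X ≤ H := by rw [hH]; exact le_sup_left
  have hM : (N.map H.subtype) ⊓ X = ⊥ := by
    apply hodd _ inf_le_right
    · intro x hx
      rw [mem_normalizer_iff_cj, cj_inf, mem_normalizer_iff_cj.1 (le_normalizer hx)]
      congr 1
      have h1 : cj x (N.map H.subtype) = (cj (⟨x, hXH hx⟩ : H) N).map H.subtype :=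
        (cj_map H.subtype ⟨x, hXH hx⟩ N).symm
      rw [h1]
      congr 1
      rw [← mem_normalizer_iff_cj, normalizer_eq_top_iff.2 hN]
      exact mem_top _
    · intro h2
      have h3 : 2 ∣ Nat.card N := by
        have h4 : Nat.card (N.map H.subtype) = Nat.card N :=
          (Nat.card_congr (N.equivMapOfInjective H.subtype H.subtype_injective).toEquiv).symm
        rw [← h4]
        exact h2.trans (card_dvd_of_le inf_le_left)
      rw [Nat.odd_iff] at hNo
      omega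
  have hcent : zz K ∈ centralizer (X : Set G) := by
    rw [mem_centralizer_iff]
    intro x hx
    have h1 := hNc ⟨x, hXH hx⟩
    have h2 : zz K * x * (zz K)⁻¹ * x⁻¹ ∈ (N.map H.subtype) ⊓ X := by
      refine ⟨⟨_, h1, rfl⟩, ?_⟩
      exact X.mul_mem (hX.conj_mem x hx _) (X.inv_mem hx)
    rw [hM, mem_bot, mul_inv_eq_one, mul_inv_eq_iff_eq_mul] at h2
    exact h2.symm
  rw [hC, mem_bot] at hcent
  exact h.hyp.zz_ne hK hcent

/-- **there is a pair** -/
theorem hPair (h : One Om) (hX : X.Normal)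
    (hodd : ∀ N : Subgroup G, N ≤ X → X ≤ normalizer (N : Set G) → ¬ 2 ∣ Nat.card N → N = ⊥)
    (hC : centralizer (X : Set G) = ⊥) (hne : Om.Nonempty) : Ker.HPair Om := by
  haveI : Fact (Nat.Prime 2) := ⟨Nat.prime_two⟩
  by_contra hno
  obtain ⟨K, hK⟩ := hne
  obtain ⟨Q, hQ⟩ := Hyp.exists_syl K
  obtain ⟨S, hS, hQS⟩ := exists_syl_ge hQ.2.1 (hQ.1.trans le_normalizer)
  have hStop := OneEndGlue.Fr.syl_top h hK hS
  have hzQ : zz K ∈ Q := by
    obtain ⟨c, v, n, g⟩ := h.hyp.exists_gq hK hQ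
    exact g.z_mem
  obtain ⟨P, hP⟩ : ∃ P : Sylow 2 G, (P : Subgroup G) = S := by
    refine ⟨hStop.2.1.toSylow ?_, rfl⟩
    rw [← relIndex_top_right]; exact hStop.2.2
  obtain ⟨N, hN, hNo, hNc⟩ := S0215.result P (zz K) (h.hyp.orderOf_zz hK)
    (by
      have h1 : zz K ∈ (P : Subgroup G) := by rw [hP]; exact hQS hzQ
      exact h1)
    (by
      intro g hg
      have hg0 : g * zz K * g⁻¹ ∈ (P : Subgroup G) := hg
      rw [hP] at hg0
      by_contra hne
      apply hno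
      refine ⟨K, hK, cj g K, h.hyp.conj K hK g, ?_, ?_⟩
      · intro hh
        apply hne
        rw [← h.hyp.zz_cj hK, ← hh]
      · rw [h.hyp.zz_cj hK]
        exact (h.hyp.comm_zz hK (hS.1 hg0)).symm)
  have hM : N ⊓ X = ⊥ := by
    apply hodd _ inf_le_right
    · intro x hx
      rw [mem_normalizer_iff_cj, cj_inf, mem_normalizer_iff_cj.1 (le_normalizer hx)]
      congr 1
      rw [← mem_normalizer_iff_cj, normalizer_eq_top_iff.2 hN]
      exact mem_top _
    · intro h2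
      have h3 : 2 ∣ Nat.card N := h2.trans (card_dvd_of_le inf_le_left)
      rw [Nat.odd_iff] at hNo
      omega
  have hcent : zz K ∈ centralizer (X : Set G) := by
    rw [mem_centralizer_iff]
    intro x hx
    have h2 : zz K * x * (zz K)⁻¹ * x⁻¹ ∈ N ⊓ X :=
      ⟨hNc x, X.mul_mem (hX.conj_mem x hx _) (X.inv_mem hx)⟩
    rw [hM, mem_bot, mul_inv_eq_one, mul_inv_eq_iff_eq_mul] at h2
    exact h2.symm
  rw [hC, mem_bot] at hcent
  exact h.hyp.zz_ne hK hcent

/-- a simple normal subgroup of even order has no normal subgroup of odd order -/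
theorem hodd_simple (hs : IsSimpleGroup X) (h2 : 2 ∣ Nat.card X) :
    ∀ N : Subgroup G, N ≤ X → X ≤ normalizer (N : Set G) → ¬ 2 ∣ Nat.card N → N = ⊥ := by
  intro N hNX hN hodd
  haveI : (N.subgroupOf X).Normal := (normal_subgroupOf_iff_le_normalizer hNX).2 hN
  rcases hs.eq_bot_or_eq_top_of_normal (N.subgroupOf X) inferInstance with h1 | h1
  · rw [← map_subgroupOf_eq_of_le hNX, h1, Subgroup.map_bot]
  · exfalso
    apply hodd
    have : N = X := le_antisymm hNX (subgroupOf_eq_top.1 h1)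
    rw [this]; exact h2

/-- for a simple normal subgroup of even order -/
theorem zz_mem_simple (h : One Om) (hX : X.Normal) (hs : IsSimpleGroup X) (h2 : 2 ∣ Nat.card X)
    (hC : centralizer (X : Set G) = ⊥) (hK : K ∈ Om) : zz K ∈ X :=
  zz_mem h hX (hodd_simple hs h2) hC hK

end Cfsg.Agent.Cit.Nil.ZMem
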