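import Cfsg.Agent.Cit.Nil.Ident
import Cfsg.Agent.Cit.Nil.NoHomo
import Cfsg.Agent.Cit.Nil.ASeven
import Cfsg.Agent.Cit.Nil.ZMem
import Cfsg.Agent.Cit.Nil.LOne
import Cfsg.Agent.Cit.Nil.FOne
import Cfsg.Agent.Lib.GenFitting

/-!
# The end of `|Om(S)| = 1`, 2-nilpotent members

THEOREM N1 of blueprints/CIT-6b-One-helper454.md: if `F*(G)` is simple non-abelian, `One Om`, `Om` is not empty and the
members are 2-nilpotent then `F*(G)` is of Lie type in odd characteristic, `M₁₁` or `M₁₂`.
-/

set_option autoImplicit false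
set_option linter.style.haveILetI false
set_option linter.unusedSectionVars false

namespace Cfsg.Agent.Cit.Nil.End

open Subgroup Cfsg Cit OneBasic Ident

open scoped commutatorElement

universe u

/-! ### Transport -/

section transport

theorem isQuasiDihedral_congr {A B : Type*} [Group A] [Group B] (e : A ≃* B) (h : Cfsg.IsQuasiDihedral A) :
    Cfsg.IsQuasiDihedral B := by
  obtain ⟨n, hn, hc, x, y, hx, hy, hxy⟩ := h
  refine ⟨n, hn, ?_, e x, e y, ?_, ?_, ?_⟩
  · rw [← hc]; exact (Nat.card_congr e.toEquiv).symm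
  · rw [MulEquiv.orderOf_eq, hx]
  · rw [MulEquiv.orderOf_eq, hy]
  · rw [← map_inv, ← map_mul, ← map_mul, hxy, map_pow]

theorem isWreathed_congr {A B : Type*} [Group A] [Group B] (e : A ≃* B) (h : Cfsg.IsWreathed A) :
    Cfsg.IsWreathed B := by
  obtain ⟨n, hn, hc, x, y, z, hx, hxy, hd, hz, hzx⟩ := h
  refine ⟨n, hn, ?_, e x, e y, e z, ?_, ?_, ?_, ?_, ?_⟩
  · rw [← hc]; exact (Nat.card_congr e.toEquiv).symm
  · rw [MulEquiv.orderOf_eq, hx]
  · rw [← map_mul, hxy, map_mul]
  · have e1 : zpowers (e x) = (zpowers x).map e.toMonoidHom := by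
      rw [MonoidHom.map_zpowers]; rfl
    have e2 : zpowers (e y) = (zpowers y).map e.toMonoidHom := by
      rw [MonoidHom.map_zpowers]; rfl
    rw [e1, e2, ← Subgroup.map_inf _ _ _ e.injective, hd, Subgroup.map_bot]
  · rw [MulEquiv.orderOf_eq, hz]
  · rw [← map_inv, ← map_mul, ← map_mul, hzx]

theorem tg2_subgroupOf {G : Type*} [Group G] {X T : Subgroup G} (hT : T ≤ X) {m : ℕ}
    {v : ZMod (2 ^ m) → ZMod (2 ^ m) → G} {r s : G} (h : SylowG2.Coord.TG2 T m v r s) :
    SylowG2.Coord.TG2 (T.subgroupOf X) m (fun i j => (⟨v i j, hT (h.v_mem i j)⟩ : X)) ⟨r, hT h.r_mem⟩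
      ⟨s, hT h.s_mem⟩ := by
  refine ⟨h.hm, fun i j => h.v_mem i j, h.r_mem, h.s_mem, ?_, ?_, ?_, ?_, ?_, ?_, ?_, ?_, ?_⟩
  · exact Subtype.ext h.v_zero
  · intro i j k l; exact Subtype.ext (h.v_mul i j k l)
  · intro i j hij; exact h.v_inj i j (congrArg Subtype.val hij)
  · intro i j; exact Subtype.ext (h.r_v i j)
  · intro i j; exact Subtype.ext (h.s_v i j)
  · exact Subtype.ext h.r_r
  · exact Subtype.ext h.s_s
  · exact Subtype.ext h.r_s
  · intro g hg
    obtain ⟨i, j, h1⟩ := h.cases g hg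
    refine ⟨i, j, ?_⟩
    rcases h1 with h1 | h1 | h1 | h1
    · exact Or.inl (Subtype.ext h1)
    · exact Or.inr (Or.inl (Subtype.ext h1))
    · exact Or.inr (Or.inr (Or.inl (Subtype.ext h1)))
    · exact Or.inr (Or.inr (Or.inr (Subtype.ext h1)))

end transport

/-! ### Simple groups -/

section simple

variable {X : Type*} [Group X]

theorem index_ne_two (hs : IsSimpleGroup X) (hna : ¬ IsMulCommutative X) (H : Subgroup X) : H.index ≠ 2 := by
  intro h
  have hn := normal_of_index_eq_two h
  rcases hs.eq_bot_or_eq_top_of_normal H hn with h1 | h1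
  · rw [h1, index_bot] at h
    apply hna
    haveI : Fact (Nat.Prime 2) := ⟨Nat.prime_two⟩
    haveI : IsCyclic X := isCyclic_of_prime_card h
    exact IsCyclic.isMulCommutative
  · rw [h1, index_top] at h
    omega

theorem oddCore_eq_bot [Finite X] (hs : IsSimpleGroup X) (h2 : 2 ∣ Nat.card X) : oddCore X = ⊥ := by
  rcases hs.eq_bot_or_eq_top_of_normal (oddCore X) (Lib.Cores.pPrimeCore_normal 2) with h | h
  · exact h
  · exfalso
    have h1 := Lib.Cores.pPrimeCore_coprime (G := X) 2
    have h4 : pPrimeCore 2 X = ⊤ := h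
    rw [h4, card_top] at h1
    have h3 := Nat.dvd_gcd h2 (dvd_refl 2)
    rw [h1] at h3
    omega

theorem commutator_eq_top (hs : IsSimpleGroup X) (hna : ¬ IsMulCommutative X) : commutator X = ⊤ := by
  rcases hs.eq_bot_or_eq_top_of_normal (commutator X) inferInstance with h | h
  · exfalso
    apply hna
    refine ⟨⟨fun x y => ?_⟩⟩
    have h1 : ⁅x, y⁆ ∈ commutator X := commutator_mem_commutator (mem_top x) (mem_top y)
    rw [h, mem_bot, commutatorElement_eq_one_iff_mul_comm] at h1
    exact h1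
  · exact h

end simple

section main

variable {G : Type u} [Group G] [Finite G]

theorem centralizer_fstar (hs : IsSimpleGroup ↥(generalizedFittingSubgroup G))
    (hna : ¬ IsMulCommutative ↥(generalizedFittingSubgroup G)) :
    centralizer (generalizedFittingSubgroup G : Set G) = ⊥ := by
  rw [eq_bot_iff]
  intro x hx
  have h1 := Lib.GenFitting.centralizer_genFitting_le (G := G) hx
  have h2 : (⟨x, h1⟩ : ↥(generalizedFittingSubgroup G)) ∈ center ↥(generalizedFittingSubgroup G) :=
    mem_center_iff.2 fun y => Subtype.ext (mem_centralizer_iff.1 hx y y.2)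
  rcases hs.eq_bot_or_eq_top_of_normal (center ↥(generalizedFittingSubgroup G)) inferInstance with h | h
  · rw [h, mem_bot] at h2
    rw [mem_bot]
    exact congrArg Subtype.val h2
  · exact absurd ⟨⟨fun x y => (mem_center_iff.1 (h.symm ▸ mem_top x) y).symm ▸ rfl⟩⟩ hna

/-- a nontrivial normal subgroup contains `F*(G)` -/
theorem fstar_le (hs : IsSimpleGroup ↥(generalizedFittingSubgroup G))
    (hna : ¬ IsMulCommutative ↥(generalizedFittingSubgroup G)) {N : Subgroup G} (hN : N.Normal) (hb : N ≠ ⊥) :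
    generalizedFittingSubgroup G ≤ N := by
  haveI := hN
  have hX : (generalizedFittingSubgroup G).Normal := Lib.GenFitting.genFitting_normal (G := G)
  haveI : (N.subgroupOf (generalizedFittingSubgroup G)).Normal := inferInstance
  rcases hs.eq_bot_or_eq_top_of_normal (N.subgroupOf (generalizedFittingSubgroup G)) inferInstance with h | h
  · exfalso
    apply hb
    rw [eq_bot_iff, ← centralizer_fstar hs hna]
    intro n hn
    rw [mem_centralizer_iff]
    intro x hx
    have h1 : (⟨x * n * x⁻¹ * n⁻¹, by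
        have h3 := hX.conj_mem _ (inv_mem hx) n
        have h4 := mul_mem hx h3
        have h5 : x * (n * x⁻¹ * n⁻¹) = x * n * x⁻¹ * n⁻¹ := by group
        rwa [h5] at h4⟩ : ↥(generalizedFittingSubgroup G)) ∈ N.subgroupOf (generalizedFittingSubgroup G) := by
      rw [mem_subgroupOf]
      exact mul_mem (hN.conj_mem n hn x) (inv_mem hn)
    rw [h, mem_bot] at h1
    have h2 : x * n * x⁻¹ * n⁻¹ = 1 := congrArg Subtype.val h1
    rw [mul_inv_eq_one, mul_inv_eq_iff_eq_mul] at h2
    exact h2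
  · exact subgroupOf_eq_top.1 h

/-- **THEOREM N1** -/
theorem main (hs : IsSimpleGroup ↥(generalizedFittingSubgroup G))
    (hna : ¬ IsMulCommutative ↥(generalizedFittingSubgroup G))
    (h2 : 2 ∣ Nat.card ↥(generalizedFittingSubgroup G))
    (h1173 : OneF.H1173 G) (h1171 : OneF.H1171 G) (h0506 : NoHomo.S0506Stmt.{u})
    (h0483 : St0483 ↥(generalizedFittingSubgroup G)) (h0507 : St0507 ↥(generalizedFittingSubgroup G))
    (h0523 : St0523 ↥(generalizedFittingSubgroup G)) (h1742 : St1742 ↥(generalizedFittingSubgroup G))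
    {Om : Set (Subgroup G)} (h : One Om) (hne : Om.Nonempty) (hn : NilOm Om) :
    Concl ↥(generalizedFittingSubgroup G) := by
  have hX : (generalizedFittingSubgroup G).Normal := Lib.GenFitting.genFitting_normal (G := G)
  have hC := centralizer_fstar hs hna
  have hN : ∀ N : Subgroup G, N.Normal → N ≠ ⊥ → centralizer (N : Set G) = ⊥ := by
    intro N hN hb
    rw [eq_bot_iff, ← hC]
    exact centralizer_le (fstar_le hs hna hN hb)
  have hO : oddCore G = ⊥ := by
    by_contra hb
    have h3 := fstar_le hs hna (Lib.Cores.pPrimeCore_normal 2 (G := G)) hb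
    have h4 := h2.trans (card_dvd_of_le h3)
    have h5 := Lib.Cores.pPrimeCore_coprime (G := G) 2
    have h6 := Nat.dvd_gcd h4 (dvd_refl 2)
    rw [h5] at h6
    omega
  have hF : Ker.FOne Om := fun b hb hw => OneF.eq_one_of_WW_nil h (l1_nil h hn) h1173 h1171 hO hN hb hw
  have hZX : ∀ K ∈ Om, zz K ∈ generalizedFittingSubgroup G := fun K hK => ZMem.zz_mem_simple h hX hs h2 hC hK
  have hP : Ker.HPair Om := ZMem.hPair h hX (ZMem.hodd_simple hs h2) hC hne
  have hperf : ⁅generalizedFittingSubgroup G, generalizedFittingSubgroup G⁆ = generalizedFittingSubgroup G := by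
    rw [← map_subtype_commutator, commutator_eq_top hs hna, ← MonoidHom.range_eq_map, range_subtype]
  by_cases hW : Ker.HW Om
  · obtain ⟨T, hT, hout⟩ := WWorld.main h hF hW hX hperf hZX
    obtain ⟨S, hS⟩ := NoHomo.exists_sylow hT
    rcases hout with h1 | ⟨m, v, r, s, h1⟩ | h1
    · refine of_wreathed h0523 S ?_
      rw [hS]
      exact isWreathed_congr (subgroupOfEquivOfLe hT.1).symm h1
    · refine of_tg2 h1742 S (m := m) (v := fun i j => ⟨v i j, hT.1 (h1.v_mem i j)⟩) (r := ⟨r, hT.1 h1.r_mem⟩)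
        (s := ⟨s, hT.1 h1.s_mem⟩) ?_
      rw [hS]
      exact tg2_subgroupOf hT.1 h1
    · exact absurd h1 (NoHomo.not_homo h0506 hs hna hT)
  · rcases SdEnd.main h hF hP hW hX hZX (index_ne_two hs hna) with ⟨T, hT, h1⟩ | ⟨T, n, c, t, v, hD⟩
    · obtain ⟨S, hS⟩ := NoHomo.exists_sylow hT
      refine of_quasi h0507 S ?_
      rw [hS]
      exact isQuasiDihedral_congr (subgroupOfEquivOfLe hT.1).symm h1
    · obtain ⟨S, hS⟩ := NoHomo.exists_sylow hD.syl
      obtain ⟨f⟩ := hD.equiv
      rcases of_dihedral h0483 (oddCore_eq_bot hs h2) S (n := 2 ^ (n + 2)) (by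
          rw [pow_succ]
          have := Nat.one_le_two_pow (n := n + 1)
          omega) ⟨by
          rw [hS]
          exact (subgroupOfEquivOfLe hD.syl.1).trans f⟩ with h1 | ⟨⟨e⟩⟩
      · exact h1
      · exact (ASeven.false_of_dih hD hX e).elim

end main

end Cfsg.Agent.Cit.Nil.End
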