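import Cfsg.Agent.Cit.Nil.FOne
import Cfsg.Agent.TwoFusion.ClosedCommutator

/-!
# `|Om(S)| = 1`: the hypothesis `H1171` (Goldschmidt's product theorem) is a theorem

Import this file only in the last file of a chain: its closure is large.
-/

set_option autoImplicit false

namespace Cfsg.Agent.Cit.OneF

theorem h1171 {G : Type*} [Group G] [Finite G] : H1171 G :=
  fun P A B h hA hB => TwoFusion.ClosedCommutator.commutator_le P A B h hA hB

end Cfsg.Agent.Cit.OneF
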