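import Cfsg.Agent.Cit.Nil.Typ

/-!
# (6b), `n = 1`: the `f`-lemma (1.1)
-/

set_option autoImplicit false
set_option linter.style.haveILetI false
set_option linter.unusedSectionVars false

namespace Cfsg.Agent.Cit.Nil

open Subgroup Cfsg Cit OneBasic OneF

variable {G : Type*} [Group G]

/-- the pair package: `R` is a 2-group containing `A`, normalising `K`, `Q` and `C(z) ∩ C(t)`,
`T = C_R(t)` is a Sylow 2-subgroup of `C(z) ∩ C(t)`, `f ∈ Q' ∩ T`, `f² = t` -/
structure Pack (Om : Set (Subgroup G)) (K L Q A R T Q' : Subgroup G) (f : G) : Prop where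
  pair : OPair Om K L T Q Q'
  two : IsPGroup 2 R
  AR : A ≤ R
  RK : R ≤ normalizer (K : Set G)
  RQ : R ≤ normalizer (Q : Set G)
  RP : R ≤ normalizer ((centralizer {zz K} ⊓ centralizer {zz L} : Subgroup G) : Set G)
  TR : T ≤ R
  memT : ∀ a ∈ R, a * zz L = zz L * a → a ∈ T
  fQ : f ∈ Q'
  fT : f ∈ T
  ff : f * f = zz L

variable [Finite G] {Om : Set (Subgroup G)} {K L Q A R T Q' : Subgroup G} {w r r1 f b : G}

theorem exists_pack (h : One Om) (hK : K ∈ Om) (hL : L ∈ Om) (hQ : Syl Q K) (hw : w ∈ Q)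
    (hw2 : w * w = zz K) (hr : ∀ q ∈ Q, r * q = q * r) (hr2 : r * r = zz K) (hLz : zz L = w * r)
    (hA : IsPGroup 2 A) (hQA : Q ≤ A) (hAK : A ≤ normalizer (K : Set G))
    (hAP : A ≤ normalizer ((centralizer {zz K} ⊓ centralizer {zz L} : Subgroup G) : Set G)) :
    ∃ R T Q' f, Pack Om K L Q A R T Q' f := by
  have hzz := h.hyp.zz_mul hK
  have hz1 := h.hyp.zz_ne hK
  have hzr : r * zz K = zz K * r := sq_comm hr2
  have hzw : w * zz K = zz K * w := sq_comm hw2
  have hcomm : zz K * zz L = zz L * zz K := by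
    rw [hLz]
    calc zz K * (w * r) = (zz K * w) * r := by group
      _ = w * (zz K * r) := by rw [← hzw]; group
      _ = w * r * zz K := by rw [← hzr]; group
  have hwL : w * zz L = zz L * w := by
    rw [hLz]
    calc w * (w * r) = w * (r * w) := by rw [hr w hw]
      _ = w * r * w := by group
  have hne : K ≠ L := by
    rintro rfl
    have h1 : w = 1 := by
      -- `z = w r`, so `w = z r⁻¹` centralises `Q`, `w² = z`; then `r = w⁻¹ z` is in `Q` and central
      have h2 : r = w⁻¹ * zz K := by rw [hLz]; group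
      have h3 : ∀ q ∈ Q, w * q = q * w := by
        intro q hq
        have h4 := hr q hq
        have h5 : w = zz K * r⁻¹ := by rw [hLz]; group
        have hzq : zz K * q = q * zz K := (h.hyp.comm_zz hK (le_normalizer (hQ.1 hq))).symm
        have h6 : r⁻¹ * q = q * r⁻¹ := by
          rw [inv_mul_eq_iff_eq_mul, ← mul_assoc, h4, mul_inv_cancel_right]
        rw [h5]
        calc zz K * r⁻¹ * q = zz K * (r⁻¹ * q) := by group
          _ = (zz K * q) * r⁻¹ := by rw [h6]; group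
          _ = q * (zz K * r⁻¹) := by rw [hzq]; group
      obtain ⟨x, hx, y, hy, hx2, hy2, hxy⟩ := exists_anti h hK hQ
      obtain ⟨c, v, n, hc⟩ := h.hyp.exists_gq hK hQ
      have hw4 : orderOf w = 4 := orderOf_four h hK hw2
      obtain ⟨v1, hv1, -, hv2⟩ := hc.exists_inverting hw hw4
      exfalso
      have h6 := h3 v1 hv1
      have h7 : v1 * w * v1⁻¹ = w⁻¹ := by
        exact hv2
      rw [← h6, mul_inv_cancel_right] at h7
      have h8 : w * w = 1 := by nth_rw 2 [h7]; exact mul_inv_cancel w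
      rw [hw2] at h8
      exact hz1 h8
    rw [h1, one_mul] at hw2
    exact hz1 hw2.symm
  obtain ⟨P1, hP1⟩ : ∃ P1, P1 = (centralizer {zz K} ⊓ centralizer {zz L} : Subgroup G) := ⟨_, rfl⟩
  have hP1' : P1 = normalizer (K : Set G) ⊓ normalizer (L : Set G) := by
    rw [hP1, h.centralizer_zz hK, h.centralizer_zz hL]
  rw [← hP1] at hAP
  obtain ⟨R, hR, hAR, hRA, hSyl⟩ := exists_two_sup hA hAP
  have hQR : Q ≤ R := hQA.trans hAR
  have hRP1 : R ≤ normalizer (P1 : Set G) := hRA.trans (sup_le hAP le_normalizer)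
  have hRK : R ≤ normalizer (K : Set G) := by
    refine hRA.trans (sup_le hAK ?_)
    rw [hP1']; exact inf_le_left
  have hKR : K ⊓ R = Q := (syl_eq_of_le hQ (hR.to_le inf_le_right) inf_le_left (le_inf hQ.1 hQR)).symm
  have hRQ : R ≤ normalizer (Q : Set G) := by
    intro a ha
    rw [mem_normalizer_iff_cj, ← hKR, cj_inf, mem_normalizer_iff_cj.1 (hRK ha),
      mem_normalizer_iff_cj.1 (le_normalizer ha)]
  obtain ⟨T, hT⟩ : ∃ T, T = P1 ⊓ R := ⟨_, rfl⟩
  rw [← hT] at hSyl
  have hTR : T ≤ R := by rw [hT]; exact inf_le_right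
  have hTP : T ≤ P1 := by rw [hT]; exact inf_le_left
  have hTL : T ≤ normalizer (L : Set G) := hTP.trans (by rw [hP1']; exact inf_le_right)
  obtain ⟨Q', hQ', hTQ'⟩ := exists_syl_normalized hSyl.2.1 hTL
  have p : OPair Om K L T Q Q' :=
    ⟨hK, hL, hne, hcomm, hQ, hQ', by rw [← hP1']; exact hSyl, hTR.trans hRQ, hTQ'⟩
  obtain ⟨x, y, x', y', n, c⟩ := p.exists_co h
  have hW : zz K * x' = x' * zz K ∧ zz L * x = x * zz L := by
    rcases c.dich h with h1 | h1
    · exact h1
    · exfalso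
      rcases h1.1 w hw hwL with h2 | h2
      · rw [h2, one_mul] at hw2; exact hz1 hw2.symm
      · rw [h2, hzz] at hw2; exact hz1 hw2.symm
  have hx'T : x' ∈ T := p.symm.mem_T h c.gq'.c_mem hW.1.symm
  refine ⟨R, T, Q', x' ^ 2 ^ n, p, hR, hAR, hRK, hRQ, by rw [← hP1]; exact hRP1, hTR, ?_,
    Q'.pow_mem c.gq'.c_mem _, T.pow_mem hx'T _, c.gq'.w_sq⟩
  intro a ha haL
  rw [hT, hP1']
  exact ⟨⟨hRK ha, h.mem_normalizer hL haL⟩, ha⟩

namespace Pack

variable (p : Pack Om K L Q A R T Q' f)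
include p

/-- (i) -/
theorem comm_f (h : One Om) {a : G} (ha : a ∈ T) (haQ : ∀ q ∈ Q, a * q = q * a) : a * f = f * a :=
  p.pair.cent_R' h ha haQ p.fQ p.fT

theorem comm_fw (h : One Om) (hw : w ∈ Q) (hwL : w * zz L = zz L * w) : w * f = f * w :=
  p.pair.commute_R h hw (p.pair.mem_T h hw hwL) p.fQ p.fT

theorem fz (h : One Om) : f * zz K = zz K * f := p.pair.tz h p.fT

theorem fL (h : One Om) : f * zz L = zz L * f := p.pair.tt h p.fT

/-- (ii): `f` commutes with every `b ∈ T` with `b ⊥ L` or `z b ⊥ L` -/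
theorem comm_fb (h : One Om) (hb : b ∈ T) (hbL : Perp b L ∨ Perp (zz K * b) L) : b * f = f * b := by
  have hb2 : IsPGroup 2 (zpowers b) := isPGroup_zpowers_of_mem p.pair.tp hb
  rcases hbL with h1 | h1
  · exact h1.cent h p.pair.hL hb2 p.pair.hQ' (p.pair.hTQ' hb) f p.fQ
  · have h2 : zz K * b ∈ T := T.mul_mem (p.pair.zK_mem h) hb
    have h3 := h1.cent h p.pair.hL (isPGroup_zpowers_of_mem p.pair.tp h2) p.pair.hQ' (p.pair.hTQ' h2) f p.fQ
    have h4 := p.fz h
    have h5 : zz K * (b * f) = zz K * (f * b) := by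
      calc zz K * (b * f) = zz K * b * f := by group
        _ = f * (zz K * b) := h3
        _ = (f * zz K) * b := by group
        _ = zz K * (f * b) := by rw [h4]; group
    exact mul_left_cancel h5

/-- (iv) -/
theorem exists_phi (h : One Om) (hw : w ∈ Q) (hw2 : w * w = zz K) (hr : ∀ q ∈ Q, r * q = q * r)
    (hr2 : r * r = zz K) (hLz : zz L = w * r) (hrR : r ∈ R) (hr1 : ∀ q ∈ Q, r1 * q = q * r1)
    (hr12 : r1 * r1 = zz K) (hanti : r1 * r = zz K * (r * r1)) (hr1R : r1 ∈ R) :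
    ∃ φ, φ * φ = 1 ∧ (∀ q ∈ Q, φ * q = q * φ) ∧ φ * r = r * φ ∧ φ * r1 = r1 * φ ∧ φ * f = f * φ ∧
      (∀ b, b * r = r * b → b * r1 = r1 * b → b * f = f * b → b * zz K = zz K * b → b * φ = φ * b) ∧
      Perp φ L ∧ (f * r1 * f⁻¹ = r1 * r * φ ∨ f * r1 * f⁻¹ = zz K * (r1 * r * φ)) := by
  have hzz := h.hyp.zz_mul p.pair.hK
  have hzi := h.hyp.zz_inv p.pair.hK
  have hzr : r * zz K = zz K * r := sq_comm hr2
  have hzr1 : r1 * zz K = zz K * r1 := sq_comm hr12
  have hzw : w * zz K = zz K * w := sq_comm hw2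
  have hrinv : r⁻¹ = zz K * r := inv_of_sq hr2 hzz
  have hr1inv : r1⁻¹ = zz K * r1 := inv_of_sq hr12 hzz
  have hrw : r * w = w * r := hr w hw
  have hr1w : r1 * w = w * r1 := hr1 w hw
  have hwL : w * zz L = zz L * w := by
    rw [hLz]
    calc w * (w * r) = w * (r * w) := by rw [hrw]
      _ = w * r * w := by group
  have hrL : r * zz L = zz L * r := by
    rw [hLz]
    calc r * (w * r) = (r * w) * r := by group
      _ = w * r * r := by rw [hrw]
  have hrT : r ∈ T := p.memT r hrR hrL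
  have hrf : r * f = f * r := p.comm_f h hrT hr
  have hfz := p.fz h
  have hfrf : f * r * f⁻¹ = r := by rw [← hrf, mul_inv_cancel_right]
  have hfR : f ∈ R := p.TR p.fT
  have hfQ : f ∈ normalizer (Q : Set G) := p.RQ hfR
  -- `r1 r r1⁻¹ = z r`
  have hc1 : r1 * r * r1⁻¹ = zz K * r := by
    rw [hanti]
    group
  -- `r2 = f r1 f⁻¹`
  obtain ⟨r2, hr2d⟩ : ∃ r2, r2 = f * r1 * f⁻¹ := ⟨_, rfl⟩
  have hr2R : r2 ∈ R := by rw [hr2d]; exact R.mul_mem (R.mul_mem hfR hr1R) (R.inv_mem hfR)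
  have hr2Q : ∀ q ∈ Q, r2 * q = q * r2 := by
    intro q hq
    have h1 := hr1 _ (conj_mem_of' hfQ hq)
    rw [hr2d]
    calc f * r1 * f⁻¹ * q = f * (r1 * (f⁻¹ * q * f)) * f⁻¹ := by group
      _ = f * ((f⁻¹ * q * f) * r1) * f⁻¹ := by rw [h1]
      _ = q * (f * r1 * f⁻¹) := by group
  have hr22 : r2 * r2 = zz K := by
    rw [hr2d]
    calc f * r1 * f⁻¹ * (f * r1 * f⁻¹) = f * (r1 * r1) * f⁻¹ := by group
      _ = zz K := by rw [hr12, hfz, mul_inv_cancel_right]
  have hc2 : r2 * r * r2⁻¹ = zz K * r := by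
    have h1 : f⁻¹ * r * f = r := by rw [mul_assoc, hrf, inv_mul_cancel_left]
    rw [hr2d]
    calc f * r1 * f⁻¹ * r * (f * r1 * f⁻¹)⁻¹ = f * (r1 * (f⁻¹ * r * f) * r1⁻¹) * f⁻¹ := by group
      _ = f * (zz K * r) * f⁻¹ := by rw [h1, hc1]
      _ = (f * zz K * f⁻¹) * (f * r * f⁻¹) := by group
      _ = zz K * r := by rw [hfrf, hfz, mul_inv_cancel_right]
  -- `u = r1⁻¹ r2`
  obtain ⟨u, hu⟩ : ∃ u, u = r1⁻¹ * r2 := ⟨_, rfl⟩
  have hr2u : r2 = r1 * u := by rw [hu]; group
  have huR : u ∈ R := by rw [hu]; exact R.mul_mem (R.inv_mem hr1R) hr2R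
  have huQ : ∀ q ∈ Q, u * q = q * u := by
    intro q hq
    have h1 : r1⁻¹ * q = q * r1⁻¹ := by
      rw [inv_mul_eq_iff_eq_mul, ← mul_assoc, hr1 q hq, mul_inv_cancel_right]
    rw [hu]
    calc r1⁻¹ * r2 * q = r1⁻¹ * (r2 * q) := by group
      _ = (r1⁻¹ * q) * r2 := by rw [hr2Q q hq]; group
      _ = q * (r1⁻¹ * r2) := by rw [h1]; group
  have hur : u * r = r * u := by
    have h1 : r1⁻¹ * (zz K * r) * r1 = r := by rw [← hc1]; group
    have h2 : u * r * u⁻¹ = r := by
      rw [hu]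
      calc r1⁻¹ * r2 * r * (r1⁻¹ * r2)⁻¹ = r1⁻¹ * (r2 * r * r2⁻¹) * r1 := by group
        _ = r := by rw [hc2, h1]
    rwa [mul_inv_eq_iff_eq_mul] at h2
  have huw : u * w = w * u := huQ w hw
  have huT : u ∈ T := by
    apply p.memT u huR
    rw [hLz]
    calc u * (w * r) = (u * w) * r := by group
      _ = w * (u * r) := by rw [huw]; group
      _ = w * r * u := by rw [hur]; group
  have huf : u * f = f * u := p.comm_f h huT huQ
  have huz : u * zz K = zz K * u := huQ _ (zz_mem_syl h p.pair.hK p.pair.hQ)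
  -- `u² = z`
  have hu2 : u * u = zz K := by
    have h1 : f * r2 * f⁻¹ = r1 * (u * u) := by
      rw [hr2u]
      calc f * (r1 * u) * f⁻¹ = (f * r1 * f⁻¹) * (f * u * f⁻¹) := by group
        _ = r2 * u := by rw [← hr2d, ← huf, mul_inv_cancel_right]
        _ = r1 * (u * u) := by rw [hr2u, mul_assoc]
    have h2 : f * r2 * f⁻¹ = zz L * r1 * (zz L)⁻¹ := by
      rw [hr2d, ← p.ff]; group
    have h3 : zz L * r1 * (zz L)⁻¹ = r1 * zz K := by
      have h4 : r * r1 = zz K * (r1 * r) := by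
        calc r * r1 = (zz K * zz K) * (r * r1) := by rw [hzz, one_mul]
          _ = zz K * (zz K * (r * r1)) := by group
          _ = zz K * (r1 * r) := by rw [← hanti]
      rw [mul_inv_eq_iff_eq_mul, hLz]
      calc w * r * r1 = w * (r * r1) := by group
        _ = (w * zz K) * (r1 * r) := by rw [h4]; group
        _ = zz K * (w * r1) * r := by rw [hzw]; group
        _ = (zz K * r1) * (w * r) := by rw [← hr1w]; group
        _ = r1 * zz K * (w * r) := by rw [hzr1]
    rw [h1, h3] at h2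
    exact mul_left_cancel h2
  -- `r1` inverts `u`
  have hr1u : u * r1 = zz K * (r1 * u) := by
    have h1 : r1 * u * (r1 * u) = zz K := by rw [← hr2u]; exact hr22
    have h2 : r1 * (u * r1 * u) = r1 * (r1) := by
      rw [hr12]
      calc r1 * (u * r1 * u) = r1 * u * (r1 * u) := by group
        _ = zz K := h1
    have h3 := mul_left_cancel h2
    have h4 : u * r1 = r1 * u⁻¹ := by rw [eq_mul_inv_iff_mul_eq]; exact h3
    rw [h4, inv_of_sq hu2 hzz]
    calc r1 * (zz K * u) = (r1 * zz K) * u := by group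
      _ = zz K * (r1 * u) := by rw [hzr1]; group
  -- `a = u r⁻¹`
  obtain ⟨a, ha⟩ : ∃ a, a = u * r⁻¹ := ⟨_, rfl⟩
  have hri : r⁻¹ * u = u * r⁻¹ := by
    rw [inv_mul_eq_iff_eq_mul, ← mul_assoc, ← hur, mul_inv_cancel_right]
  have har : a * r = r * a := by
    rw [ha, inv_mul_cancel_right, ← mul_assoc, ← hur, mul_inv_cancel_right]
  have haT : a ∈ T := by rw [ha]; exact T.mul_mem huT (T.inv_mem hrT)
  have hriQ : ∀ q ∈ Q, r⁻¹ * q = q * r⁻¹ := by
    intro q hq
    rw [inv_mul_eq_iff_eq_mul, ← mul_assoc, hr q hq, mul_inv_cancel_right]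
  have haQ : ∀ q ∈ Q, a * q = q * a := by
    intro q hq
    rw [ha]
    calc u * r⁻¹ * q = u * (r⁻¹ * q) := by group
      _ = (u * q) * r⁻¹ := by rw [hriQ q hq]; group
      _ = q * (u * r⁻¹) := by rw [huQ q hq]; group
  have haz : a * zz K = zz K * a := haQ _ (zz_mem_syl h p.pair.hK p.pair.hQ)
  have ha2 : a * a = 1 := by
    rw [ha]
    calc u * r⁻¹ * (u * r⁻¹) = u * (r⁻¹ * u) * r⁻¹ := by group
      _ = (u * u) * (r * r)⁻¹ := by rw [hri]; group
      _ = 1 := by rw [hu2, hr2, mul_inv_cancel]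
  have haf : a * f = f * a := p.comm_f h haT haQ
  have har1 : a * r1 = r1 * a := by
    have h1 : r⁻¹ * r1 = zz K * (r1 * r⁻¹) := by
      rw [hrinv]
      have h4 : r * r1 = zz K * (r1 * r) := by
        calc r * r1 = (zz K * zz K) * (r * r1) := by rw [hzz, one_mul]
          _ = zz K * (zz K * (r * r1)) := by group
          _ = zz K * (r1 * r) := by rw [← hanti]
      calc zz K * r * r1 = zz K * (r * r1) := by group
        _ = zz K * (zz K * r1) * r := by rw [h4]; group
        _ = zz K * (r1 * zz K) * r := by rw [hzr1]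
        _ = zz K * (r1 * (zz K * r)) := by group
    rw [ha]
    calc u * r⁻¹ * r1 = u * (r⁻¹ * r1) := by group
      _ = (u * zz K) * (r1 * r⁻¹) := by rw [h1]; group
      _ = zz K * (u * r1) * r⁻¹ := by rw [huz]; group
      _ = (zz K * zz K) * (r1 * u) * r⁻¹ := by rw [hr1u]; group
      _ = r1 * (u * r⁻¹) := by rw [hzz]; group
  have hua : u = r * a := by rw [← har, ha]; group
  have hfin : f * r1 * f⁻¹ = r1 * r * a := by rw [← hr2d, hr2u, hua]; group
  have hba : ∀ b, b * r = r * b → b * r1 = r1 * b → b * f = f * b → b * a = a * b := by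
    intro b hbr hbr1 hbf
    have e : ∀ x : G, b * x = x * b → b * x⁻¹ = x⁻¹ * b := fun x hx => by
      rw [eq_inv_mul_iff_mul_eq, ← mul_assoc, ← hx, mul_inv_cancel_right]
    have hbr2 : b * r2 = r2 * b := by
      rw [hr2d]
      calc b * (f * r1 * f⁻¹) = (b * f) * r1 * f⁻¹ := by group
        _ = f * (b * r1) * f⁻¹ := by rw [hbf]; group
        _ = f * r1 * (b * f⁻¹) := by rw [hbr1]; group
        _ = f * r1 * f⁻¹ * b := by rw [e f hbf]; group
    have hbu : b * u = u * b := by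
      rw [hu]
      calc b * (r1⁻¹ * r2) = (b * r1⁻¹) * r2 := by group
        _ = r1⁻¹ * (b * r2) := by rw [e r1 hbr1]; group
        _ = r1⁻¹ * r2 * b := by rw [hbr2]; group
    rw [ha]
    calc b * (u * r⁻¹) = (b * u) * r⁻¹ := by group
      _ = u * (b * r⁻¹) := by rw [hbu]; group
      _ = u * r⁻¹ * b := by rw [e r hbr]; group
  rcases p.pair.cent_or h haT haQ ha2 with h1 | h1
  · exact ⟨a, ha2, haQ, har, har1, haf, fun b h2 h3 h4 _ => hba b h2 h3 h4, ⟨Q', p.pair.hQ', h1⟩, Or.inl hfin⟩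
  · have hzf : zz K * f = f * zz K := hfz.symm
    refine ⟨zz K * a, ?_, ?_, ?_, ?_, ?_, ?_, ⟨Q', p.pair.hQ', h1⟩, Or.inr ?_⟩
    · calc zz K * a * (zz K * a) = zz K * (a * zz K) * a := by group
        _ = (zz K * zz K) * (a * a) := by rw [haz]; group
        _ = 1 := by rw [hzz, ha2, one_mul]
    · intro q hq
      have hzq : zz K * q = q * zz K := (h.hyp.comm_zz p.pair.hK (le_normalizer (p.pair.hQ.1 hq))).symm
      calc zz K * a * q = zz K * (a * q) := by group
        _ = (zz K * q) * a := by rw [haQ q hq]; group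
        _ = q * (zz K * a) := by rw [hzq]; group
    · calc zz K * a * r = zz K * (a * r) := by group
        _ = (zz K * r) * a := by rw [har]; group
        _ = r * (zz K * a) := by rw [← hzr]; group
    · calc zz K * a * r1 = zz K * (a * r1) := by group
        _ = (zz K * r1) * a := by rw [har1]; group
        _ = r1 * (zz K * a) := by rw [← hzr1]; group
    · calc zz K * a * f = zz K * (a * f) := by group
        _ = (zz K * f) * a := by rw [haf]; group
        _ = f * (zz K * a) := by rw [hzf]; group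
    · intro b h2 h3 h4 h5
      calc b * (zz K * a) = (b * zz K) * a := by group
        _ = zz K * (b * a) := by rw [h5]; group
        _ = zz K * a * b := by rw [hba b h2 h3 h4]; group
    · rw [hfin]
      calc r1 * r * a = (zz K * zz K) * (r1 * r * a) := by rw [hzz, one_mul]
        _ = zz K * ((zz K * r1) * r * a) := by group
        _ = zz K * (r1 * (zz K * r) * a) := by rw [← hzr1]; group
        _ = zz K * (r1 * (r * zz K) * a) := by rw [hzr]
        _ = zz K * (r1 * r * (zz K * a)) := by group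

end Pack

end Cfsg.Agent.Cit.Nil
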