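import Cfsg.Agent.Cit.Nil.IndDefs
import Cfsg.Agent.Cit.Nil.RG.Leaf
import Cfsg.Agent.Cit.Nil.RTwo.World

/-!
# S1309: from the frame theorem to the leaves with `m = 1`

* `IndStmt` : the statement `T'` for all groups (the output of the frame theorem);
* `mone_of_ind` : in the core-free world (C3) of S1309: `m = 1`;
* `c3Free_of` : `AssemblyNil.C3Free` from `IndStmt` and the leaves `r = 2`, `m = 1` and `r = 4`, `m = 1`.
-/

set_option autoImplicit false
set_option linter.style.haveILetI false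
set_option linter.unusedSectionVars false

namespace Cfsg.Agent.Cit.Nil.FinBridge

open Subgroup Cfsg Cfsg.Agent.Cit Cfsg.Agent.Cit.Nil.IndDefs

universe u

/-- **the statement `T'` for all groups** -/
def IndStmt : Prop := ∀ (H : Type u) [Group H] [Finite H] (Om : Set (Subgroup H)), T0 Om → ∀ K ∈ Om, TStat Om K

variable {G : Type u} [Group G] [Finite G] {Om : Set (Subgroup G)} {K L : Subgroup G}

/-- conjugation respects the components -/
theorem comp_cj (hyp : Hyp Om) (g : G) (h : L ∈ comp Om K) : cj g L ∈ comp Om (cj g K) := by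
  induction h with
  | refl => exact Relation.ReflTransGen.refl
  | tail _ hbc ih =>
    refine Relation.ReflTransGen.tail ih ⟨hyp.conj _ hbc.1 g, hyp.conj _ hbc.2.1 g, fun hc => hbc.2.2 ?_⟩
    intro a ha b hb
    have h1 := hc _ (conj_mem_cj (g := g) ha) _ (conj_mem_cj (g := g) hb)
    have h2 : g * (a * b) * g⁻¹ = g * (b * a) * g⁻¹ := by
      calc g * (a * b) * g⁻¹ = g * a * g⁻¹ * (g * b * g⁻¹) := by group
        _ = g * b * g⁻¹ * (g * a * g⁻¹) := h1
        _ = g * (b * a) * g⁻¹ := by group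
    exact mul_left_cancel (mul_right_cancel h2)

/-- members in different components commute -/
theorem cm_of_not_mem {M : Subgroup G} (hL : L ∈ comp Om K) (hLO : L ∈ Om) (hM : M ∈ Om) (h : M ∉ comp Om K) :
    Cm L M := by
  by_contra hc
  exact h (mem_comp_of hL ⟨hLO, hM, hc⟩)

section world

variable (w : AssemblyNil.FS G)

include w

theorem fstar_le' {N : Subgroup G} (hN : N.Normal) (hb : N ≠ ⊥) : generalizedFittingSubgroup G ≤ N :=
  End.fstar_le w.simple w.na hN hb

/-- a subgroup which is normalised by `F*(G)` and is not trivial contains `F*(G)` -/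
theorem fstar_le_of_normalizes {B : Subgroup G} (hB : B ≠ ⊥)
    (hn : generalizedFittingSubgroup G ≤ normalizer (B : Set G)) : generalizedFittingSubgroup G ≤ B := by
  have f := ROne.fsimp_of w.simple w.na
  have hX := f.nor
  have h1 : (B.subgroupOf (generalizedFittingSubgroup G)).Normal := by
    refine ⟨fun x hx g => ?_⟩
    rw [mem_subgroupOf] at hx ⊢
    exact (mem_normalizer_iff.1 (hn g.2) _).1 hx
  rcases w.simple.eq_bot_or_eq_top_of_normal _ h1 with h2 | h2
  · exfalso
    apply hB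
    rw [eq_bot_iff, ← f.cen]
    intro b hb
    rw [mem_centralizer_iff]
    intro x hx
    have h3 : x * b * x⁻¹ * b⁻¹ ∈ B := B.mul_mem ((mem_normalizer_iff.1 (hn hx) b).1 hb) (B.inv_mem hb)
    have h4 : x * b * x⁻¹ * b⁻¹ ∈ generalizedFittingSubgroup G := by
      have h5 := hX.conj_mem x⁻¹ ((generalizedFittingSubgroup G).inv_mem hx) b
      have h6 : x * b * x⁻¹ * b⁻¹ = x * (b * x⁻¹ * b⁻¹) := by group
      rw [h6]
      exact (generalizedFittingSubgroup G).mul_mem hx h5
    have h7 : (⟨x * b * x⁻¹ * b⁻¹, h4⟩ : ↥(generalizedFittingSubgroup G)) ∈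
        B.subgroupOf (generalizedFittingSubgroup G) := mem_subgroupOf.2 h3
    rw [h2, mem_bot] at h7
    have h8 : x * b * x⁻¹ * b⁻¹ = 1 := congrArg Subtype.val h7
    calc x * b = x * b * x⁻¹ * b⁻¹ * b * x := by group
      _ = b * x := by rw [h8, one_mul]
  · exact subgroupOf_eq_top.1 h2

/-- there is only one component -/
theorem comp_eq_all (hne : ∀ K ∈ Om, K ≠ ⊥) (hcl : ∀ g : G, ∀ K ∈ Om, cj g K ∈ Om) (hK : K ∈ Om)
    (hL : L ∈ Om) : L ∈ comp Om K := by
  by_contra hc
  -- `B_K`, `B_L` commute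
  have key : ∀ M ∈ Om, generalizedFittingSubgroup G ≤ sSup (comp Om M) := by
    intro M hM
    have hsub := comp_sub hM
    have hB : sSup (comp Om M) ≠ ⊥ := by
      intro h
      apply hne M hM
      rw [eq_bot_iff, ← h]
      exact le_sSup mem_comp_self
    refine fstar_le_of_normalizes w hB ?_
    -- every member normalises `B_M`
    have h1 : ∀ P ∈ Om, P ≤ normalizer (sSup (comp Om M) : Subgroup G) := by
      intro P hP
      by_cases hPc : P ∈ comp Om M
      · exact (le_sSup hPc).trans le_normalizer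
      · refine le_trans ?_ (centralizer_le_normalizer ((sSup (comp Om M) : Subgroup G) : Set G))
        intro p hp
        have h2 : sSup (comp Om M) ≤ centralizer ({p} : Set G) := by
          refine sSup_le fun Q hQ q hq => ?_
          rw [mem_centralizer_singleton_iff]
          exact cm_of_not_mem hQ (hsub hQ) hP hPc q hq p hp
        rw [mem_centralizer_iff]
        intro q hq
        exact mem_centralizer_singleton_iff.1 (h2 hq)
    have hN : (sSup Om : Subgroup G).Normal := by
      refine ⟨fun x hx g => ?_⟩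
      have h3 : sSup Om ≤ (sSup Om : Subgroup G).comap (MulAut.conj g).toMonoidHom := by
        refine sSup_le fun P hP q hq => ?_
        rw [mem_comap]
        have h4 : cj g P ≤ sSup Om := le_sSup (hcl g P hP)
        exact h4 (conj_mem_cj hq)
      exact h3 hx
    have hNb : (sSup Om : Subgroup G) ≠ ⊥ := by
      intro h
      apply hne M hM
      rw [eq_bot_iff, ← h]
      exact le_sSup hM
    exact (fstar_le' w hN hNb).trans (sSup_le h1)
  apply w.na
  refine ⟨⟨fun a b => Subtype.ext ?_⟩⟩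
  have ha := key K hK a.2
  have hb := key L hL b.2
  have hdis : ∀ P ∈ comp Om K, ∀ Q ∈ comp Om L, Cm P Q := by
    intro P hP Q hQ
    refine cm_of_not_mem hP (comp_sub hK hP) (comp_sub hL hQ) fun h => hc ?_
    exact comp_trans h (comp_symm hQ)
  have h1 : ∀ P ∈ comp Om K, ∀ p ∈ P, (b : G) * p = p * b := by
    intro P hP p hp
    have h2 : sSup (comp Om L) ≤ centralizer ({p} : Set G) := by
      refine sSup_le fun Q hQ q hq => ?_
      rw [mem_centralizer_singleton_iff]
      exact (hdis P hP Q hQ p hp q hq).symm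
    exact mem_centralizer_singleton_iff.1 (h2 hb)
  have h3 : sSup (comp Om K) ≤ centralizer ({(b : G)} : Set G) := by
    refine sSup_le fun P hP p hp => ?_
    rw [mem_centralizer_singleton_iff]
    exact (h1 P hP p hp).symm
  exact mem_centralizer_singleton_iff.1 (h3 ha)

theorem pCore_eq_bot : Cfsg.pCore 2 G = ⊥ := by
  haveI : Fact (Nat.Prime 2) := ⟨Nat.prime_two⟩
  by_contra h
  have h1 := fstar_le' w (Lib.Cores.pCore_normal 2) h
  have h2 : IsPGroup 2 ↥(generalizedFittingSubgroup G) := (Lib.Cores.pCore_isPGroup (G := G) 2).to_le h1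
  haveI := w.simple
  haveI : Group.IsNilpotent ↥(generalizedFittingSubgroup G) := h2.isNilpotent
  have h3 : Group.IsSolvable ↥(generalizedFittingSubgroup G) := inferInstance
  exact w.na ⟨⟨IsSimpleGroup.comm_iff_isSolvable.2 h3⟩⟩

theorem oddCore_eq_bot : Cfsg.pPrimeCore 2 G = ⊥ := by
  by_contra h
  have h1 := fstar_le' w (Lib.Cores.pPrimeCore_normal 2) h
  have h2 := Lib.Cores.pPrimeCore_coprime (G := G) 2
  have h3 : 2 ∣ Nat.card ↥(Cfsg.pPrimeCore 2 G) := w.even.trans (card_dvd_of_le h1)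
  rw [Nat.coprime_comm, Nat.Prime.coprime_iff_not_dvd Nat.prime_two] at h2
  exact h2 h3

end world

/-- `Three` gives a classical involution -/
theorem cl_of_three (hyp : Hyp Om) (hK : K ∈ Om) (h : Three K) : AssemblyNil.Cl G := by
  haveI : Fact (Nat.Prime 3) := ⟨Nat.prime_three⟩
  obtain ⟨J, h1, h2, h3, ⟨e⟩⟩ := h
  refine ⟨zz K, J, hyp.orderOf_zz hK, h1, h2 (hyp.zz_mem hK), h3, Or.inl ⟨ZMod 3, inferInstance, inferInstance, ?_, ⟨e⟩⟩⟩
  rw [ZMod.card]
  decide

/-- **the core-free world of (C3): `m = 1`** -/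
theorem mone_of_ind (ind : IndStmt.{u}) (w : AssemblyNil.W3 G K)
    (hf : ∀ t : G, orderOf t = 2 → centralizerPPrimeCore 2 t = ⊥) : RTwo.MOne (cls K) := by
  have hyp := w.hyp
  have hO : ∀ L ∈ cls K, OO L = ⊥ := fun L hL => ROne.OO_eq_bot hyp hL (hf _ (hyp.orderOf_zz hL))
  have h8 : ∀ L ∈ cls K, Nat.card L = 8 := by
    rintro L ⟨g, rfl⟩
    rw [card_cj]
    exact ROne.card_eight w.nil w.c3 (hO K (self_mem_cls K))
  have fs := w.toFS
  have t0 : T0 (cls K) := ⟨hyp, h8, oddCore_eq_bot fs⟩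
  have hne : ∀ L ∈ cls K, L ≠ ⊥ := by
    intro L hL h
    have := h8 L hL
    rw [h, card_bot] at this
    exact absurd this (by decide)
  have hall : ∀ L ∈ cls K, L ∈ comp (cls K) K := fun L hL =>
    comp_eq_all fs hne (fun g L hL => hyp.conj L hL g) (self_mem_cls K) hL
  rcases ind G (cls K) t0 K (self_mem_cls K) with h | h | h
  · exfalso
    have h1 : zz K ∈ Cfsg.pCore 2 G := h
    rw [pCore_eq_bot fs, mem_bot] at h1
    have h2 := hyp.orderOf_zz (self_mem_cls K)
    rw [h1, orderOf_one] at h2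
    exact absurd h2 (by decide)
  · intro K₁ h₁ K₂ h₂ hc
    have h3 := h K₁ (hall K₁ h₁) K₂ (hall K₂ h₂) hc
    have h4 : sSup (cls K) ≤ centralizer ({zz K₁ * zz K₂} : Set G) := by
      refine sSup_le fun L hL x hx => ?_
      rw [mem_centralizer_singleton_iff]
      exact (h3 L (hall L hL) x hx).symm
    have hN : (sSup (cls K) : Subgroup G).Normal := by
      refine ⟨fun x hx g => ?_⟩
      have h3 : sSup (cls K) ≤ (sSup (cls K) : Subgroup G).comap (MulAut.conj g).toMonoidHom := by
        refine sSup_le fun P hP q hq => ?_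
        rw [mem_comap]
        have h4 : cj g P ≤ sSup (cls K) := le_sSup (hyp.conj P hP g)
        exact h4 (conj_mem_cj hq)
      exact h3 hx
    have hNb : (sSup (cls K) : Subgroup G) ≠ ⊥ := by
      intro h
      apply hne K (self_mem_cls K)
      rw [eq_bot_iff, ← h]
      exact le_sSup (self_mem_cls K)
    have h5 : generalizedFittingSubgroup G ≤ centralizer ({zz K₁ * zz K₂} : Set G) :=
      (fstar_le' fs hN hNb).trans h4
    have h6 : zz K₁ * zz K₂ ∈ centralizer (generalizedFittingSubgroup G : Set G) := by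
      rw [mem_centralizer_iff]
      intro x hx
      exact mem_centralizer_singleton_iff.1 (h5 hx)
    rw [End.centralizer_fstar fs.simple fs.na, mem_bot] at h6
    have h7 : zz K₂ * zz K₂ = 1 := by
      have := pow_orderOf_eq_one (zz K₂)
      rwa [hyp.orderOf_zz h₂, pow_two] at this
    calc zz K₁ = zz K₁ * (zz K₂ * zz K₂) := by rw [h7, mul_one]
      _ = zz K₂ := by rw [← mul_assoc, h6, one_mul]
  · exfalso
    obtain ⟨K₁, h₁, h2⟩ := h
    exact w.ncl (cl_of_three hyp (comp_sub (self_mem_cls K) h₁) h2)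

/-- **`C3Free`** -/
theorem c3Free_of (ind : IndStmt.{u}) (i : RFour.LIn.{u}) (h2 : RTwo.LeafR2One.{u}) (h4 : RFour.LeafR4One.{u}) :
    AssemblyNil.C3Free.{u} := by
  intro G _ _ K w hf
  have hm := mone_of_ind ind w hf
  by_cases e1 : (AssemblyNil.ovr K).ncard = 1
  · exfalso
    have W := ROne.World.of_w3 w e1 hf
    obtain ⟨S, z, hz, u, hu, hne, hzS, huS⟩ := W.two
    have hinj : ∀ L ∈ cls K, ∀ M ∈ cls K, zz L = zz M → L = M := by
      have hyp := w.hyp
      obtain ⟨L0, hL0⟩ := Set.ncard_eq_one.1 e1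
      have h2 : ∀ M ∈ cls K, zz M = zz K → M = K := by
        intro M hM hMz
        have h3 : M ∈ AssemblyNil.ovr K := ⟨hM, hMz⟩
        have h4 : K ∈ AssemblyNil.ovr K := ⟨self_mem_cls K, rfl⟩
        rw [hL0, Set.mem_singleton_iff] at h3 h4
        rw [h3, h4]
      rintro L ⟨g, rfl⟩ M hM hz
      have h3 := h2 (cj g⁻¹ M) (hyp.conj M hM _) (by
        rw [hyp.zz_cj hM, ← hz, hyp.zz_cj (self_mem_cls K)]
        group)
      rw [← h3, cj_cj_inv]
    have hcom := W.w.com hz hu S.isPGroup' hzS huS hne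
    obtain ⟨A, hA, rfl⟩ := hz
    obtain ⟨B, hB, rfl⟩ := hu
    have h5 := hcom.2
    rw [ROne.Kf_zz hinj hA, ROne.Kf_zz hinj hB] at h5
    exact hne (hm A hA B hB h5)
  by_cases e2 : (AssemblyNil.ovr K).ncard = 2
  · exact h2 G K w hf e2 hm
  by_cases e4 : (AssemblyNil.ovr K).ncard = 4
  · exact h4 G K w hf e4 hm
  exfalso
  refine RG.false_ne_four i w hf (RG.three_le w e1 e2) e4 fun z hz u hu hc => ?_
  obtain ⟨A, hA, rfl⟩ := hz
  obtain ⟨B, hB, rfl⟩ := hu
  exact absurd (hm A hA B hB (hc.2 A ⟨hA, rfl⟩ B ⟨hB, rfl⟩)) hc.1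

end Cfsg.Agent.Cit.Nil.FinBridge
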