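import Cfsg.Agent.Cit.Nil.SCK
import Cfsg.Agent.Cit.Nil.Ind.Free
import Cfsg.Agent.Cit.Nil.Ind.SubB
import Cfsg.Agent.Cit.Nil.Two.Glue
import Cfsg.Agent.Cit.Nil.CVT.Free

/-!
# S1309: the simple case `SC` of the frame from the nodes

* `scw_cls` : a class of members with two commuting members over different involutions is again a world `SCW`;
* `nodeCV_of` : `NodeCV` from `CVT.SimpleStmt`;
* **`sc_of`** : `SC` from the nodes.
-/

set_option autoImplicit false
set_option linter.style.haveILetI false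
set_option linter.unusedSectionVars false

namespace Cfsg.Agent.Cit.Nil.SCMain

open Subgroup Cfsg Cfsg.Agent.Cit Cfsg.Agent.Cit.Nil.IndDefs

universe u

section SCW

variable {G : Type u} [Group G] [Finite G] {Om : Set (Subgroup G)} {K L M K₁ K₂ : Subgroup G}

/-- a class with two commuting members over different involutions -/
theorem scw_cls (w : SCW G Om) (hK : K ∈ Om) (h₁ : K₁ ∈ cls K) (h₂ : K₂ ∈ cls K) (hc : Cm K₁ K₂)
    (hne : zz K₁ ≠ zz K₂) : SCW G (cls K) := by
  have hyp := w.t0.hyp.of_cls hK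
  have hsub : ∀ L ∈ cls K, L ∈ Om := fun L hL => w.t0.hyp.cls_subset hK hL
  have f := fsimp w
  have t : T0 (cls K) := ⟨hyp, fun L hL => w.t0.card L (hsub L hL), w.t0.core⟩
  have hnb : ∀ L ∈ cls K, L ≠ ⊥ := fun L hL => ne_bot w (hsub L hL)
  have conn : ∀ A ∈ cls K, ∀ L ∈ cls K, L ∈ comp (cls K) A := fun A hA L hL =>
    Top.mem_comp_of_fsimp f hyp.conj hnb hA hL
  have hKK := self_mem_cls K
  refine ⟨t, ?_, conn, w.simple, w.na, w.ih, fun L hL => w.three L (hsub L hL), ⟨K₁, h₁, K₂, h₂, hc, hne⟩⟩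
  by_contra hT
  have hBB : Ind.SubB.BB (cls K) K ≤ sSup (cls K) := sSup_le_sSup (comp_sub hKK)
  have hlt : Nat.card (Ind.SubB.BB (cls K) K) < Nat.card G := by
    refine lt_of_le_of_ne (Nat.le_of_dvd Nat.card_pos (card_subgroup_dvd_card _)) fun h => hT ?_
    rw [eq_top_iff, ← Subgroup.eq_top_of_card_eq _ h]
    exact hBB
  have key : TStat (cls K) K := Ind.SubB.tStat_of_BB t hKK (w.ih _ _ hlt
    (Ind.SubB.t0_restr t (Ind.SubB.isSubnormal_BB t hKK)) _
    (subgroupOf_mem_restr hKK (Ind.SubB.le_BB mem_comp_self)))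
  rcases key with h | h | ⟨L, hL, h⟩
  · have h2 : zz K ∈ pCore 2 G := h
    rw [Top.pCore_eq_bot f, mem_bot] at h2
    exact hyp.zz_ne hKK h2
  · have h2 : zz K₁ * zz K₂ = 1 := by
      refine Top.eq_one_of_cent f hyp.conj hKK (hnb K hKK) fun N hN x hx => ?_
      exact h K₁ (conn K hKK K₁ h₁) K₂ (conn K hKK K₂ h₂) hc N (conn K hKK N hN) x hx
    apply hne
    calc zz K₁ = zz K₁ * (zz K₂ * zz K₂) := by rw [hyp.zz_mul h₂, mul_one]
      _ = zz K₂ := by rw [← mul_assoc, h2, one_mul]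
  · exact w.three L (hsub L (comp_sub hKK hL)) h

end SCW

/-- **(n8)** from the simple case of (CV) -/
theorem nodeCV_of (hev : ∀ (G : Type u) [Group G] [Finite G], Comp.EvQ G) (hS : CVT.SimpleStmt.{u}) : NodeCV.{u} := by
  intro G _ _ Om w _ K hK h3
  have hyp := w.t0.hyp.of_cls hK
  have h2 : IsPGroup 2 K := IsPGroup.of_card (n := 3) (by rw [w.t0.card K hK]; norm_num)
  have hn : NilK K := by
    intro Q hQ
    rw [hQ.eq_of_le hQ.1 le_rfl h2]
    exact le_sup_right
  obtain ⟨U, hU⟩ := exists_vchoice hyp (self_mem_cls K) hn h3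
  have cw := CVT.cvw hyp hn hU (OO_eq_bot_of_two h2)
  exact CVT.one_of_orth cw (hS G K U (generalizedFittingSubgroup G)
    ⟨cw, fsimp w, even w, CVT.tLt hev hS _⟩)

/-- one member per Sylow 2-subgroup gives `m = 1` -/
theorem mone_of_one {G : Type u} [Group G] [Finite G] {Om : Set (Subgroup G)} (h : One Om)
    (h2 : ∀ K ∈ Om, IsPGroup 2 K) : RTwo.MOne Om := by
  intro K hK L hL hc
  haveI : Fact (Nat.Prime 2) := ⟨Nat.prime_two⟩
  have hn : K ≤ normalizer (L : Set G) := by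
    refine le_trans ?_ (centralizer_le_normalizer (L : Set G))
    intro k hk
    rw [mem_centralizer_iff]
    exact fun l hl => (hc k hk l hl).symm
  have hS := OneBasic.isPGroup_sup_of_normalizes (h2 K hK) (h2 L hL) hn
  rw [h.one _ hS K (mem_OmS_of_le hK (syl_self (h2 K hK)) le_sup_left) L
    (mem_OmS_of_le hL (syl_self (h2 L hL)) le_sup_right)]

/-- **`SC` from the nodes** -/
theorem sc_of (iF : Ind.Free.FreeIn.{u}) (iT : Two.TIn.{u}) (i : RFour.LIn.{u}) (hcv : NodeCV.{u})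
    (h1 : Node.{u} 1) (h2 : Node.{u} 2) (h4 : Node.{u} 4) : SC.{u} := by
  intro G _ _ Om w
  have free := Ind.Free.free iF w
  by_cases hm : ∀ K ∈ Om, RTwo.MOne (cls K)
  · exact Two.two_false iT w free (fun K hK h3 => hcv G Om w free K hK h3) hm
  unfold RTwo.MOne at hm
  push Not at hm
  obtain ⟨K, hK, K₁, h₁, K₂, h₂, hc, hne⟩ := hm
  have hsub : ∀ L ∈ cls K, L ∈ Om := fun L hL => w.t0.hyp.cls_subset hK hL
  have h3 : Nil.C3 K := by
    by_contra h3
    refine hne (mone_of_one (hcv G Om w free K hK h3) (fun L hL => ?_) K₁ h₁ K₂ h₂ hc)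
    exact IsPGroup.of_card (n := 3) (by rw [w.t0.card L (hsub L hL)]; norm_num)
  have s : SCK G K := ⟨scw_cls w hK h₁ h₂ hc hne, free, h3⟩
  by_cases e1 : (AssemblyNil.ovr K).ncard = 1
  · exact h1 G K s e1
  by_cases e2 : (AssemblyNil.ovr K).ncard = 2
  · exact h2 G K s e2
  by_cases e4 : (AssemblyNil.ovr K).ncard = 4
  · exact h4 G K s e4
  exact s.false_of_many i e1 e2 e4

end Cfsg.Agent.Cit.Nil.SCMain
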