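import Cfsg.Agent.Cit.Nil.Plug1309
import Cfsg.Agent.Cit.Nil.SCMain
import Cfsg.Agent.Cit.Nil.CompFour.Node
import Cfsg.Agent.Cit.Nil.LO.SevSock
import Cfsg.Agent.Cit.Nil.LO.PropTP
import Cfsg.Agent.Cit.Nil.LO.ChartSev
import Cfsg.Agent.Cit.Nil.LO.Charts
import Cfsg.Agent.Cit.Nil.Comp.AO.MThreeEnd
import Cfsg.Agent.Cit.Nil.Comp.AO.TriPlug
import Cfsg.Agent.Cit.Nil.CVT.TopAll
import Cfsg.Agent.Cit.Nil.RTwoM.NodeTwo
import Cfsg.Agent.Cit.Nil.CompR.FrTwo
import Cfsg.Agent.Cit.Nil.CompR.AOEnd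

/-!
# Assembly of S1309

`node1`, `node2`, `node4` : the nodes of the simple case of the frame; `sc` : the simple case; `p1309` : the statement
of S1309.
-/

set_option autoImplicit false

namespace Cfsg.Agent.Cit.Nil.Final1309

open Subgroup Cfsg Cfsg.Agent.Cit IndDefs

universe u

/-- `KLStmt` -/
theorem kl : ∀ (G : Type u) [Group G] [Finite G] (K : Subgroup G) (U : Subgroup G → Subgroup G) (F : Subgroup G),
    CV.CVW (cls K) U → ROne.FSimp F → 2 ∣ Nat.card F → (∃ t : G, orderOf t = 2 ∧ centralizerPPrimeCore 2 t ≠ ⊥) →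
    ∀ L ∈ cls K, ¬ CV1.Orth K L := Plug1309.kl LO.Charts.allOut LO.Charts.allOut2

/-- **the simple case of (CV)** -/
theorem simple : CVT.SimpleStmt.{u} :=
  CVT.simpleStmt kl FinalNilExt.evQ (fun X _ _ _ S A h1 h2 h3 => Plug1309.gold X S A h1 h2 h3)
    (fun X _ _ _ => ExtIn.bend X) (fun _ _ _ => OneF.h1171) Plug1309.h1173 ExtIn.c74 ExtIn.c75 Plug1309.s0506

theorem nodeCV : SCMain.NodeCV.{u} := SCMain.nodeCV_of FinalNilExt.evQ simple

theorem freeIn : Ind.Free.FreeIn.{u} := Plug1309.freeIn LO.Charts.allOut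

theorem sock : LO.Sock.{u} := LO.sock FinalMain.tStmt LO.Charts.allOut LO.chartSev

/-- **(n2)** -/
theorem noThree {G : Type u} [Group G] [Finite G] {Om : Set (Subgroup G)} (w : SCW G Om)
    (core : ∀ t : G, orderOf t = 2 → centralizerPPrimeCore 2 t = ⊥) : ROne.NoThree Om :=
  fun _ hT _ hs _ => LO.no_three Plug1309.st1311 sock w core hT hs

theorem secIn : CompR.SecIn.{u} where
  lin := Plug1309.lin2
  hev := FinalNilExt.evQ
  hT := FinalMain.tStmt
  hC := LO.Charts.allOut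
  hC2 := LO.Charts.allOut2
  h1311 := Plug1309.st1311

/-- the simple case, two members over each involution, FRAMES -/
theorem fr2 : NodeTwo.FrTwoStmt.{u} := CompR.frTwoStmt secIn

theorem node4 : SCMain.Node.{u} 4 := CompFour.node_four Plug1309.lin2 FinalNilExt.evQ

theorem ao : ROne.AOStmt.{u} := ROne.AOStmt.of_in Plug1309.aoIn Plug1309.n1In
  (Comp.AO.TwoIn.of Plug1309.lin2 FinalMain.tStmt LO.Charts.allOut LO.Charts.allOut2 Plug1309.st1311)

theorem node1 : SCMain.Node.{u} 1 := fun _ _ _ _ w h1 =>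
  ROne.node1_of Plug1309.n1In ao w.scw w.free w.c3 (noThree w.scw w.free) h1

theorem node2 : SCMain.Node.{u} 2 :=
  NodeTwo.node2_of Plug1309.lin4 FinalNilExt.evQ (fun _ _ _ _ w => noThree w.scw w.free) fr2
    (CompR.aoTwoStmt secIn fr2)

/-- the simple case of the frame -/
theorem sc : IndDefs.SC.{u} :=
  SCMain.sc_of freeIn Plug1309.tIn Plug1309.lin4 nodeCV node1 node2 node4

theorem p1309 : OddHalf.Stmts.P1309.{u} :=
  FinalNilExt.p1309 sc simple Unbal.All.unbalNil Plug1309.p1311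

end Cfsg.Agent.Cit.Nil.Final1309
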