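import Cfsg.Agent.Cit.Nil.Ind.SubB
import Cfsg.Agent.Cit.Nil.Ind.Quo
import Cfsg.Agent.Cit.Comp

/-!
# The frame of S1309: the induction

`ind` : from the simple case `SC` (IndDefs.lean) the statement `TStat Om K` holds for all `K ∈ Om`, `T0 Om`.
-/

set_option autoImplicit false

namespace Cfsg.Agent.Cit.Nil.Ind

open Subgroup Cfsg Cit Nil.IndDefs

universe u

theorem ind_aux (hev : ∀ (G : Type u) [Group G] [Finite G], Comp.EvQ G) (hSC : SC.{u}) (n : ℕ) : ∀ (G : Type u) [Group G] [Finite G]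
    (Om : Set (Subgroup G)), Nat.card G < n → T0 Om → ∀ K ∈ Om, TStat Om K := by
  induction n with
  | zero => intro G _ _ Om h; omega
  | succ n ih =>
    intro G _ _ Om hn t K hK
    by_cases hB : SubB.BB Om K = ⊤
    · have hcomp : ∀ L ∈ Om, L ∈ comp Om K := fun L hL => SubB.mem_comp_of_le t hK hL (by rw [hB]; exact le_top)
      have conn : ∀ K₁ ∈ Om, ∀ L ∈ Om, L ∈ comp Om K₁ := fun K₁ hK₁ L hL =>
        comp_trans (comp_symm (hcomp K₁ hK₁)) (hcomp L hL)
      have top : sSup Om = ⊤ := by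
        rw [eq_top_iff, ← hB]
        exact sSup_le_sSup (comp_sub hK)
      by_cases hN : NIL K
      · exact Or.inl hN
      · obtain ⟨hZ, L, hL, hLn, huni, hzL, hz⟩ := Red.exists_comp t top conn (hev G) (hev _) hK hN
        exact Or.inr (quo hSC t top conn (fun H _ _ Om' hlt t' => ih H Om' (by omega) t') hL hLn huni hZ
          hzL hz K hK)
    · refine SubB.tStat_of_BB t hK (ih _ _ ?_ (SubB.t0_restr t (SubB.isSubnormal_BB t hK)) _
        (subgroupOf_mem_restr hK (SubB.le_BB mem_comp_self)))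
      have h1 : Nat.card (SubB.BB Om K) < Nat.card G := by
        refine lt_of_le_of_ne (Nat.le_of_dvd Nat.card_pos (card_subgroup_dvd_card _)) fun h => hB ?_
        exact Subgroup.eq_top_of_card_eq _ h
      omega

/-- **the frame** -/
theorem ind (hev : ∀ (G : Type u) [Group G] [Finite G], Comp.EvQ G) (hSC : SC.{u}) (G : Type u) [Group G] [Finite G] (Om : Set (Subgroup G))
    (t : T0 Om) : ∀ K ∈ Om, TStat Om K :=
  ind_aux hev hSC (Nat.card G + 1) G Om (Nat.lt_succ_self _) t

end Cfsg.Agent.Cit.Nil.Ind
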