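import Cfsg.Agent.Cit.AssemblyNil
import Cfsg.Agent.Cit.Nil.FinBridge
import Cfsg.Agent.Cit.Nil.RFour.Leaf
import Cfsg.Agent.Cit.Nil.RTwo.Leaf
import Cfsg.Agent.Cit.Nil.ExtProd
import Cfsg.Agent.Cit.Nil.Ind
import Cfsg.Agent.Cit.CoresG
import Cfsg.Agent.OddHalf.Stmts

/-!
# S1309: the final assembly

* `Ext` : the inputs which are theorems of other projects;
* `Open` : the statements which are not yet landed;
* `final` : `Ext` and `Open` imply S1309.

Top group not core-free: S1311 (`UnbalNil` for `A_n`, `L₃(4)`, `He`); core-free: `CVFree`, `C3Free`.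
-/

set_option autoImplicit false
set_option linter.style.haveILetI false
set_option linter.unusedSectionVars false

namespace Cfsg.Agent.Cit.Nil.FinalNil

open Subgroup Cfsg Cfsg.Agent.Cit Cfsg.Agent.Cit.Nil
open Cfsg.Agent.Cit.AssemblyNil hiding Ext

universe u

/-- the unbalanced groups of S1311 which are not of Lie type in odd characteristic -/
def Unb (X : Type*) [Group X] : Prop :=
  (∃ n : ℕ, Odd n ∧ 7 ≤ n ∧ Nonempty (X ≃* ↥(alternatingGroup (Fin n)))) ∨
    (∃ (F : Type) (_ : Field F) (_ : Fintype F), Fintype.card F = 4 ∧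
      Nonempty (X ≃* Matrix.ProjectiveSpecialLinearGroup (Fin 3) F)) ∨ Cfsg.Spor.IsoHe X

/-- the centralisers of involutions are core-free -/
def Free (G : Type*) [Group G] : Prop := ∀ t : G, orderOf t = 2 → centralizerPPrimeCore 2 t = ⊥

/-- **(CV)**, core-free -/
def CVFree : Prop := ∀ (G : Type u) [Group G] [Finite G], FS G → Free G → ∀ (K : Subgroup G)
  (U : Subgroup G → Subgroup G), Hyp (cls K) → NilK K → VChoice (cls K) U → ¬ Cl G → One (cls K)

/-- **the unbalanced groups `A_n`, `L₃(4)`, `He`** -/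
def UnbalNil : Prop := ∀ (G : Type u) [Group G] [Finite G], FS G → ∀ K : Subgroup G, Hyp (cls K) → NilK K →
  ¬ One (cls K) → Unb ↥(generalizedFittingSubgroup G) → False

/-- the external inputs -/
structure Ext : Prop where
  /-- S0205 -/
  odd : CoresG.OddStmt.{u}
  /-- quasisimple groups have even order (S0205) -/
  ev : ∀ (G : Type u) [Group G] [Finite G], Comp.EvQ G
  /-- S0483 -/
  gw : OddHalf.RankOne.GW.{u}
  p1310 : OddHalf.Stmts.P1310.{u}
  p1311 : OddHalf.Stmts.P1311.{u}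
  /-- S1169 -/
  gold : ∀ (X : Type u) [Group X] [Finite X] [IsSimpleGroup X] (S : Sylow 2 X) (A : Subgroup X), A ≠ ⊥ →
    IsMulCommutative A → IsStronglyClosed A (S : Subgroup X) →
    IsMulCommutative (S : Subgroup X) ∨ ∃ H : Subgroup X, IsStronglyEmbedded H
  /-- Bender's theorem -/
  bend : ∀ (X : Type u) [Group X] [Finite X] [IsSimpleGroup X], CloEnd.Bend X
  /-- S1173 -/
  h1173 : ∀ (G : Type u) [Group G] [Finite G], oddCore G = ⊥ → OneF.H1173 G
  /-- S1174 -/
  c74 : ∀ (G : Type u) [Group G] [Finite G] [IsSimpleGroup G], CloEnd.Crit1174 G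
  /-- S1175 -/
  c75 : ∀ (G : Type u) [Group G] [Finite G] [IsSimpleGroup G], CloEnd.Crit1175 G
  /-- S0506 -/
  p0506 : NoHomo.S0506Stmt.{u}
  /-- S0507 -/
  p0507 : ∀ (X : Type u) [Group X] [Finite X] [IsSimpleGroup X], Ident.St0507 X
  /-- S0523 -/
  p0523 : ∀ (X : Type u) [Group X] [Finite X] [IsSimpleGroup X], Ident.St0523 X
  /-- S1742 -/
  p1742 : ∀ (X : Type u) [Group X] [Finite X] [IsSimpleGroup X], Ident.St1742 X

/-- the statements which are not yet landed -/
structure Open : Prop where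
  /-- the simple case of the frame -/
  sc : IndDefs.SC.{u}
  cvFree : CVFree.{u}
  unbal : UnbalNil.{u}

/-! ### The external inputs for a group -/

theorem even (e : Ext.{u}) {G : Type u} [Group G] [Finite G]
    (hs : IsSimpleGroup ↥(generalizedFittingSubgroup G))
    (hna : ¬ IsMulCommutative ↥(generalizedFittingSubgroup G)) : 2 ∣ Nat.card ↥(generalizedFittingSubgroup G) := by
  by_contra h
  apply hna
  have h1 : Group.IsSolvable ↥(generalizedFittingSubgroup G) := e.odd _ h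
  haveI := hs
  exact ⟨⟨IsSimpleGroup.comm_iff_isSolvable.2 h1⟩⟩

theorem p1310 (e : Ext.{u}) {G : Type u} [Group G] [Finite G] (hs : IsSimpleGroup ↥(generalizedFittingSubgroup G))
    (hna : ¬ IsMulCommutative ↥(generalizedFittingSubgroup G)) (h : Cl G) :
    (∃ p : ℕ, p.Prime ∧ p ≠ 2 ∧ Cfsg.IsLieTypeChar p ↥(generalizedFittingSubgroup G)) ∨
      Cfsg.Spor.IsoM11 ↥(generalizedFittingSubgroup G) := by
  obtain ⟨z, J, hz, hJz, hzJ, hsn, hJ⟩ := h
  exact e.p1310 hs hna z hz J hJz hzJ hsn hJ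

theorem st1311 (e : Ext.{u}) {G : Type u} [Group G] [Finite G] (fs : FS G) : St1311 G := fun t ht h =>
  e.p1311 fs.simple fs.na t ht h

theorem ext (e : Ext.{u}) {G : Type u} [Group G] [Finite G] (hs : IsSimpleGroup ↥(generalizedFittingSubgroup G))
    (hna : ¬ IsMulCommutative ↥(generalizedFittingSubgroup G)) : AssemblyNil.Ext G where
  gw := e.gw
  p1310 := p1310 e hs hna
  p1173 := e.h1173 G (FinBridge.oddCore_eq_bot ⟨hs, hna, even e hs hna⟩)
  p1171 := OneF.h1171
  p0506 := e.p0506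
  p0507 := haveI := hs; e.p0507 _
  p0523 := haveI := hs; e.p0523 _
  p1742 := haveI := hs; e.p1742 _
  even := even e hs hna

theorem lin (e : Ext.{u}) : RFour.LIn.{u} where
  gold := e.gold
  bend := e.bend
  h1173 := e.h1173

theorem lin2 (e : Ext.{u}) : RTwo.LIn.{u} where
  gold := e.gold
  bend := e.bend
  crit := e.c75
  h1173 := e.h1173

theorem cin (e : Ext.{u}) : RTwo.CIn.{u} where
  gw := e.gw
  h1173 := e.h1173
  h1171 := fun _ _ _ => OneF.h1171
  p0506 := e.p0506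
  p0507 := e.p0507
  p0523 := e.p0523
  p1742 := e.p1742

/-! ### The leaves -/

theorem indStmt (e : Ext.{u}) (o : Open.{u}) : FinBridge.IndStmt.{u} := fun H _ _ Om t => Ind.ind e.ev o.sc H Om t

theorem c3Free (e : Ext.{u}) (o : Open.{u}) : C3Free.{u} :=
  FinBridge.c3Free_of (indStmt e o) (lin e) (RTwo.leafR2One (lin2 e) (cin e)) (RFour.leafR4One (lin e))

/-- the case of a 2-nilpotent `J` -/
theorem nil_main (e : Ext.{u}) (o : Open.{u}) {G : Type u} [Group G] [Finite G] (fs : FS G) {J : Subgroup G}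
    (hyp : Hyp (cls J)) (hn : NilK J) (hncl : ¬ Cl G) : Concl ↥(generalizedFittingSubgroup G) := by
  have hs := fs.simple
  have hna := fs.na
  have E := ext e hs hna
  by_cases h1 : One (cls J)
  · have h0483 : Ident.St0483 ↥(generalizedFittingSubgroup G) := by
      intro S n hn2 hS
      haveI : Group.IsPerfect ↥(generalizedFittingSubgroup G) := ⟨End.commutator_eq_top hs hna⟩
      exact e.gw _ S n hn2 hS
    rcases End.main hs hna fs.even E.p1173 E.p1171 E.p0506 h0483 E.p0507 E.p0523 E.p1742 h1 ⟨J, self_mem_cls J⟩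
      (nil_cls hn) with h2 | h2 | h2
    · exact Or.inl h2
    · exact Or.inr (Or.inl h2)
    · exact Or.inr (Or.inr (Or.inl h2))
  by_cases hb : Free G
  · by_cases h3 : C3 J
    · exact c3Free e o G J ⟨fs, hyp, hn, h3, hncl, h1⟩ hb
    · obtain ⟨U, hU⟩ := exists_vchoice hyp (self_mem_cls J) hn h3
      exact absurd (o.cvFree G fs hb J U hyp hn hU hncl) h1
  unfold Free at hb
  push Not at hb
  obtain ⟨t, ht, ht2⟩ := hb
  rcases st1311 e fs t ht ht2 with h3 | h3
  · exact Or.inl h3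
  · exact (o.unbal G fs J hyp hn h1 h3).elim

/-- **S1309** -/
theorem final (e : Ext.{u}) (o : Open.{u}) {G : Type u} [Group G] [Finite G]
    (hs : IsSimpleGroup ↥(Cfsg.generalizedFittingSubgroup G))
    (hna : ¬ IsMulCommutative ↥(Cfsg.generalizedFittingSubgroup G)) (z : G) (hz : orderOf z = 2)
    (J : Subgroup G) (hJz : J ≤ Subgroup.centralizer ({z} : Set G)) (hzJ : z ∈ J)
    (hsn : (J.subgroupOf (Subgroup.centralizer ({z} : Set G))).IsSubnormal)
    (hQ : ∃ S : Sylow 2 ↥J, ∃ n : ℕ, Nonempty (↥(S : Subgroup ↥J) ≃* QuaternionGroup (2 ^ (n + 1))))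
    (huniq : ∀ t ∈ J, orderOf t = 2 → t = z)
    (h2 : ∀ u ∈ Subgroup.centralizer ({z} : Set G), J.map (MulAut.conj u).toMonoidHom = J ∨
      ⁅J, J.map (MulAut.conj u).toMonoidHom⁆ ≤ (Cfsg.oddCore ↥J).map J.subtype ⊓
        (Cfsg.oddCore ↥(J.map (MulAut.conj u).toMonoidHom)).map (J.map (MulAut.conj u).toMonoidHom).subtype)
    (h3 : ∀ y ∈ J, ∀ g : G, IsPGroup 2 ↥(Subgroup.zpowers y) → 4 ≤ orderOf y →
      g * y * g⁻¹ ∈ Subgroup.centralizer ({z} : Set G) → g * y * g⁻¹ ∈ Subgroup.normalizer (J : Set G)) :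
    (∃ p : ℕ, p.Prime ∧ p ≠ 2 ∧ Cfsg.IsLieTypeChar p ↥(Cfsg.generalizedFittingSubgroup G)) ∨
      Cfsg.Spor.IsoM11 ↥(Cfsg.generalizedFittingSubgroup G) ∨
      Cfsg.Spor.IsoM12 ↥(Cfsg.generalizedFittingSubgroup G) ∨
      (∃ (F : Type) (_ : Field F) (_ : Fintype F), Fintype.card F = 2 ∧
        (Nonempty (↥(Cfsg.generalizedFittingSubgroup G) ≃* Cfsg.PSp 3 F) ∨
          Nonempty (↥(Cfsg.generalizedFittingSubgroup G) ≃* Cfsg.POmega F (Cfsg.quadFormPlus 4 F)))) := by
  by_cases hcl : Cl G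
  · rcases p1310 e hs hna hcl with h | h
    · exact Or.inl h
    · exact Or.inr (Or.inl h)
  obtain ⟨hyp, -⟩ := hyp_of_class z hz J hzJ hsn hQ huniq h2 h3
  rcases Dich.dich e.gw hz hzJ hQ huniq with hn | ⟨M, hMJ, hMn, hzM, hty⟩
  · exact nil_main e o ⟨hs, hna, even e hs hna⟩ hyp hn hcl
  · refine absurd ⟨z, M, hz, hMJ.trans hJz, hzM, ?_, hty⟩ hcl
    refine Subgroup.IsSubnormal.step _ _ (fun x hx => hMJ hx) hsn ?_
    refine ⟨fun x hx g => ?_⟩
    have h4 : (x : G) ∈ M := hx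
    have hxJ : (x : G) ∈ J := hMJ h4
    have h5 := hMn.conj_mem (⟨_, hxJ⟩ : J) h4 (⟨_, g.2⟩ : J)
    exact h5

end Cfsg.Agent.Cit.Nil.FinalNil
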