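import Cfsg.Agent.Cit.Nil.FinalNil
import Cfsg.Agent.Cit.Nil.Ind
import Cfsg.Agent.Cit.Nil.CVT.Free
import Cfsg.Agent.Cit.FinalMain
import Cfsg.Agent.S0483
import Cfsg.Agent.S0506

/-!
# S1309: the external inputs plugged in

`ext (h : P1311) : FinalNil.Ext` : everything but S1311; `evQ`; `ind`; `cvFree_of`; `openOf`; `p1309`.
-/

set_option autoImplicit false

namespace Cfsg.Agent.Cit.Nil.FinalNilExt

universe u

/-- quasisimple subgroups have even order -/
theorem evQ (G : Type u) [Group G] [Finite G] : Comp.EvQ G :=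
  Comp.evQ_of_solvable fun D h => S0205.result (G := D) h

theorem ext (h : OddHalf.Stmts.P1311.{u}) : FinalNil.Ext.{u} where
  odd := ExtIn.oddStmt
  ev := evQ
  gw := fun X _ _ _ S n hn hS => S0483.result (X := X) S n hn hS
  p1310 := FinalMain.p1310
  p1311 := h
  gold := fun _ _ _ _ S A h1 h2 h3 => S1169.result S A h1 h2 h3
  bend := ExtIn.bend
  h1173 := fun _ _ _ ho S T hT => S1173.result ho S T hT
  c74 := ExtIn.c74
  c75 := ExtIn.c75
  p0506 := fun hG S hS => S0506.result hG S hS
  p0507 := fun _ _ _ _ S hS => S0507.result S hS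
  p0523 := fun _ _ _ _ S hS => S0523.result S hS
  p1742 := fun _ _ _ _ _ _ _ hF S P hSP => S1742.result hF S P hSP

/-- **the frame** -/
theorem ind (h : IndDefs.SC.{u}) : FinBridge.IndStmt.{u} :=
  fun H _ _ Om t => Ind.ind evQ h H Om t

theorem cvFree (h : CVT.SimpleStmt.{u}) : FinalNil.CVFree.{u} :=
  fun G _ _ fs hf K U hyp hn hU hcl => CVT.cvFree_of evQ h G fs hf K U hyp hn hU hcl

theorem openOf (sc : IndDefs.SC.{u}) (simple : CVT.SimpleStmt.{u}) (unbal : FinalNil.UnbalNil.{u}) :
    FinalNil.Open.{u} where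
  sc := sc
  cvFree := cvFree simple
  unbal := unbal

/-- **S1309** from the simple case of the frame, the simple case of (CV), the unbalanced groups and S1311 -/
theorem p1309 (sc : IndDefs.SC.{u}) (simple : CVT.SimpleStmt.{u}) (unbal : FinalNil.UnbalNil.{u})
    (h : OddHalf.Stmts.P1311.{u}) : OddHalf.Stmts.P1309.{u} :=
  fun hs hna z hz J hJz hzJ hsn hQ huniq h2 h3 =>
    FinalNil.final (ext h) (openOf sc simple unbal) hs hna z hz J hJz hzJ hsn hQ huniq h2 h3

end Cfsg.Agent.Cit.Nil.FinalNilExt
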