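import Cfsg.Agent.Cit.OneFieldPsi

/-!
# `|Om(S)| = 1`: the fusion lemma FUS

`Fam Om f` : `f K : N(K) → M`, `K ∈ Om`, are homomorphisms into a commutative group without elements of odd
order, equivariant under conjugation, and `f L` is trivial on `C_Q(zz L)` for all pairs `K`, `L`.
Then `f K` is trivial on `S ∩ X` for every Sylow 2-subgroup `S` of `G` normalising `K` and every perfect
subgroup `X` of `G` (4.2 of blueprints/CIT-6b-One-helper454.md).
-/

set_option autoImplicit false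
set_option linter.unusedSectionVars false

namespace Cfsg.Agent.Cit.Nil.Fus

open Subgroup Cfsg Cit OneBasic OneFieldPsi

variable {G : Type*} [Group G] [Finite G] {Om : Set (Subgroup G)}
variable {M : Type*} [CommGroup M]

/-- see the head of the file -/
structure Fam (Om : Set (Subgroup G)) (f : Subgroup G → G → M) : Prop where
  mul : ∀ K ∈ Om, ∀ a ∈ normalizer (K : Set G), ∀ b ∈ normalizer (K : Set G),
    f K (a * b) = f K a * f K b
  conj : ∀ K ∈ Om, ∀ a ∈ normalizer (K : Set G), ∀ g : G, f (cj g K) (g * a * g⁻¹) = f K a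
  triv : ∀ K L T Q Q' : Subgroup G, OPair Om K L T Q Q' → ∀ u ∈ Q, u * zz L = zz L * u → f L u = 1
  odd : ∀ m : M, ∀ k : ℕ, Odd k → m ^ k = 1 → m = 1

namespace Fam

variable {f : Subgroup G → G → M} (F : Fam Om f)

include F

theorem map_one {K : Subgroup G} (hK : K ∈ Om) : f K 1 = 1 := by
  have h := F.mul K hK 1 (one_mem _) 1 (one_mem _)
  rw [mul_one] at h
  exact left_eq_mul.1 h

theorem map_inv {K : Subgroup G} (hK : K ∈ Om) {a : G} (ha : a ∈ normalizer (K : Set G)) :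
    f K a⁻¹ = (f K a)⁻¹ := by
  have h1 := F.mul K hK a⁻¹ (inv_mem ha) a ha
  rw [inv_mul_cancel, F.map_one hK] at h1
  exact eq_inv_of_mul_eq_one_left h1.symm

theorem map_pow {K : Subgroup G} (hK : K ∈ Om) {a : G} (ha : a ∈ normalizer (K : Set G)) (m : ℕ) :
    f K (a ^ m) = f K a ^ m := by
  induction m with
  | zero => rw [pow_zero, pow_zero, F.map_one hK]
  | succ m ih => rw [pow_succ, pow_succ, F.mul K hK _ (pow_mem ha m) _ ha, ih]

theorem conj_self {K : Subgroup G} (hK : K ∈ Om) {a k : G} (ha : a ∈ normalizer (K : Set G))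
    (hk : k ∈ normalizer (K : Set G)) : f K (k * a * k⁻¹) = f K a := by
  rw [F.mul K hK _ (mul_mem hk ha) _ (inv_mem hk), F.mul K hK _ hk _ ha, F.map_inv hK hk,
    mul_comm (f K k), mul_inv_cancel_right]

/-- the two homomorphisms of a pair agree on `T` -/
theorem agree_T {K L T Q Q' : Subgroup G} (p : OPair Om K L T Q Q') (h : One Om) {u : G}
    (hu : u ∈ T) : f K u = f L u := by
  obtain ⟨q, hq, hqt⟩ := p.exists_swap h
  obtain ⟨q', hq', hqz⟩ := p.symm.exists_swap h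
  have hzt : (q * q') * zz K * (q * q')⁻¹ = zz L := by
    have hqK : q * zz K = zz K * q := h.hyp.comm_zz p.hK (le_normalizer (p.hQ.1 hq))
    calc (q * q') * zz K * (q * q')⁻¹ = q * (q' * zz K * q'⁻¹) * q⁻¹ := by group
      _ = q * (zz L * zz K) * q⁻¹ := by rw [hqz]
      _ = q * (zz K * zz L) * q⁻¹ := by rw [p.comm]
      _ = (q * zz K) * zz L * q⁻¹ := by group
      _ = zz K * (q * zz L * q⁻¹) := by rw [hqK]; group
      _ = zz K * zz K * zz L := by rw [hqt]; group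
      _ = zz L := by rw [h.hyp.zz_mul p.hK, one_mul]
  have hKL : cj (q * q') K = L := h.cj_eq p.hK p.hL hzt
  have hu1 : q' * u * q'⁻¹ ∈ T := conj_T p.symm h hq' hqz hu
  obtain ⟨u1, hu1e⟩ : ∃ u1, u1 = q' * u * q'⁻¹ := ⟨_, rfl⟩
  rw [← hu1e] at hu1
  have hu2 : q * u1 * q⁻¹ ∈ T := conj_T p h hq hqt hu1
  have hwQ : q * u1 * q⁻¹ * u1⁻¹ ∈ Q := by
    have h1 : u1 * q⁻¹ * u1⁻¹ ∈ Q := conj_mem_of (p.hTQ hu1) (Q.inv_mem hq)
    have h2 := Q.mul_mem hq h1
    rwa [show q * (u1 * q⁻¹ * u1⁻¹) = q * u1 * q⁻¹ * u1⁻¹ by group] at h2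
  have hwT : q * u1 * q⁻¹ * u1⁻¹ ∈ T := T.mul_mem hu2 (T.inv_mem hu1)
  have hw1 : f L (q * u1 * q⁻¹ * u1⁻¹) = 1 := F.triv K L T Q Q' p _ hwQ (p.tt h hwT)
  calc f K u = f (cj (q * q') K) ((q * q') * u * (q * q')⁻¹) :=
        (F.conj K p.hK _ (p.tK hu) _).symm
    _ = f L ((q * u1 * q⁻¹ * u1⁻¹) * u1) := by
        rw [hKL, hu1e]
        congr 1
        group
    _ = f L u1 := by rw [F.mul L p.hL _ (p.tL hwT) _ (p.tL hu1), hw1, one_mul]
    _ = f L u := by rw [hu1e, F.conj_self p.hL (p.tL hu) (le_normalizer (p.hQ'.1 hq'))]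

/-- **agreement** -/
theorem agree (h : One Om) {K L : Subgroup G} (hK : K ∈ Om) (hL : L ∈ Om)
    (hc : zz K * zz L = zz L * zz K) {g : G} (hgK : g * zz K = zz K * g) (hgL : g * zz L = zz L * g) :
    f K g = f L g := by
  by_cases hne : K = L
  · rw [hne]
  have hgK' := h.mem_normalizer hK hgK
  have hgL' := h.mem_normalizer hL hgL
  obtain ⟨m, hm, hm2⟩ := OneFieldHom.exists_odd_pow g
  obtain ⟨T, Q, Q', hT, p⟩ := h.exists_pair hK hL hne hc hm2 (zpowers_le.2 (pow_mem hgK' m))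
    (zpowers_le.2 (pow_mem hgL' m))
  have h1 := F.agree_T p h (hT (mem_zpowers (g ^ m)))
  rw [F.map_pow hK hgK', F.map_pow hL hgL'] at h1
  rw [← mul_inv_eq_one]
  apply F.odd _ m hm
  rw [mul_pow, inv_pow, h1, mul_inv_cancel]

end Fam

open Classical in
/-- the family as a function on the centralisers -/
noncomputable def fam (Om : Set (Subgroup G)) (f : Subgroup G → G → M) (z g : G) : M :=
  if hz : ∃ K ∈ Om, zz K = z then f hz.choose g else 1

theorem fam_zz (h : One Om) (f : Subgroup G → G → M) {K : Subgroup G} (hK : K ∈ Om) (g : G) :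
    fam Om f (zz K) g = f K g := by
  have hz : ∃ L ∈ Om, zz L = zz K := ⟨K, hK, rfl⟩
  unfold fam
  rw [dif_pos hz]
  rw [h.eq_of_zz_eq hz.choose_spec.1 hK hz.choose_spec.2]

/-- the compatible family -/
noncomputable def famPsi (h : One Om) {f : Subgroup G → G → M} (F : Fam Om f) :
    OneField.Psi {z | ∃ K ∈ Om, zz K = z} M where
  psi := fam Om f
  mul := by
    rintro _ ⟨K, hK, rfl⟩ g k hg hk
    rw [fam_zz h f hK, fam_zz h f hK, fam_zz h f hK]
    exact F.mul K hK _ (h.mem_normalizer hK hg) _ (h.mem_normalizer hK hk)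
  conj := by
    rintro _ ⟨K, hK, rfl⟩ g k hk
    rw [← h.hyp.zz_cj hK g, fam_zz h f hK, fam_zz h f (h.hyp.conj K hK g)]
    exact F.conj K hK _ (h.mem_normalizer hK hk) g
  agree := by
    rintro _ ⟨K, hK, rfl⟩ _ ⟨L, hL, rfl⟩ hc g hgK hgL
    rw [fam_zz h f hK, fam_zz h f hL]
    exact F.agree h hK hL hc hgK hgL

/-- a perfect subgroup lies in every normal subgroup of 2-power index -/
theorem perfect_le {X N : Subgroup G} (hX : ⁅X, X⁆ = X) [hN : N.Normal] {k : ℕ}
    (hk : N.index = 2 ^ k) : X ≤ N := by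
  have : Fact (Nat.Prime 2) := ⟨Nat.prime_two⟩
  have h1 : Nat.card (G ⧸ N) = 2 ^ k := hk
  have h2 : IsPGroup 2 (G ⧸ N) := IsPGroup.of_card h1
  have : Finite (G ⧸ N) := Quotient.finite _
  have h3 : Group.IsNilpotent (G ⧸ N) := h2.isNilpotent
  have h4 : Group.IsSolvable (G ⧸ N) := inferInstance
  have h5 : ∀ n, X.map (QuotientGroup.mk' N) ≤ derivedSeries (G ⧸ N) n := by
    intro n
    induction n with
    | zero => exact le_top
    | succ n ih =>
      rw [derivedSeries_succ]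
      calc X.map (QuotientGroup.mk' N) = ⁅X, X⁆.map (QuotientGroup.mk' N) := by rw [hX]
        _ = ⁅X.map (QuotientGroup.mk' N), X.map (QuotientGroup.mk' N)⁆ := map_commutator _ _ _
        _ ≤ _ := commutator_mono ih ih
  obtain ⟨n, hn⟩ := h4.solvable
  have h6 := h5 n
  rw [hn, le_bot_iff, Subgroup.map_eq_bot_iff, QuotientGroup.ker_mk'] at h6
  exact h6

/-- **FUS** -/
theorem fus (h : One Om) {f : Subgroup G → G → M} (F : Fam Om f) {X : Subgroup G}
    (hX : ⁅X, X⁆ = X) {K S : Subgroup G} (hK : K ∈ Om) (hS : Syl S ⊤)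
    (hSK : S ≤ normalizer (K : Set G)) {s : G} (hs : s ∈ S) (hsX : s ∈ X) : f K s = 1 := by
  have hSz : S ≤ centralizer {zz K} := by
    rw [h.centralizer_zz hK]; exact hSK
  obtain ⟨N, hN, hN1, hN2⟩ := (famPsi h F).exists_normal
      (by
        rintro _ ⟨L, hL, rfl⟩ k
        exact ⟨cj k L, h.hyp.conj L hL k, h.hyp.zz_cj hL k⟩)
      (by
        rintro _ ⟨L, hL, rfl⟩
        exact IsPGroup.of_card (n := 1) (by rw [Nat.card_zpowers, h.hyp.orderOf_zz hL, pow_one]))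
      hS ⟨K, hK, rfl⟩ hSz
  have : Fact (Nat.Prime 2) := ⟨Nat.prime_two⟩
  obtain ⟨k, hk⟩ : ∃ k, ((famPsi h F).kerOn ⟨K, hK, rfl⟩ hSz).relIndex S = 2 ^ k :=
    hS.2.1.index (((famPsi h F).kerOn ⟨K, hK, rfl⟩ hSz).subgroupOf S)
  have h1 : X ≤ N := perfect_le hX (hN1.trans hk)
  have h2 : s ∈ N ⊓ S := ⟨h1 hsX, hs⟩
  rw [hN2] at h2
  have h3 : fam Om f (zz K) s = 1 := h2.2
  rwa [fam_zz h f hK] at h3

end Cfsg.Agent.Cit.Nil.Fus
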