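import Cfsg.Agent.TwoGenCore.IsoMEleven
import Cfsg.Agent.GH.QB.ModelG2
import Cfsg.Prelude.Def_LieTypeChar
import Cfsg.Prelude.Def_Spor_Mathieu

/-!
# Identification of a simple group from its Sylow 2-subgroups (the ends of `|Om(S)| = 1`)

`St0483 X`, `St0507 X`, `St0523 X`, `St1742 X`: the statements S0483, S0507, S0523, S1742 for the
group `X`. `Concl X`: `X` is of Lie type in odd characteristic, `M₁₁` or `M₁₂`.
`of_quasi`, `of_wreathed`, `of_tg2`, `of_dihedral` (with the alternative `A₇`).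
-/

set_option autoImplicit false
set_option linter.style.haveILetI false

namespace Cfsg.Agent.Cit.Nil.Ident

open Subgroup Cfsg

/-! ### The inputs -/

/-- S0483 for the group `X` -/
def St0483 (X : Type*) [Group X] : Prop := ∀ (S : Sylow 2 X) (n : ℕ), 2 ≤ n →
  Nonempty ((S : Subgroup X) ≃* DihedralGroup n) →
    (∃ (F : Type) (_ : Field F) (_ : Fintype F), Odd (Fintype.card F) ∧ 3 < Fintype.card F ∧
        Nonempty (X ⧸ Cfsg.oddCore X ≃* Matrix.ProjectiveSpecialLinearGroup (Fin 2) F)) ∨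
      Nonempty (X ⧸ Cfsg.oddCore X ≃* alternatingGroup (Fin 7))

/-- S0507 for the group `X` -/
def St0507 (X : Type*) [Group X] : Prop := ∀ (S : Sylow 2 X), Cfsg.IsQuasiDihedral (S : Subgroup X) →
  (∃ (F : Type) (_ : Field F) (_ : Fintype F), Fintype.card F % 4 = 3 ∧
    Nonempty (X ≃* Matrix.ProjectiveSpecialLinearGroup (Fin 3) F)) ∨
  (∃ (F : Type) (_ : Field F) (_ : Fintype F) (q : ℕ), Fintype.card F = q ^ 2 ∧ q % 4 = 1 ∧
    Nonempty (X ≃* Cfsg.PSU 3 F q)) ∨ Cfsg.IsM11 X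

/-- S0523 for the group `X` -/
def St0523 (X : Type*) [Group X] : Prop := ∀ (S : Sylow 2 X), Cfsg.IsWreathed (S : Subgroup X) →
  (∃ (F : Type) (_ : Field F) (_ : Fintype F), Odd (Fintype.card F) ∧
      Nonempty (X ≃* Matrix.ProjectiveSpecialLinearGroup (Fin 3) F)) ∨
    (∃ (F : Type) (_ : Field F) (_ : Fintype F) (q : ℕ), Fintype.card F = q ^ 2 ∧ Odd q ∧
      Nonempty (X ≃* Cfsg.PSU 3 F q)) ∨ Cfsg.IsM11 X

/-- S1742 for the group `X` -/
def St1742 (X : Type*) [Group X] : Prop := ∀ (F : Type) [Field F] [Fintype F], Odd (Fintype.card F) →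
  ∀ (S : Sylow 2 X) (P : Sylow 2 ↥(Cfsg.Lie.chevG2.group F)),
  Nonempty (↥(S : Subgroup X) ≃* ↥(P : Subgroup ↥(Cfsg.Lie.chevG2.group F))) →
    (∃ (E : Type) (_ : Field E) (_ : Fintype E), Odd (Fintype.card E) ∧ Nonempty (X ≃* ↥(Cfsg.Lie.chevG2.group E))) ∨
      (∃ (K : Type) (_ : Field K) (_ : Fintype K) (r : ℕ), Odd r ∧ Fintype.card K = r ^ 3 ∧
        Nonempty (X ≃* ↥(Cfsg.Lie.twistedD4 K r))) ∨ Cfsg.Spor.IsoM12 X

/-- the conclusion -/
def Concl (X : Type*) [Group X] : Prop :=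
  (∃ p : ℕ, p.Prime ∧ p ≠ 2 ∧ Cfsg.IsLieTypeChar p X) ∨ Spor.IsoM11 X ∨ Spor.IsoM12 X

/-! ### Groups of Lie type -/

section lie

variable {X : Type*} [Group X]

theorem exists_char (F : Type) [Field F] [Fintype F] (h : Odd (Fintype.card F)) :
    ∃ p : ℕ, p.Prime ∧ p ≠ 2 ∧ CharP F p := by
  obtain ⟨p, hp⟩ := CharP.exists F
  have h1 : p.Prime := (CharP.char_is_prime_or_zero F p).resolve_right (CharP.char_ne_zero_of_finite F p)
  refine ⟨p, h1, ?_, hp⟩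
  rintro rfl
  have h3 : 2 ∣ Fintype.card F := (CharP.cast_eq_zero_iff F 2 _).1 (Nat.cast_card_eq_zero F)
  rw [Nat.odd_iff] at h
  omega

theorem of_psl {n : ℕ} (hn : 2 ≤ n) {F : Type} [Field F] [Fintype F] (h : Odd (Fintype.card F))
    (h2 : n = 2 → 4 ≤ Fintype.card F) (e : X ≃* Matrix.ProjectiveSpecialLinearGroup (Fin n) F) : Concl X := by
  obtain ⟨p, hp, hp2, hc⟩ := exists_char F h
  exact Or.inl ⟨p, hp, hp2, Or.inl ⟨F, inferInstance, inferInstance, hc, n, hn, h2, ⟨e⟩⟩⟩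

theorem of_psu {F : Type} [Field F] [Fintype F] {q : ℕ} (hq : Fintype.card F = q ^ 2) (h : Odd q)
    (e : X ≃* Cfsg.PSU 3 F q) : Concl X := by
  obtain ⟨p, hp, hp2, hc⟩ := exists_char F (by rw [hq]; exact h.pow)
  refine Or.inl ⟨p, hp, hp2, Or.inr (Or.inr (Or.inl ⟨F, inferInstance, inferInstance, hc, 3, q, hq, le_rfl, ?_, ⟨e⟩⟩))⟩
  rintro ⟨-, rfl⟩
  exact absurd h (by decide)

theorem of_g2 {F : Type} [Field F] [Fintype F] (h : Odd (Fintype.card F)) (e : X ≃* ↥(Cfsg.Lie.chevG2.group F)) :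
    Concl X := by
  obtain ⟨p, hp, hp2, hc⟩ := exists_char F h
  refine Or.inl ⟨p, hp, hp2, Or.inr (Or.inr (Or.inr (Or.inr (Or.inr (Or.inr (Or.inl ⟨F, inferInstance, inferInstance,
    hc, Or.inl ⟨?_, ⟨e⟩⟩⟩))))))⟩
  have := Fintype.one_lt_card (α := F)
  rw [Nat.odd_iff] at h
  omega

theorem of_d4 {K : Type} [Field K] [Fintype K] {r : ℕ} (h : Odd r) (hK : Fintype.card K = r ^ 3)
    (e : X ≃* ↥(Cfsg.Lie.twistedD4 K r)) : Concl X := by
  obtain ⟨p, hp, hp2, hc⟩ := exists_char K (by rw [hK]; exact h.pow)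
  refine Or.inl ⟨p, hp, hp2, Or.inr (Or.inr (Or.inr (Or.inr (Or.inr (Or.inr (Or.inr (Or.inl ⟨K, inferInstance,
    inferInstance, hc, r, ?_, Or.inr ⟨hK, ⟨e⟩⟩⟩)))))))⟩
  have h1 : IsPrimePow (Fintype.card K) := FiniteField.isPrimePow_card K
  rw [hK] at h1
  exact (isPrimePow_pow_iff (by norm_num)).1 h1

end lie

/-! ### The identifications -/

section ident

variable {X : Type*} [Group X] [Finite X]

theorem of_quasi (h : St0507 X) (S : Sylow 2 X) (hS : Cfsg.IsQuasiDihedral (S : Subgroup X)) : Concl X := by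
  rcases h S hS with ⟨F, i, j, hF, ⟨e⟩⟩ | ⟨F, i, j, q, hF, hq, ⟨e⟩⟩ | h1
  · exact of_psl (n := 3) (by norm_num) (by rw [Nat.odd_iff]; omega) (by norm_num) e
  · exact of_psu hF (by rw [Nat.odd_iff]; omega) e
  · exact Or.inr (Or.inl (TwoGenCore.IsoMEleven.isoM11 h1))

theorem of_wreathed (h : St0523 X) (S : Sylow 2 X) (hS : Cfsg.IsWreathed (S : Subgroup X)) : Concl X := by
  rcases h S hS with ⟨F, i, j, hF, ⟨e⟩⟩ | ⟨F, i, j, q, hF, hq, ⟨e⟩⟩ | h1
  · exact of_psl (n := 3) (by norm_num) hF (by norm_num) e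
  · exact of_psu hF hq e
  · exact Or.inr (Or.inl (TwoGenCore.IsoMEleven.isoM11 h1))

omit [Finite X] in
theorem of_tg2 (h : St1742 X) (S : Sylow 2 X) {m : ℕ} {v : ZMod (2 ^ m) → ZMod (2 ^ m) → X} {r s : X}
    (hS : SylowG2.Coord.TG2 (S : Subgroup X) m v r s) : Concl X := by
  obtain ⟨F, i, j, hF, P, e⟩ := GH.QB.typeG2_of_TG2 hS
  rcases h F hF S P e with ⟨E, i, j, hE, ⟨e⟩⟩ | ⟨K, i, j, r, hr, hK, ⟨e⟩⟩ | h1
  · exact of_g2 hE e
  · exact of_d4 hr hK e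
  · exact Or.inr (Or.inr h1)

omit [Finite X] in
theorem of_dihedral (h : St0483 X) (ho : oddCore X = ⊥) (S : Sylow 2 X) {n : ℕ} (hn : 2 ≤ n)
    (hS : Nonempty ((S : Subgroup X) ≃* DihedralGroup n)) :
    Concl X ∨ Nonempty (X ≃* alternatingGroup (Fin 7)) := by
  have e1 : X ⧸ oddCore X ≃* X := (QuotientGroup.quotientMulEquivOfEq ho).trans QuotientGroup.quotientBot
  rcases h S n hn hS with ⟨F, i, j, hF, h3, ⟨e⟩⟩ | h1
  · exact Or.inl (of_psl (n := 2) le_rfl hF (fun _ => h3) (e1.symm.trans e))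
  · obtain ⟨e⟩ := h1
    exact Or.inr ⟨e1.symm.trans e⟩

end ident

end Cfsg.Agent.Cit.Nil.Ident
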