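import Cfsg.Agent.Cit.Sub
import Cfsg.Agent.Cit.OneEndGlue
import Cfsg.Agent.Cit.OneFieldPsi
import Cfsg.Agent.Cit.OneF.LTwo

/-!
# The kernel of the field homomorphism

`Field Om` : the hypothesis `hfield` of the end games `OneEndSD`, `OneEndGlue`.

`exists_ker`: `G` has a normal subgroup `N` of 2-power index, containing all members, such that the family
`restr Om N` (in the group `N`) satisfies `One` and `Field`. The conditions `F = 1`, existence of pairs, `no pair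
of type W` pass to `restr Om N`. So the end games apply to `N`.
-/

set_option autoImplicit false
set_option linter.style.haveILetI false
set_option linter.unusedSectionVars false

namespace Cfsg.Agent.Cit.Nil.Ker

open Subgroup Cfsg Cit OneBasic OneF OneFieldHom OneFieldPsi

variable {G : Type*} [Group G]

/-- the hypothesis `hfield` of the end games -/
def Field (Om : Set (Subgroup G)) : Prop :=
  ∀ K ∈ Om, ∀ S Q, Syl S (normalizer (K : Set G)) → Syl Q K → Q ≤ S → ∀ x y n, GQ Q x y (zz K) n →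
    ∀ s ∈ S, ∀ a : ℤ, s * x * s⁻¹ = x ^ a → x ^ a = x ∨ x ^ a = x⁻¹

/-- `F = 1` -/
def FOne (Om : Set (Subgroup G)) : Prop := ∀ b : G, IsPGroup 2 (zpowers b) → WW Om b → b = 1

/-- there is a pair -/
def HPair (Om : Set (Subgroup G)) : Prop := ∃ K ∈ Om, ∃ L ∈ Om, K ≠ L ∧ zz K * zz L = zz L * zz K

/-- there is a pair of type `W` -/
def HW (Om : Set (Subgroup G)) : Prop :=
  ∃ K ∈ Om, ∃ L ∈ Om, K ≠ L ∧ zz K * zz L = zz L * zz K ∧ ∃ u ∈ K, u * u = zz K ∧ u * zz L = zz L * u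

/-- elementwise form of `Field` for the elements of `N` -/
def FieldOn (Om : Set (Subgroup G)) (N : Subgroup G) : Prop :=
  ∀ K ∈ Om, ∀ Q, Syl Q K → ∀ x y n, GQ Q x y (zz K) n → ∀ s ∈ N, s ∈ normalizer (K : Set G) →
    IsPGroup 2 (zpowers s) → ∀ a : ℤ, s * x * s⁻¹ = x ^ a → x ^ a = x ∨ x ^ a = x⁻¹

theorem gq_map {G' : Type*} [Group G'] (f : G →* G') (hf : Function.Injective f) {Q : Subgroup G} {c v z : G}
    {n : ℕ} (h : GQ Q c v z n) : GQ (Q.map f) (f c) (f v) (f z) n := by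
  refine ⟨mem_map_of_mem f h.c_mem, mem_map_of_mem f h.v_mem, ?_, ?_, ?_, ?_, ?_⟩
  · rw [orderOf_injective f hf, h.ord]
  · rw [← map_pow, h.z_eq]
  · rw [← map_mul, h.v_sq]
  · rw [← map_inv, ← map_mul, ← map_mul, h.conj, map_inv]
  · rintro _ ⟨x, hx, rfl⟩
    rcases h.cov x hx with ⟨i, rfl⟩ | ⟨i, rfl⟩
    · exact Or.inl ⟨i, map_pow f c i⟩
    · exact Or.inr ⟨i, by rw [map_mul, map_pow]⟩

theorem syl_map {N : Subgroup G} {Q K : Subgroup N} : Syl (Q.map N.subtype) (K.map N.subtype) ↔ Syl Q K := by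
  have h1 : IsPGroup 2 (Q.map N.subtype) ↔ IsPGroup 2 Q := by
    have e := Q.equivMapOfInjective N.subtype N.subtype_injective
    exact ⟨fun h => h.of_equiv e.symm, fun h => h.of_equiv e⟩
  rw [Syl, Syl, map_le_map_iff_of_injective N.subtype_injective, h1,
    relIndex_map_map_of_injective _ _ N.subtype_injective]

theorem two_coe {N : Subgroup G} {s : N} : IsPGroup 2 (zpowers (s : G)) ↔ IsPGroup 2 (zpowers s) := by
  have e := (zpowers s).equivMapOfInjective N.subtype N.subtype_injective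
  have h2 : (zpowers s).map N.subtype = zpowers (s : G) := by rw [MonoidHom.map_zpowers]; rfl
  rw [h2] at e
  exact ⟨fun h => h.of_equiv e.symm, fun h => h.of_equiv e⟩

theorem mem_normalizer_map {N : Subgroup G} {K : Subgroup N} {s : N} :
    (s : G) ∈ normalizer ((K.map N.subtype : Subgroup G) : Set G) ↔ s ∈ normalizer (K : Set N) := by
  rw [mem_normalizer_iff_cj, mem_normalizer_iff_cj]
  have h1 : cj (s : G) (K.map N.subtype) = (cj s K).map N.subtype := (cj_map N.subtype s K).symm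
  rw [h1]
  exact ⟨fun h => Subgroup.map_injective N.subtype_injective h, fun h => by rw [h]⟩

section

variable [Finite G] {Om : Set (Subgroup G)} {N : Subgroup G}

/-- `One` passes to subgroups -/
theorem one_restr (h : One Om) (N : Subgroup G) : One (restr Om N) := by
  refine ⟨h.hyp.restr N, fun S hS K hK L hL => ?_⟩
  have h1 := h.one (S.map N.subtype) (hS.map _) _ (mem_OmS_restr.1 hK) _ (mem_OmS_restr.1 hL)
  exact Subgroup.map_injective N.subtype_injective h1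

theorem field_restr (h : One Om) (hf : FieldOn Om N) : Field (restr Om N) := by
  intro K hK S Q hS hQ hQS x y n g s hs a ha
  have h1 : GQ (Q.map N.subtype) (x : G) (y : G) (zz (K.map N.subtype)) n := by
    rw [← zz_map h.hyp hK]
    exact gq_map N.subtype N.subtype_injective g
  have h2 : (s : G) * x * (s : G)⁻¹ = (x : G) ^ a := by
    have := congrArg Subtype.val ha
    simpa using this
  have h3 := hf _ hK _ (syl_map.2 hQ) (x : G) y n h1 s s.2 (mem_normalizer_map.2 (hS.1 hs))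
    (two_coe.2 (isPGroup_zpowers_of_mem hS.2.1 hs)) a h2
  rcases h3 with h3 | h3
  · left; apply Subtype.ext; simpa using h3
  · right; apply Subtype.ext; simpa using h3

theorem perp_map {b : N} {K : Subgroup N} : OneF.Perp (b : G) (K.map N.subtype) ↔ OneF.Perp b K := by
  constructor
  · rintro ⟨Q, hQ, hb⟩
    have h1 : Q ≤ N := hQ.1.trans (map_subtype_le K)
    refine ⟨Q.subgroupOf N, ?_, ?_⟩
    · rw [← syl_map, map_subgroupOf_eq_of_le h1]; exact hQ
    · intro x hx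
      exact Subtype.ext (hb x hx)
  · rintro ⟨Q, hQ, hb⟩
    refine ⟨Q.map N.subtype, syl_map.2 hQ, ?_⟩
    rintro _ ⟨x, hx, rfl⟩
    exact congrArg Subtype.val (hb x hx)

theorem ww_map (h : Hyp Om) {b : N} (hw : WW (restr Om N) b) : WW Om (b : G) := by
  obtain ⟨K, hK, L, hL, hne, hc, h1, h2⟩ := hw
  refine ⟨_, hK, _, hL, fun hh => hne (Subgroup.map_injective N.subtype_injective hh), ?_, perp_map.2 h1,
    perp_map.2 h2⟩
  rw [← zz_map h hK, ← zz_map h hL]
  exact congrArg Subtype.val hc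

theorem fOne_restr (h : One Om) (hF : FOne Om) (N : Subgroup G) : FOne (restr Om N) := by
  intro b hb hw
  exact Subtype.ext (hF b (two_coe.2 hb) (ww_map h.hyp hw))

/-- the form of `F = 1` used by the end games -/
theorem FOne.pair (hF : FOne Om) : ∀ K L T Q Q', OPair Om K L T Q Q' → ∀ a ∈ T, (∀ u ∈ Q, a * u = u * a) →
    (∀ u ∈ Q', a * u = u * a) → a = 1 := by
  intro K L T Q Q' p a ha h1 h2
  exact hF a (isPGroup_zpowers_of_mem p.tp ha) ⟨K, p.hK, L, p.hL, p.ne, p.comm, ⟨Q, p.hQ, h1⟩, ⟨Q', p.hQ', h2⟩⟩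

theorem hPair_restr (h : One Om) (hN : ∀ K ∈ Om, K ≤ N) (hp : HPair Om) : HPair (restr Om N) := by
  obtain ⟨K, hK, L, hL, hne, hc⟩ := hp
  have h1 := subgroupOf_mem_restr hK (hN K hK)
  have h2 := subgroupOf_mem_restr hL (hN L hL)
  refine ⟨_, h1, _, h2, fun hh => hne ?_, Subtype.ext ?_⟩
  · rw [← map_subgroupOf_eq_of_le (hN K hK), hh, map_subgroupOf_eq_of_le (hN L hL)]
  · change ((zz (K.subgroupOf N) : N) : G) * ((zz (L.subgroupOf N) : N) : G) =
      ((zz (L.subgroupOf N) : N) : G) * ((zz (K.subgroupOf N) : N) : G)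
    rw [zz_map h.hyp h1, zz_map h.hyp h2, map_subgroupOf_eq_of_le (hN K hK), map_subgroupOf_eq_of_le (hN L hL), hc]

theorem hW_restr (h : One Om) (hN : ∀ K ∈ Om, K ≤ N) (hp : HW Om) : HW (restr Om N) := by
  obtain ⟨K, hK, L, hL, hne, hc, u, hu, huu, hut⟩ := hp
  have h1 := subgroupOf_mem_restr hK (hN K hK)
  have h2 := subgroupOf_mem_restr hL (hN L hL)
  have e1 : ((zz (K.subgroupOf N) : N) : G) = zz K := by
    rw [zz_map h.hyp h1, map_subgroupOf_eq_of_le (hN K hK)]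
  have e2 : ((zz (L.subgroupOf N) : N) : G) = zz L := by
    rw [zz_map h.hyp h2, map_subgroupOf_eq_of_le (hN L hL)]
  refine ⟨_, h1, _, h2, fun hh => hne ?_, Subtype.ext ?_, ⟨u, hN K hK hu⟩, ?_, Subtype.ext ?_, Subtype.ext ?_⟩
  · rw [← map_subgroupOf_eq_of_le (hN K hK), hh, map_subgroupOf_eq_of_le (hN L hL)]
  · change ((zz (K.subgroupOf N) : N) : G) * ((zz (L.subgroupOf N) : N) : G) =
      ((zz (L.subgroupOf N) : N) : G) * ((zz (K.subgroupOf N) : N) : G)
    rw [e1, e2, hc]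
  · exact hu
  · rw [e1]; exact huu
  · change u * ((zz (L.subgroupOf N) : N) : G) = ((zz (L.subgroupOf N) : N) : G) * u
    rw [e2]; exact hut

theorem hW_of_restr (h : Hyp Om) (hp : HW (restr Om N)) : HW Om := by
  obtain ⟨K, hK, L, hL, hne, hc, u, hu, huu, hut⟩ := hp
  refine ⟨_, hK, _, hL, fun hh => hne (Subgroup.map_injective N.subtype_injective hh), ?_, (u : G),
    mem_map_of_mem _ hu, ?_, ?_⟩
  · rw [← zz_map h hK, ← zz_map h hL]
    exact congrArg Subtype.val hc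
  · rw [← zz_map h hK]; exact congrArg Subtype.val huu
  · rw [← zz_map h hL]; exact congrArg Subtype.val hut

end

/-! ### The kernel -/

section

variable [Finite G] {Om : Set (Subgroup G)}

theorem pm_aux {Q : Subgroup G} {x y z : G} {n : ℕ} (g : GQ Q x y z n) {s : G} {a : ℤ}
    (ha : s * x * s⁻¹ = x ^ a)
    (hK : ∀ u : (ZMod (2 ^ (n + 2)))ˣ, s * x * s⁻¹ = cp x (u : ZMod (2 ^ (n + 2))) → u = 1 ∨ u = -1) :
    x ^ a = x ∨ x ^ a = x⁻¹ := by
  have hord : orderOf (s * x * s⁻¹) = 2 ^ (n + 2) := by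
    have := (MulAut.conj s).orderOf_eq x
    rw [MulAut.conj_apply] at this
    rw [this, g.ord]
  have hx1 : x ^ 2 ^ (n + 2) = 1 := pow_eq_one g.ord
  obtain ⟨u, hu⟩ := exists_unit g.ord hord (by rw [ha]; exact zpow_mem (mem_zpowers x) a)
  rcases hK u hu with h1 | h1
  · left; rw [← ha, hu, h1, Units.val_one, cp_one hx1]
  · right; rw [← ha, hu, h1, Units.val_neg, Units.val_one, cp_neg_one hx1]

theorem pm_zero {Q : Subgroup G} {x y z : G} (g : GQ Q x y z 0) {s : G} {a : ℤ}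
    (ha : s * x * s⁻¹ = x ^ a) : x ^ a = x ∨ x ^ a = x⁻¹ := by
  refine pm_aux g ha fun u _ => ?_
  have : ∀ w : (ZMod 4)ˣ, w = 1 ∨ w = -1 := by decide
  exact this u

theorem pm_of_psi (h : One Om) {n : ℕ} (ho : Ord Om n) (hn : n ≠ 0) {K Q : Subgroup G} (hK : K ∈ Om)
    (hQ : Syl Q K) {x y : G} (g : GQ Q x y (zz K) n) {s : G} (hs : s ∈ normalizer (K : Set G))
    (h1 : psiK K n s = 1) {a : ℤ} (ha : s * x * s⁻¹ = x ^ a) : x ^ a = x ∨ x ^ a = x⁻¹ := by
  refine pm_aux g ha fun u hu => ?_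
  have h3 : R K n s u := R_of_one (ho K hK) hn hs (hQ.1 g.c_mem) g.ord K.one_mem (by
    rw [hu]; group)
  rwa [psiK_eq (ho K hK) hn h3, q_eq_one] at h1

/-- **the kernel of the field homomorphism** -/
theorem exists_ker (h : One Om) : ∃ N : Subgroup G, N.Normal ∧ (∃ k, N.index = 2 ^ k) ∧
    (∀ K ∈ Om, K ≤ N) ∧ FieldOn Om N := by
  obtain ⟨n, ho⟩ := exists_ord h
  rcases Nat.eq_zero_or_pos n with hn | hn
  · subst hn
    refine ⟨⊤, inferInstance, ⟨0, by rw [index_top, pow_zero]⟩, fun K _ => le_top, ?_⟩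
    intro K hK Q hQ x y n g s _ _ _ a ha
    have hn := ho.eq hK hQ g
    subst hn
    exact pm_zero g ha
  have hn0 : n ≠ 0 := by omega
  by_cases hne : Om.Nonempty
  swap
  · exact ⟨⊤, inferInstance, ⟨0, by rw [index_top, pow_zero]⟩, fun K _ => le_top,
      fun K hK => absurd ⟨K, hK⟩ hne⟩
  obtain ⟨K₀, hK₀⟩ := hne
  obtain ⟨Q₀, hQ₀⟩ := Hyp.exists_syl K₀
  obtain ⟨S, hS, hQS⟩ := exists_syl_ge hQ₀.2.1 (hQ₀.1.trans le_normalizer)
  have hStop := OneEndGlue.Fr.syl_top h hK₀ hS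
  have hSz : S ≤ centralizer {zz K₀} := by
    rw [h.centralizer_zz hK₀]; exact hS.1
  have hz₀ : zz K₀ ∈ {z | ∃ K ∈ Om, zz K = z} := ⟨K₀, hK₀, rfl⟩
  obtain ⟨N, hN, hN1, hN2⟩ := (famPsi h ho hn0).exists_normal
    (by
      rintro _ ⟨L, hL, rfl⟩ k
      exact ⟨cj k L, h.hyp.conj L hL k, h.hyp.zz_cj hL k⟩)
    (by
      rintro _ ⟨L, hL, rfl⟩
      exact IsPGroup.of_card (n := 1) (by rw [Nat.card_zpowers, h.hyp.orderOf_zz hL, pow_one]))
    hStop hz₀ hSz
  obtain ⟨k, hk⟩ : ∃ k, N.index = 2 ^ k := by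
    haveI : Fact (Nat.Prime 2) := ⟨Nat.prime_two⟩
    obtain ⟨k, hk⟩ := hS.2.1.index (((famPsi h ho hn0).kerOn hz₀ hSz).subgroupOf S)
    exact ⟨k, hN1.trans hk⟩
  have hmem : ∀ s, s ∈ N → s ∈ S → psiK K₀ n s = 1 := by
    intro s hs hsS
    have h1 : s ∈ N ⊓ S := ⟨hs, hsS⟩
    rw [hN2] at h1
    have h2 : fam Om n (zz K₀) s = 1 := h1.2
    rwa [fam_zz h n hK₀] at h2
  refine ⟨N, hN, ⟨k, hk⟩, ?_, ?_⟩
  · -- `K₀ ≤ N`
    have hQN : Q₀ ≤ N := by
      intro q hq
      have h1 : q ∈ (famPsi h ho hn0).kerOn hz₀ hSz := by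
        refine ⟨hQS hq, ?_⟩
        change fam Om n (zz K₀) q = 1
        rw [fam_zz h n hK₀]
        exact psiK_self (ho K₀ hK₀) hn0 (hQ₀.1 hq)
      rw [← hN2] at h1
      exact h1.1
    have hKN : K₀ ≤ N := by
      rw [← relIndex_eq_one]
      have h1 : N.relIndex K₀ ∣ N.index := relIndex_dvd_index_of_normal N K₀
      rw [hk, Nat.dvd_prime_pow Nat.prime_two] at h1
      obtain ⟨j, -, hj⟩ := h1
      have h2 : N.relIndex K₀ ∣ Q₀.relIndex K₀ := relIndex_dvd_of_le_left K₀ hQN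
      by_contra hne
      apply hQ₀.2.2
      refine dvd_trans ?_ h2
      rw [hj] at hne ⊢
      cases j with
      | zero => exact absurd (pow_zero 2) hne
      | succ j => exact dvd_pow_self 2 (Nat.succ_ne_zero j)
    intro K hK
    obtain ⟨g, hg⟩ := h.exists_cj_eq hK₀ hK
    rw [← hg]
    rintro _ ⟨x, hx, rfl⟩
    exact hN.conj_mem x (hKN hx) g
  · intro K hK Q hQ x y m g s hsN hsK hs2 a ha
    have hm := ho.eq hK hQ g
    subst hm
    refine pm_of_psi h ho hn0 hK hQ g hsK ?_ ha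
    obtain ⟨u, hu⟩ := h.exists_cj_eq hK hK₀
    -- `u s u⁻¹ ∈ N(K₀)`
    have h1 : u * s * u⁻¹ ∈ normalizer (K₀ : Set G) := by
      rw [mem_normalizer_iff_cj, cj_mul, cj_mul, ← hu, cj_inv_cj, mem_normalizer_iff_cj.1 hsK]
    obtain ⟨R, hR, hsR⟩ := exists_syl_ge (isPGroup_zpowers_conj u hs2) (zpowers_le.2 h1)
    obtain ⟨v, hv, hvR⟩ := hR.exists_conj hS
    have h2 : v * (u * s * u⁻¹) * v⁻¹ ∈ S := by
      rw [← hvR]; exact conj_mem_cj (hsR (mem_zpowers _))
    have h3 : v * (u * s * u⁻¹) * v⁻¹ ∈ N := hN.conj_mem _ (hN.conj_mem _ hsN u) v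
    have h4 := hmem _ h3 h2
    have h5 : cj (v * u) K = K₀ := by rw [cj_mul, hu, mem_normalizer_iff_cj.1 hv]
    have h6 := psiK_conj (ho K hK) (fun g => ho _ (h.hyp.conj K hK g)) hn0 hsK (v * u)
    rw [h5] at h6
    rw [← h6, ← h4]
    congr 1
    group

end

end Cfsg.Agent.Cit.Nil.Ker
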