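import Cfsg.Agent.Cit.Nil.Defs

/-!
# Lifting a normal subgroup of `J / O(J)`
-/

set_option autoImplicit false
set_option linter.style.haveILetI false

namespace Cfsg.Agent.Cit.Nil.QLift

open Subgroup Cfsg Cit

variable {J : Type*} [Group J] [Finite J]

/-- `J₀ / O(J₀) ≃ N` for the preimage `J₀` of a normal subgroup `N` of `J / O(J)` -/
theorem equiv {N : Subgroup (J ⧸ oddCore J)} (hN : N.Normal) :
    Nonempty ((↥(N.comap (QuotientGroup.mk' (oddCore J))) ⧸
      oddCore ↥(N.comap (QuotientGroup.mk' (oddCore J)))) ≃* N) := by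
  obtain ⟨M, hM⟩ : ∃ M, M = N.comap (QuotientGroup.mk' (oddCore J)) := ⟨_, rfl⟩
  rw [← hM]
  have hMn : M.Normal := by rw [hM]; infer_instance
  let π := QuotientGroup.mk' (oddCore J)
  let f : M →* (J ⧸ oddCore J) := π.comp M.subtype
  have hr : f.range = N := by
    ext y
    constructor
    · rintro ⟨x, rfl⟩
      have h1 : ∀ y ∈ M, π y ∈ N := fun y hy => by rw [hM] at hy; exact hy
      exact h1 x x.2
    · intro hy
      obtain ⟨x, rfl⟩ := QuotientGroup.mk'_surjective (oddCore J) y
      refine ⟨⟨x, ?_⟩, rfl⟩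
      rw [hM]; exact hy
  have hO : oddCore (J ⧸ oddCore J) = ⊥ := Lib.Cores.pPrimeCore_quotient_pPrimeCore 2
  have hk : f.ker = oddCore M := by
    apply le_antisymm
    · refine Lib.Cores.le_pPrimeCore inferInstance ?_
      have h1 : f.ker.map M.subtype ≤ oddCore J := by
        rintro _ ⟨x, hx, rfl⟩
        exact (QuotientGroup.eq_one_iff _).1 hx
      have h2 := card_dvd_of_le h1
      rw [card_map_of_injective M.subtype_injective] at h2
      exact Nat.Coprime.coprime_dvd_left h2 (Lib.Cores.pPrimeCore_coprime 2)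
    · intro x hx
      have h1 : ((oddCore M).map f).Normal := by
        have h2 : (oddCore M).map f = ((oddCore M).map M.subtype).map π := by
          rw [Subgroup.map_map]
        rw [h2]
        have h3 : (pPrimeCore 2 M).Characteristic := Lib.Cores.pPrimeCore_characteristic 2
        have h4 : ((pPrimeCore 2 M).map M.subtype).Normal := inferInstance
        exact h4.map _ (QuotientGroup.mk'_surjective _)
      have h5 : (oddCore M).map f ≤ oddCore (J ⧸ oddCore J) := by
        refine Lib.Cores.le_pPrimeCore h1 ?_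
        exact Nat.Coprime.coprime_dvd_left (card_map_dvd _ _) (Lib.Cores.pPrimeCore_coprime 2)
      have h6 : f x ∈ (oddCore M).map f := ⟨x, hx, rfl⟩
      have h7 := h5 h6
      rw [hO, mem_bot] at h7
      exact h7
  exact ⟨(QuotientGroup.quotientMulEquivOfEq hk.symm).trans
    ((QuotientGroup.quotientKerEquivRange f).trans (MulEquiv.subgroupCongr hr))⟩

end Cfsg.Agent.Cit.Nil.QLift
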