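import Cfsg.Agent.Cit.Nil.WDiff

/-!
# (6b), `n = 1`: an `SD` and a `W` involution (1.7)
-/

set_option autoImplicit false
set_option linter.style.haveILetI false
set_option linter.unusedSectionVars false

namespace Cfsg.Agent.Cit.Nil

open Subgroup Cfsg Cit OneBasic OneF

variable {G : Type*} [Group G] [Finite G] {Om : Set (Subgroup G)} {K L Q U : Subgroup G}
  {w w1 r r1 v f b c t s m e x y φ φ1 φ2 : G} {n : ℕ}

namespace BCtx

variable (B : BCtx Om K Q U b)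
include B

theorem KU : K ⊓ U = Q :=
  (syl_eq_of_le B.hQ (B.hU.to_le inf_le_right) inf_le_left (le_inf B.hQ.1 B.hQU)).symm

theorem UnQ : U ≤ normalizer (Q : Set G) := by
  intro a ha
  rw [mem_normalizer_iff_cj, ← B.KU, cj_inf, mem_normalizer_iff_cj.1 (B.hUK ha),
    mem_normalizer_iff_cj.1 (le_normalizer ha)]

theorem tz (htU : t ∈ U) : t * zz K = zz K * t := B.one.hyp.comm_zz B.hK (B.hUK htU)

/-- conjugate `φ` so that it commutes with `t φ t⁻¹` -/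
theorem tinv (htU : t ∈ U) (ht2 : t * t = 1) (hv : ∀ q ∈ Q, v * q = q * v) (hv2 : v * v = zz K)
    (hbv : b * v = v * b) (htv : t * v * t⁻¹ = v⁻¹) (h1 : φ * φ = 1) (h2 : ∀ q ∈ Q, φ * q = q * φ)
    (h3 : φ * v = v * φ) (h4 : b * φ = φ * b) (hw : RW Om K Q w (v * φ)) (h5 : PE Om φ (w * (v * φ))) :
    ∃ ψ, ψ * ψ = 1 ∧ (∀ q ∈ Q, ψ * q = q * ψ) ∧ ψ * v = v * ψ ∧ b * ψ = ψ * b ∧
      RW Om K Q w (v * ψ) ∧ PE Om ψ (w * (v * ψ)) ∧ (PE Om b (w * (v * ψ)) ↔ PE Om b (w * (v * φ))) ∧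
      ψ * (t * ψ * t⁻¹) = (t * ψ * t⁻¹) * ψ ∧ (∀ q ∈ Q, (t * ψ * t⁻¹) * q = q * (t * ψ * t⁻¹)) ∧
      (t * ψ * t⁻¹) * v = v * (t * ψ * t⁻¹) := by
  have h := B.one
  have hti : t⁻¹ = t := inv_eq_of_mul_eq_one_right ht2
  have htb : b * t = t * b := B.hbU t htU
  have htQ := B.UnQ htU
  obtain ⟨C, hC⟩ : ∃ C, C = centralizer ((Q : Set G) ∪ {v, b}) := ⟨_, rfl⟩
  have memC : ∀ a : G, (∀ q ∈ Q, a * q = q * a) → a * v = v * a → a * b = b * a → a ∈ C := by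
    intro a h1 h2 h4
    rw [hC, mem_centralizer_iff]
    rintro y (hy | hy | hy)
    · exact (h1 y hy).symm
    · rw [hy]; exact h2.symm
    · rw [hy]; exact h4.symm
  have ofC : ∀ a ∈ C, (∀ q ∈ Q, a * q = q * a) ∧ a * v = v * a ∧ a * b = b * a := by
    intro a ha
    rw [hC, mem_centralizer_iff] at ha
    exact ⟨fun q hq => (ha q (Or.inl hq)).symm, (ha v (Or.inr (by simp))).symm,
      (ha b (Or.inr (by simp))).symm⟩
  have htC : ∀ a ∈ C, t * a * t⁻¹ ∈ C := by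
    intro a ha
    obtain ⟨a1, a2, a3⟩ := ofC a ha
    apply memC
    · intro q hq
      have h6 := a1 _ (conj_mem_of' htQ hq)
      calc t * a * t⁻¹ * q = t * (a * (t⁻¹ * q * t)) * t⁻¹ := by group
        _ = t * ((t⁻¹ * q * t) * a) * t⁻¹ := by rw [h6]
        _ = q * (t * a * t⁻¹) := by group
    · have h6 : t⁻¹ * v * t = v⁻¹ := by
        have h7 : v = t⁻¹ * v⁻¹ * t := by rw [← htv]; group
        calc t⁻¹ * v * t = (t⁻¹ * v⁻¹ * t)⁻¹ := by group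
          _ = v⁻¹ := by rw [← h7]
      have h7 : a * v⁻¹ = v⁻¹ * a := comm_inv a2
      calc t * a * t⁻¹ * v = t * (a * (t⁻¹ * v * t)) * t⁻¹ := by group
        _ = t * ((t⁻¹ * v * t) * a) * t⁻¹ := by rw [h6, h7]
        _ = v * (t * a * t⁻¹) := by group
    · have h6 : b * t⁻¹ = t⁻¹ * b := comm_inv htb
      calc t * a * t⁻¹ * b = t * a * (t⁻¹ * b) := by group
        _ = t * (a * b) * t⁻¹ := by rw [← h6]; group
        _ = (t * b) * a * t⁻¹ := by rw [a3]; group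
        _ = b * (t * a * t⁻¹) := by rw [← htb]; group
  have htN : zpowers t ≤ normalizer (C : Set G) := by
    rw [zpowers_le, mem_normalizer_iff]
    intro a
    refine ⟨htC a, fun ha => ?_⟩
    have h6 := htC _ ha
    have h7 : t * (t * a * t⁻¹) * t⁻¹ = a := by
      calc t * (t * a * t⁻¹) * t⁻¹ = (t * t) * a * (t * t)⁻¹ := by group
        _ = a := by rw [ht2]; group
    rwa [h7] at h6
  have ht2p : IsPGroup 2 (zpowers t) := isPGroup_zpowers_of_mem B.hU htU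
  obtain ⟨V, hV, htV⟩ := exists_syl_normalized ht2p htN
  have hφC : φ ∈ C := memC φ h2 h3 h4.symm
  obtain ⟨V', hV', hφV'⟩ := exists_syl_ge (two_of_sq_one h1) (zpowers_le.2 hφC)
  obtain ⟨e, heC, heV⟩ := hV'.exists_conj hV
  obtain ⟨ψ, hψ⟩ : ∃ ψ, ψ = e * φ * e⁻¹ := ⟨_, rfl⟩
  have hψV : ψ ∈ V := by rw [hψ, ← heV]; exact conj_mem_cj (hφV' (mem_zpowers _))
  have hψtV : t * ψ * t⁻¹ ∈ V := conj_mem_of (htV (mem_zpowers t)) hψV
  obtain ⟨e1, e2, e3⟩ := ofC e heC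
  obtain ⟨k1, k2, k3⟩ := ofC ψ (hV.1 hψV)
  obtain ⟨l1, l2, l3⟩ := ofC _ (hV.1 hψtV)
  have k5 : ψ * ψ = 1 := by
    rw [hψ]
    calc e * φ * e⁻¹ * (e * φ * e⁻¹) = e * (φ * φ) * e⁻¹ := by group
      _ = 1 := by rw [h1]; group
  have l5 : t * ψ * t⁻¹ * (t * ψ * t⁻¹) = 1 := by
    calc t * ψ * t⁻¹ * (t * ψ * t⁻¹) = t * (ψ * ψ) * t⁻¹ := by group
      _ = 1 := by rw [k5]; group
  have s3 : e * (w * (v * φ)) * e⁻¹ = w * (v * ψ) := by
    rw [hψ]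
    calc e * (w * (v * φ)) * e⁻¹ = (e * w) * v * φ * e⁻¹ := by group
      _ = w * (e * v) * φ * e⁻¹ := by rw [e1 w hw.wQ]; group
      _ = w * (v * (e * φ * e⁻¹)) := by rw [e2]; group
  have s4 : PE Om ψ (w * (v * ψ)) := by rw [← s3, hψ]; exact h5.conj h e
  have s5 : PE Om b (w * (v * ψ)) ↔ PE Om b (w * (v * φ)) := by
    rw [← s3]; exact PE.conj_comm_iff h e3
  have hvψQ : ∀ q ∈ Q, (v * ψ) * q = q * (v * ψ) := fun q hq =>
    (comm_mul (hv q hq).symm (k1 q hq).symm).symm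
  have hvψ2 : v * ψ * (v * ψ) = zz K := by
    calc v * ψ * (v * ψ) = v * (ψ * v) * ψ := by group
      _ = (v * v) * (ψ * ψ) := by rw [k2]; group
      _ = zz K := by rw [hv2, k5, mul_one]
  exact ⟨ψ, k5, k1, k2, k3.symm, ⟨hw.wQ, hw.w2, hvψQ, hvψ2, s4.iz⟩, s4, s5,
    wzero h B.hK B.hQ hw.wQ hw.w2 hv s4 hV.2.1 hψV hψtV k5 l5 k1 l1 k2.symm l2.symm, l1, l2⟩

/-- (A), commuting case -/
theorem sd_comm (htU : t ∈ U) (ht : IZ Om t) (htS : ∀ u ∈ Q, u * u = zz K → u * t ≠ t * u)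
    (hgq : GQ Q x y (zz K) n) (htx : t * x * t⁻¹ ∈ zpowers x) (hr : RW Om K Q (x ^ 2 ^ n) r)
    (hc : r * (t * r * t⁻¹) = (t * r * t⁻¹) * r) :
    t * (x ^ 2 ^ n * r) = (x ^ 2 ^ n * r) * t ∧ t * x ^ 2 ^ n * t⁻¹ = zz K * x ^ 2 ^ n := by
  have h := B.one
  have hK := B.hK
  have hQ := B.hQ
  have hzz := h.hyp.zz_mul hK
  have htQ := B.UnQ htU
  have htz := B.tz htU
  have ht2 := ht.mul_self h
  obtain ⟨h1, -⟩ := sd_structure hzz hgq htQ htx ht2 htz htS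
  obtain ⟨w, hw⟩ : ∃ w, w = x ^ 2 ^ n := ⟨_, rfl⟩
  have htw : t * w * t⁻¹ = zz K * w := by
    rw [hw, ← _root_.conj_pow, h1, inv_pow, ← hw]
    exact inv_of_sq (by rw [hw]; exact hr.w2) hzz
  have hr' : RW Om K Q w (t * r * t⁻¹) := by
    have e1 : ∀ q ∈ Q, t * r * t⁻¹ * q = q * (t * r * t⁻¹) := by
      intro q hq
      have h6 := hr.cent _ (conj_mem_of' htQ hq)
      calc t * r * t⁻¹ * q = t * (r * (t⁻¹ * q * t)) * t⁻¹ := by group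
        _ = t * ((t⁻¹ * q * t) * r) * t⁻¹ := by rw [h6]
        _ = q * (t * r * t⁻¹) := by group
    have e2 : t * r * t⁻¹ * (t * r * t⁻¹) = zz K := by
      calc t * r * t⁻¹ * (t * r * t⁻¹) = t * (r * r) * t⁻¹ := by group
        _ = zz K := by rw [hr.sq, htz, mul_inv_cancel_right]
    have hwQ : w ∈ Q := by rw [hw]; exact hr.wQ
    have hw2 : w * w = zz K := by rw [hw]; exact hr.w2
    refine ⟨hwQ, hw2, e1, e2, ?_⟩
    rw [← IZ.flip h hK hQ hwQ hw2 e1]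
    have e3 : zz K * (w * (t * r * t⁻¹)) = t * (w * r) * t⁻¹ := by
      calc zz K * (w * (t * r * t⁻¹)) = (zz K * w) * (t * r * t⁻¹) := by group
        _ = t * (w * r) * t⁻¹ := by rw [← htw]; group
    rw [e3]
    exact (show IZ Om (w * r) by rw [hw]; exact hr.mem).conj h t
  rw [← hw] at hr ⊢
  refine ⟨?_, htw⟩
  rcases B.eq_or_inv hr hr' hc with h2 | h2
  · exfalso
    obtain ⟨L, hL, rfl⟩ := ht
    refine star_ne h hK hL hQ htQ htz.symm htS hgq htx (by rw [← hw]; exact hr) ?_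
    rw [mul_inv_eq_iff_eq_mul] at h2
    exact h2.symm
  · have h3 : t * (w * r) * t⁻¹ = w * r := by
      calc t * (w * r) * t⁻¹ = (t * w * t⁻¹) * (t * r * t⁻¹) := by group
        _ = zz K * (w * zz K) * r := by rw [htw, h2]; group
        _ = (zz K * zz K) * (w * r) := by rw [sq_comm hr.w2]; group
        _ = w * r := by rw [hzz, one_mul]
    rwa [mul_inv_eq_iff_eq_mul] at h3

/-- **1.7 (A)** -/
theorem sd_main (htU : t ∈ U) (ht : IZ Om t) (htS : ∀ u ∈ Q, u * u = zz K → u * t ≠ t * u)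
    (hgq : GQ Q x y (zz K) n) (htx : t * x * t⁻¹ ∈ zpowers x) (hr : RW Om K Q (x ^ 2 ^ n) r) (hrU : r ∈ U) :
    ∃ ρ, RW Om K Q (x ^ 2 ^ n) ρ ∧ t * (x ^ 2 ^ n * ρ) = (x ^ 2 ^ n * ρ) * t ∧ b * ρ = ρ * b ∧
      (PE Om b (x ^ 2 ^ n * ρ) ↔ PE Om b (x ^ 2 ^ n * r)) := by
  have h := B.one
  have hK := B.hK
  have hQ := B.hQ
  have hzz := h.hyp.zz_mul hK
  have hzQ := zz_mem_syl h hK hQ
  have htQ := B.UnQ htU
  have htz := B.tz htU
  have ht2 := ht.mul_self h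
  have hbr : b * r = r * b := B.hbU r hrU
  have hN : NW Q (x ^ 2 ^ n) := nw_of_gq hgq
  by_cases hc : r * (t * r * t⁻¹) = (t * r * t⁻¹) * r
  · exact ⟨r, hr, (B.sd_comm htU ht htS hgq htx hr hc).1, hbr, Iff.rfl⟩
  obtain ⟨h1, -⟩ := sd_structure hzz hgq htQ htx ht2 htz htS
  obtain ⟨w, hw⟩ : ∃ w, w = x ^ 2 ^ n := ⟨_, rfl⟩
  have htw : t * w * t⁻¹ = zz K * w := by
    rw [hw, ← _root_.conj_pow, h1, inv_pow, ← hw]
    exact inv_of_sq (by rw [hw]; exact hr.w2) hzz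
  obtain ⟨r', hr'd⟩ : ∃ r', r' = t * r * t⁻¹ := ⟨_, rfl⟩
  rw [← hr'd] at hc
  have hr'U : r' ∈ U := by rw [hr'd]; exact U.mul_mem (U.mul_mem htU hrU) (U.inv_mem htU)
  have r'Q : ∀ q ∈ Q, r' * q = q * r' := by
    intro q hq
    have h6 := hr.cent _ (conj_mem_of' htQ hq)
    rw [hr'd]
    calc t * r * t⁻¹ * q = t * (r * (t⁻¹ * q * t)) * t⁻¹ := by group
      _ = t * ((t⁻¹ * q * t) * r) * t⁻¹ := by rw [h6]
      _ = q * (t * r * t⁻¹) := by group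
  have r'2 : r' * r' = zz K := by
    rw [hr'd]
    calc t * r * t⁻¹ * (t * r * t⁻¹) = t * (r * r) * t⁻¹ := by group
      _ = zz K := by rw [hr.sq, htz, mul_inv_cancel_right]
  rw [← hw] at hr hN ⊢
  have r'm : IZ Om (w * r') := by
    rw [← IZ.flip h hK hQ hr.wQ hr.w2 r'Q]
    have e3 : zz K * (w * r') = t * (w * r) * t⁻¹ := by
      calc zz K * (w * r') = (zz K * w) * (t * r * t⁻¹) := by rw [hr'd]; group
        _ = t * (w * r) * t⁻¹ := by rw [← htw]; group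
    rw [e3]
    exact hr.mem.conj h t
  obtain ⟨i1, -, v, hvc, hv2, hcase⟩ := exists_v h hK hQ hr r'Q r'2 B.hU hrU hr'U hc
  obtain ⟨c, hcd⟩ : ∃ c, c = r⁻¹ * r' := ⟨_, rfl⟩
  rw [← hcd] at i1 hvc hcase
  have hcQ : ∀ q ∈ Q, c * q = q * c := by
    intro q hq
    rw [hcd]
    exact (comm_mul (comm_inv (hr.cent q hq).symm) (r'Q q hq).symm).symm
  have hbc : b * c = c * b := by rw [hcd]; exact comm_mul (comm_inv hbr) (B.hbU r' hr'U)
  have i3 : t * c * t⁻¹ = c⁻¹ := by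
    have e1 : t * r' * t⁻¹ = r := by
      rw [hr'd]
      calc t * (t * r * t⁻¹) * t⁻¹ = (t * t) * r * (t * t)⁻¹ := by group
        _ = r := by rw [ht2]; group
    rw [hcd]
    calc t * (r⁻¹ * r') * t⁻¹ = (t * r * t⁻¹)⁻¹ * (t * r' * t⁻¹) := by group
      _ = (r⁻¹ * r')⁻¹ := by rw [e1, ← hr'd]; group
  obtain ⟨v, hvc, hv2, m1⟩ : ∃ v ∈ zpowers c, v * v = zz K ∧ IZ Om (w * (r * v)) := by
    rcases hcase with h1 | ⟨e, he, he2⟩
    · exact ⟨c, mem_zpowers c, h1, by rw [hcd, mul_inv_cancel_left]; exact r'm⟩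
    · have heQ : ∀ q ∈ Q, e * q = q * e := fun q hq => (comm_zpowers (hcQ q hq).symm he).symm
      have hvQ : ∀ q ∈ Q, v * q = q * v := fun q hq => (comm_zpowers (hcQ q hq).symm hvc).symm
      exact ⟨v, hvc, hv2, iz_root h hK hQ hr heQ hvQ he2 (inv_zpowers i1 he)
          (anti_of_inv h hK hv2 (hvQ _ hzQ) (inv_zpowers i1 hvc))⟩
  have hvQ : ∀ q ∈ Q, v * q = q * v := fun q hq => (comm_zpowers (hcQ q hq).symm hvc).symm
  have hbv : b * v = v * b := comm_zpowers hbc hvc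
  have a1 := anti_of_inv h hK hv2 (hvQ _ hzQ) (inv_zpowers i1 hvc)
  have htv : t * v * t⁻¹ = v⁻¹ := inv_zpowers i3 hvc
  obtain ⟨φ, p1, p2, p3, p4, p5, p6, p7, p8⟩ :=
    vlemma h hK hQ hN hr hvQ hv2 a1 m1 B.hb2 B.h3 B.hbz B.bQ hbr hbv
  obtain ⟨ψ, k1, k2, k3, k4, k5, k6, k7, k8, k9, k10⟩ :=
    B.tinv htU ht2 hvQ hv2 hbv htv p1 p2 p4 p5 p6 p7
  refine ⟨v * ψ, k5, ?_, comm_mul hbv k4, k7.trans p8⟩
  -- `t (v ψ) t⁻¹ = v⁻¹ (t ψ t⁻¹)` commutes with `v ψ`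
  have e4 : t * (v * ψ) * t⁻¹ = v⁻¹ * (t * ψ * t⁻¹) := by
    calc t * (v * ψ) * t⁻¹ = (t * v * t⁻¹) * (t * ψ * t⁻¹) := by group
      _ = _ := by rw [htv]
  have e5 : (v * ψ) * (t * (v * ψ) * t⁻¹) = (t * (v * ψ) * t⁻¹) * (v * ψ) := by
    rw [e4]
    have c1 : v * (v⁻¹ * (t * ψ * t⁻¹)) = v⁻¹ * (t * ψ * t⁻¹) * v :=
      comm_mul (comm_inv rfl) k10.symm
    have c2 : ψ * (v⁻¹ * (t * ψ * t⁻¹)) = v⁻¹ * (t * ψ * t⁻¹) * ψ := comm_mul (comm_inv k3) k8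
    exact (comm_mul c1.symm c2.symm).symm
  have h9 := (B.sd_comm htU ht htS hgq htx (by rw [← hw]; exact k5) e5).1
  rwa [← hw] at h9

theorem sdw_same (htU : t ∈ U) (ht : IZ Om t) (htS : ∀ u ∈ Q, u * u = zz K → u * t ≠ t * u)
    (hgq : GQ Q x y (zz K) n) (htx : t * x * t⁻¹ ∈ zpowers x) (hr : RW Om K Q (x ^ 2 ^ n) r) (hrU : r ∈ U) :
    PE Om b t ↔ PE Om b (x ^ 2 ^ n * r) := by
  obtain ⟨ρ, h1, h2, h3, h4⟩ := B.sd_main htU ht htS hgq htx hr hrU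
  rw [← h4]
  have hne : zz K ≠ t := by
    rintro rfl
    exact htS _ h1.wQ h1.w2 (sq_comm h1.w2)
  exact key_iff B.one B.hb2 B.h3 B.hbz ht h1.mem hne (B.ne_z h1.wQ h1.w2 h1.cent h1.mem) (B.tz htU).symm
    (B.zcomm h1.w2 h1.cent) h2 (B.hbU t htU) (comm_mul (B.bQ _ h1.wQ) h3)

end BCtx

end Cfsg.Agent.Cit.Nil
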