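import Cfsg.Agent.Cit.Nil.SDW

/-!
# (6b), `n = 1`: an `SD` and a `W` involution (1.7 (B)); two `W` involutions, all cases
-/

set_option autoImplicit false
set_option linter.style.haveILetI false
set_option linter.unusedSectionVars false

namespace Cfsg.Agent.Cit.Nil

open Subgroup Cfsg Cit OneBasic OneF

section coord

variable {G : Type*} [Group G] [Finite G] {Q : Subgroup G} {a b c d t x y x1 y1 z : G} {n n1 : ℕ}

/-- any two anticommuting elements of order 4 of `Q8` are coordinates -/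
theorem gq_zero (h : GQ Q a b z 0) (hc : c ∈ Q) (hd : d ∈ Q) (hc2 : c * c = z) (hd2 : d * d = z)
    (hcd : d * c = z * (c * d)) : GQ Q c d z 0 := by
  have ho : orderOf c = 4 := GQ.orderOf_of_sq hc2 h.z_mul h.z_ne
  have hci : c⁻¹ = z * c := inv_of_sq hc2 h.z_mul
  have hdc : d ∉ zpowers c := by
    intro hh
    have h1 : d * c = c * d := by
      obtain ⟨i, rfl⟩ := hh
      exact ((Commute.refl c).zpow_left i).eq
    rw [h1] at hcd
    exact h.z_ne (mul_eq_right.1 hcd.symm)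
  refine ⟨hc, hd, by rw [ho]; norm_num, by rw [zero_add, pow_one, pow_two, hc2], hd2, ?_, ?_⟩
  · rw [mul_inv_eq_iff_eq_mul, hcd, hci, mul_assoc]
  · have h2 : (zpowers c).relIndex Q = 2 := by
      have h3 := relIndex_mul_relIndex (⊥ : Subgroup G) (zpowers c) Q bot_le (Subgroup.zpowers_le.2 hc)
      rw [relIndex_bot_left, relIndex_bot_left, Nat.card_zpowers, ho, h.card] at h3
      norm_num at h3
      omega
    intro q hq
    by_cases h3 : q ∈ zpowers c
    · left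
      obtain ⟨i, hi⟩ := (mem_powers_iff_mem_zpowers.2 h3 : q ∈ Submonoid.powers c)
      exact ⟨i, hi.symm⟩
    · right
      have h4 : ((zpowers c).subgroupOf Q).index = 2 := h2
      have h5 : (⟨d, hd⟩ : Q)⁻¹ * ⟨q, hq⟩ ∈ (zpowers c).subgroupOf Q := by
        rw [mul_mem_iff_of_index_two h4, inv_mem_iff, mem_subgroupOf, mem_subgroupOf]
        exact ⟨fun h6 => absurd h6 hdc, fun h6 => absurd h6 h3⟩
      rw [mem_subgroupOf] at h5
      obtain ⟨i, hi⟩ := (mem_powers_iff_mem_zpowers.2 h5 : _ ∈ Submonoid.powers c)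
      refine ⟨i, ?_⟩
      have h6 : c ^ i = d⁻¹ * q := hi
      rw [h6, mul_inv_cancel_left]

theorem anti_of_gq (h : GQ Q c d z 0) : d * c = z * (c * d) := by
  have h1 := h.conj
  have h2 : c * c = z := by
    have := h.z_eq
    rwa [zero_add, pow_one, pow_two] at this
  rw [mul_inv_eq_iff_eq_mul, inv_of_sq h2 h.z_mul] at h1
  rw [h1, mul_assoc]

theorem qeight_of_gq (h : GQ Q c d z 0) : QEight Q z c d := by
  have h2 : c * c = z := by
    have := h.z_eq
    rwa [zero_add, pow_one, pow_two] at this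
  have hcd := anti_of_gq h
  have hzz := h.z_mul
  have hcz : c * z = z * c := sq_comm h2
  have hdz : d * z = z * d := sq_comm h.v_sq
  have h4 : c ^ 4 = 1 := by
    rw [show (4 : ℕ) = 2 + 2 from rfl, pow_add, pow_two, h2, hzz]
  have hred : ∀ i : ℕ, c ^ i = 1 ∨ c ^ i = c ∨ c ^ i = z ∨ c ^ i = z * c := by
    intro i
    have h5 : c ^ i = c ^ (i % 4) := by
      conv_lhs => rw [← Nat.div_add_mod i 4, pow_add, pow_mul, h4, one_pow, one_mul]
    rw [h5]
    have h6 : i % 4 < 4 := Nat.mod_lt _ (by norm_num)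
    obtain ⟨j, hj⟩ : ∃ j, j = i % 4 := ⟨_, rfl⟩
    rw [← hj] at h6 ⊢
    interval_cases j
    · left; exact pow_zero c
    · right; left; exact pow_one c
    · right; right; left; rw [pow_two, h2]
    · right; right; right
      rw [pow_succ, pow_two, h2]
  intro q hq hqq
  rcases h.cov q hq with ⟨i, rfl⟩ | ⟨i, rfl⟩
  · rcases hred i with h5 | h5 | h5 | h5
    · exfalso
      rw [h5, one_mul] at hqq
      exact h.z_ne hqq.symm
    · exact Or.inl h5
    · exfalso
      rw [h5, hzz] at hqq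
      exact h.z_ne hqq.symm
    · exact Or.inr (Or.inl h5)
  · rcases hred i with h5 | h5 | h5 | h5
    · right; right; left; rw [h5, mul_one]
    · right; right; right; right; right; rw [h5, hcd]
    · right; right; right; left; rw [h5, hdz]
    · right; right; right; right; left
      rw [h5]
      calc d * (z * c) = (d * z) * c := by group
        _ = z * (d * c) := by rw [hdz]; group
        _ = (z * z) * (c * d) := by rw [hcd]; group
        _ = c * d := by rw [hzz, one_mul]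

/-- for `|Q| ≥ 16` all coordinates give the same cyclic subgroup -/
theorem mem_of_gq {m : ℕ} (h : GQ Q x y z (m + 1)) (hc : c ∈ Q) (ho : orderOf c = 2 ^ (m + 1 + 2)) : c ∈ zpowers x := by
  rcases h.cov c hc with ⟨i, rfl⟩ | ⟨i, rfl⟩
  · exact (zpowers x).pow_mem (mem_zpowers x) i
  · exfalso
    rw [h.orderOf_out i] at ho
    have h1 : 2 ^ 2 = 2 ^ (m + 1 + 2) := by rw [← ho]; norm_num
    have h2 := Nat.pow_right_injective (le_refl 2) h1
    omega

/-- two coordinate systems -/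
theorem w_cases (h : GQ Q x y z n) (h1 : GQ Q x1 y1 z n1) :
    x1 ^ 2 ^ n1 = x ^ 2 ^ n ∨ x1 ^ 2 ^ n1 = x ^ 2 ^ n * z ∨
      (n = 0 ∧ x1 ^ 2 ^ n1 * x ^ 2 ^ n = z * (x ^ 2 ^ n * x1 ^ 2 ^ n1)) := by
  have hn : n1 = n := by
    have h2 := h.card.symm.trans h1.card
    have := Nat.pow_right_injective (le_refl 2) h2
    omega
  subst hn
  cases n1 with
  | succ m =>
    have h2 : x1 ∈ zpowers x := mem_of_gq h h1.c_mem h1.ord
    have h3 : x1 ^ 2 ^ (m + 1) ∈ zpowers x := (zpowers x).pow_mem h2 _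
    rcases h.eq_w_of_sq h3 h1.w_sq with h4 | h4
    · exact Or.inl h4
    · exact Or.inr (Or.inl h4)
  | zero =>
    rw [pow_zero, pow_one, pow_one]
    have h2 : x * x = z := by
      have := h.z_eq
      rwa [zero_add, pow_one, pow_two] at this
    have h3 : x1 * x1 = z := by
      have := h1.z_eq
      rwa [zero_add, pow_one, pow_two] at this
    have hzz := h.z_mul
    have hyx := anti_of_gq h
    have hxz : x * z = z * x := sq_comm h2
    have hyz : y * z = z * y := sq_comm h.v_sq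
    rcases qeight_of_gq h x1 h1.c_mem h3 with h4 | h4 | h4 | h4 | h4 | h4
    · exact Or.inl h4
    · right; left; rw [h4, hxz]
    · right; right; refine ⟨rfl, ?_⟩; rw [h4, hyx]
    · right; right; refine ⟨rfl, ?_⟩; rw [h4]
      calc z * y * x = z * (y * x) := by group
        _ = z * (z * x * y) := by rw [hyx]; group
        _ = z * (x * (z * y)) := by rw [← hxz]; group
    · right; right; refine ⟨rfl, ?_⟩; rw [h4]
      calc x * y * x = x * (y * x) := by group
        _ = (x * z) * (x * y) := by rw [hyx]; group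
        _ = z * (x * (x * y)) := by rw [hxz]; group
    · right; right; refine ⟨rfl, ?_⟩; rw [h4]
      calc z * (x * y) * x = z * x * (y * x) := by group
        _ = z * x * (z * x * y) := by rw [hyx]; group
        _ = z * (x * (z * (x * y))) := by group

end coord

variable {G : Type*} [Group G] [Finite G] {Om : Set (Subgroup G)} {K L Q U : Subgroup G}
  {w w1 r r1 r' v f b c t s m e x y x1 y1 φ φ1 φ2 : G} {n n1 : ℕ}

theorem RW.flip_w (h : One Om) (hK : K ∈ Om) (hr : RW Om K Q w r) (hQ : zz K ∈ Q) :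
    RW Om K Q (w * zz K) (zz K * r) ∧ (w * zz K) * (zz K * r) = w * r := by
  have hzz := h.hyp.zz_mul hK
  have hzr : r * zz K = zz K * r := hr.cent _ hQ
  have hzw : w * zz K = zz K * w := sq_comm hr.w2
  have e1 : (w * zz K) * (zz K * r) = w * r := by
    calc (w * zz K) * (zz K * r) = w * (zz K * zz K) * r := by group
      _ = w * r := by rw [hzz, mul_one]
  refine ⟨⟨Q.mul_mem hr.wQ hQ, ?_, ?_, ?_, ?_⟩, e1⟩
  · calc w * zz K * (w * zz K) = w * (zz K * w) * zz K := by group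
      _ = (w * w) * (zz K * zz K) := by rw [← hzw]; group
      _ = zz K := by rw [hr.w2, hzz, mul_one]
  · intro q hq
    have h1 : zz K * q = q * zz K ∨ True := Or.inr trivial
    have h2 := hr.cent q hq
    have h3 : r * (r * q) = q * (r * r) := by rw [h2, ← mul_assoc, h2, mul_assoc]
    have h4 : zz K * q = q * zz K := by rw [← hr.sq, mul_assoc, h3]
    exact (comm_mul h4.symm h2.symm).symm
  · calc zz K * r * (zz K * r) = zz K * (r * zz K) * r := by group
      _ = (zz K * zz K) * (r * r) := by rw [hzr]; group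
      _ = zz K := by rw [hr.sq, hzz, one_mul]
  · rw [e1]; exact hr.mem

namespace BCtx

variable (B : BCtx Om K Q U b)
include B

/-- (A) in the commuting case gives the claim for `t` and `w r` -/
theorem sdw_of_comm (htU : t ∈ U) (ht : IZ Om t) (htS : ∀ u ∈ Q, u * u = zz K → u * t ≠ t * u)
    (hr : RW Om K Q w r) (hbr : b * r = r * b) (hc : t * (w * r) = (w * r) * t) :
    PE Om b t ↔ PE Om b (w * r) := by
  have hne : zz K ≠ t := by
    rintro rfl
    exact htS _ hr.wQ hr.w2 (sq_comm hr.w2)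
  exact key_iff B.one B.hb2 B.h3 B.hbz ht hr.mem hne (B.ne_z hr.wQ hr.w2 hr.cent hr.mem) (B.tz htU).symm
    (B.zcomm hr.w2 hr.cent) hc (B.hbU t htU) (comm_mul (B.bQ _ hr.wQ) hbr)

/-- conjugate of `RW` by an element of `U` -/
theorem rw_conj (htU : t ∈ U) (hr : RW Om K Q w r) : RW Om K Q (t * w * t⁻¹) (t * r * t⁻¹) := by
  have htQ := B.UnQ htU
  have htz := B.tz htU
  refine ⟨conj_mem_of htQ hr.wQ, ?_, ?_, ?_, ?_⟩
  · calc t * w * t⁻¹ * (t * w * t⁻¹) = t * (w * w) * t⁻¹ := by group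
      _ = zz K := by rw [hr.w2, htz, mul_inv_cancel_right]
  · intro q hq
    have h6 := hr.cent _ (conj_mem_of' htQ hq)
    calc t * r * t⁻¹ * q = t * (r * (t⁻¹ * q * t)) * t⁻¹ := by group
      _ = t * ((t⁻¹ * q * t) * r) * t⁻¹ := by rw [h6]
      _ = q * (t * r * t⁻¹) := by group
  · calc t * r * t⁻¹ * (t * r * t⁻¹) = t * (r * r) * t⁻¹ := by group
      _ = zz K := by rw [hr.sq, htz, mul_inv_cancel_right]
  · have e1 : t * w * t⁻¹ * (t * r * t⁻¹) = t * (w * r) * t⁻¹ := by group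
    rw [e1]
    exact hr.mem.conj B.one t

/-- **1.7 (B)**, commuting case -/
theorem sdw_b_comm (htU : t ∈ U) (ht : IZ Om t) (htS : ∀ u ∈ Q, u * u = zz K → u * t ≠ t * u)
    (hgq : GQ Q w y (zz K) 0) (hr : RW Om K Q w r) (hanti : (t * w * t⁻¹) * w = zz K * (w * (t * w * t⁻¹)))
    (hbr : b * r = r * b) (hc : r * (t * r * t⁻¹) = (t * r * t⁻¹) * r) :
    PE Om b t ↔ PE Om b (w * r) := by
  have h := B.one
  have hK := B.hK
  have hQ := B.hQ
  have hzz := h.hyp.zz_mul hK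
  have htz := B.tz htU
  have ht2 := ht.mul_self h
  have htb : b * t = t * b := B.hbU t htU
  obtain ⟨w1, hw1⟩ : ∃ w1, w1 = t * w * t⁻¹ := ⟨_, rfl⟩
  have hr1 := B.rw_conj htU hr
  rw [← hw1] at hr1 hanti
  have htw1 : t * w1 * t⁻¹ = w := by
    rw [hw1]
    calc t * (t * w * t⁻¹) * t⁻¹ = (t * t) * w * (t * t)⁻¹ := by group
      _ = w := by rw [ht2]; group
  have hanti' : w * w1 = zz K * (w1 * w) := by rw [hanti, ← mul_assoc, hzz, one_mul]
  have g1 : GQ Q w w1 (zz K) 0 := gq_zero hgq hr.wQ hr1.wQ hr.w2 hr1.w2 hanti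
  have g2 : GQ Q w1 w (zz K) 0 := gq_zero hgq hr1.wQ hr.wQ hr1.w2 hr.w2 hanti'
  have hbr1 : b * (t * r * t⁻¹) = (t * r * t⁻¹) * b := comm_mul (comm_mul htb hbr) (comm_inv htb)
  obtain ⟨R1, R2, R3⟩ := B.diff_comm (by simpa using nw_of_gq g1) (by simpa using nw_of_gq g2) (qeight_of_gq g1)
    (qeight_of_gq g2) hanti hr hr1 hc hbr hbr1
  rw [← R2]
  have g3 : GQ Q (w * w1) w (zz K) 0 := by
    refine gq_zero hgq R1.wQ hr.wQ R1.w2 hr.w2 ?_
    have hzw : w * zz K = zz K * w := sq_comm hr.w2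
    calc w * (w * w1) = w * (zz K * (w1 * w)) := by rw [hanti']
      _ = (w * zz K) * (w1 * w) := by group
      _ = zz K * (w * w1 * w) := by rw [hzw]; group
  have hi : t * (w * w1) * t⁻¹ ∈ zpowers (w * w1) := by
    have e1 : t * (w * w1) * t⁻¹ = (w * w1)⁻¹ := by
      calc t * (w * w1) * t⁻¹ = (t * w * t⁻¹) * (t * w1 * t⁻¹) := by group
        _ = zz K * (w * w1) := by rw [htw1, ← hw1, hanti]
        _ = (w * w1)⁻¹ := (inv_of_sq R1.w2 hzz).symm
    rw [e1]
    exact (zpowers (w * w1)).inv_mem (mem_zpowers _)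
  have R1' : RW Om K Q ((w * w1) ^ 2 ^ 0) r := by simpa using R1
  obtain ⟨k1, -⟩ := B.sd_comm htU ht htS g3 hi R1' hc
  rw [pow_zero, pow_one] at k1
  exact B.sdw_of_comm htU ht htS R1 hbr k1

/-- **1.7 (B)** -/
theorem sdw_b (htU : t ∈ U) (ht : IZ Om t) (htS : ∀ u ∈ Q, u * u = zz K → u * t ≠ t * u)
    (hgq : GQ Q w y (zz K) 0) (hr : RW Om K Q w r) (hanti : (t * w * t⁻¹) * w = zz K * (w * (t * w * t⁻¹)))
    (hrU : r ∈ U) : PE Om b t ↔ PE Om b (w * r) := by
  have h := B.one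
  have hK := B.hK
  have hQ := B.hQ
  have hzz := h.hyp.zz_mul hK
  have hzQ := zz_mem_syl h hK hQ
  have htz := B.tz htU
  have ht2 := ht.mul_self h
  have htb : b * t = t * b := B.hbU t htU
  have hbr : b * r = r * b := B.hbU r hrU
  by_cases hc : r * (t * r * t⁻¹) = (t * r * t⁻¹) * r
  · exact B.sdw_b_comm htU ht htS hgq hr hanti hbr hc
  obtain ⟨w1, hw1⟩ : ∃ w1, w1 = t * w * t⁻¹ := ⟨_, rfl⟩
  obtain ⟨r1, hr1d⟩ : ∃ r1, r1 = t * r * t⁻¹ := ⟨_, rfl⟩
  have hr1 := B.rw_conj htU hr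
  have hr1U : r1 ∈ U := by rw [hr1d]; exact U.mul_mem (U.mul_mem htU hrU) (U.inv_mem htU)
  have hbr1 : b * r1 = r1 * b := B.hbU r1 hr1U
  have htw1 : t * (t * w * t⁻¹) * t⁻¹ = w := by
    calc t * (t * w * t⁻¹) * t⁻¹ = (t * t) * w * (t * t)⁻¹ := by group
      _ = w := by rw [ht2]; group
  by_cases ha : r1 * r = zz K * (r * r1)
  · -- anticommuting
    rw [← hw1] at hr1 hanti htw1
    rw [← hr1d] at hr1 hc
    obtain ⟨k1, k2, k3⟩ := B.diff_anti hanti hr hr1 ha
    have hanti' : w * w1 = zz K * (w1 * w) := by rw [hanti, ← mul_assoc, hzz, one_mul]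
    have g3 : GQ Q (w * w1) w (zz K) 0 := by
      refine gq_zero hgq k2.wQ hr.wQ k2.w2 hr.w2 ?_
      have hzw : w * zz K = zz K * w := sq_comm hr.w2
      calc w * (w * w1) = w * (zz K * (w1 * w)) := by rw [hanti']
        _ = (w * zz K) * (w1 * w) := by group
        _ = zz K * (w * w1 * w) := by rw [hzw]; group
    have hi : t * (w * w1) * t⁻¹ ∈ zpowers (w * w1) := by
      have e1 : t * (w * w1) * t⁻¹ = (w * w1)⁻¹ := by
        calc t * (w * w1) * t⁻¹ = (t * w * t⁻¹) * (t * w1 * t⁻¹) := by group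
          _ = zz K * (w * w1) := by rw [htw1, ← hw1, hanti]
          _ = (w * w1)⁻¹ := (inv_of_sq k2.w2 hzz).symm
      rw [e1]
      exact (zpowers (w * w1)).inv_mem (mem_zpowers _)
    have R1' : RW Om K Q ((w * w1) ^ 2 ^ 0) (r * r1) := by simpa using k2
    have k4 := B.sdw_same htU ht htS g3 hi R1' (U.mul_mem hrU hr1U)
    rw [pow_zero, pow_one] at k4
    rw [k4]
    refine B.key_ww k2 hr (comm_mul hbr hbr1) hbr ?_
    rw [← k3]
    exact comm_mul rfl k1 |>.symm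
  · -- `|c| ≥ 8`
    rw [← hr1d] at hr1 hc
    obtain ⟨i1, -, v, hvc, hv2, hcase⟩ := exists_v h hK hQ hr hr1.cent hr1.sq B.hU hrU hr1U hc
    obtain ⟨c, hcd⟩ : ∃ c, c = r⁻¹ * r1 := ⟨_, rfl⟩
    rw [← hcd] at i1 hvc hcase
    have hcQ : ∀ q ∈ Q, c * q = q * c := by
      intro q hq
      rw [hcd]
      exact (comm_mul (comm_inv (hr.cent q hq).symm) (hr1.cent q hq).symm).symm
    have hbc : b * c = c * b := by rw [hcd]; exact comm_mul (comm_inv hbr) hbr1
    have i3 : t * c * t⁻¹ = c⁻¹ := by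
      have e1 : t * r1 * t⁻¹ = r := by
        rw [hr1d]
        calc t * (t * r * t⁻¹) * t⁻¹ = (t * t) * r * (t * t)⁻¹ := by group
          _ = r := by rw [ht2]; group
      rw [hcd]
      calc t * (r⁻¹ * r1) * t⁻¹ = (t * r * t⁻¹)⁻¹ * (t * r1 * t⁻¹) := by group
        _ = (r⁻¹ * r1)⁻¹ := by rw [e1, ← hr1d]; group
    have hvQ : ∀ q ∈ Q, v * q = q * v := fun q hq => (comm_zpowers (hcQ q hq).symm hvc).symm
    have hbv : b * v = v * b := comm_zpowers hbc hvc
    have a1 := anti_of_inv h hK hv2 (hvQ _ hzQ) (inv_zpowers i1 hvc)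
    have htv : t * v * t⁻¹ = v⁻¹ := inv_zpowers i3 hvc
    rcases hcase with h1 | ⟨e, he, he2⟩
    · exfalso
      apply ha
      have h2 := anti_of_inv h hK h1 (hcQ _ hzQ) i1
      have h3 : r1 = r * c := by rw [hcd]; group
      rw [h3]
      calc r * c * r = r * (c * r) := by group
        _ = (r * zz K) * (r * c) := by rw [h2]; group
        _ = zz K * (r * (r * c)) := by rw [hr.cent _ hzQ]; group
    have heQ : ∀ q ∈ Q, e * q = q * e := fun q hq => (comm_zpowers (hcQ q hq).symm he).symm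
    have m1 := iz_root h hK hQ hr heQ hvQ he2 (inv_zpowers i1 he) a1
    have hN : NW Q w := by simpa using nw_of_gq hgq
    obtain ⟨φ, p1, p2, p3, p4, p5, p6, p7, p8⟩ :=
      vlemma h hK hQ hN hr hvQ hv2 a1 m1 B.hb2 B.h3 B.hbz B.bQ hbr hbv
    obtain ⟨ψ, k1, k2, k3, k4, k5, k6, k7, k8, k9, k10⟩ :=
      B.tinv htU ht2 hvQ hv2 hbv htv p1 p2 p4 p5 p6 p7
    rw [← p8, ← k7]
    have e4 : t * (v * ψ) * t⁻¹ = v⁻¹ * (t * ψ * t⁻¹) := by
      calc t * (v * ψ) * t⁻¹ = (t * v * t⁻¹) * (t * ψ * t⁻¹) := by group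
        _ = _ := by rw [htv]
    have e5 : (v * ψ) * (t * (v * ψ) * t⁻¹) = (t * (v * ψ) * t⁻¹) * (v * ψ) := by
      rw [e4]
      have c1 : v * (v⁻¹ * (t * ψ * t⁻¹)) = v⁻¹ * (t * ψ * t⁻¹) * v :=
        comm_mul (comm_inv rfl) k10.symm
      have c2 : ψ * (v⁻¹ * (t * ψ * t⁻¹)) = v⁻¹ * (t * ψ * t⁻¹) * ψ := comm_mul (comm_inv k3) k8
      exact (comm_mul c1.symm c2.symm).symm
    exact B.sdw_b_comm htU ht htS hgq k5 hanti (comm_mul hbv k4) e5

/-- **1.7** -/
theorem sdw (htU : t ∈ U) (ht : IZ Om t) (htS : ∀ u ∈ Q, u * u = zz K → u * t ≠ t * u)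
    (hgq : GQ Q x y (zz K) n) (hr : RW Om K Q (x ^ 2 ^ n) r) (hrU : r ∈ U) :
    PE Om b t ↔ PE Om b (x ^ 2 ^ n * r) := by
  have h := B.one
  have htQ := B.UnQ htU
  have htz := B.tz htU
  cases n with
  | succ m =>
    refine B.sdw_same htU ht htS hgq (mem_of_gq hgq (conj_mem_of htQ hgq.c_mem) ?_) hr hrU
    rw [← hgq.ord]
    exact (MulAut.conj t).orderOf_eq x
  | zero =>
    have hg1 : GQ Q (t * x * t⁻¹) (t * y * t⁻¹) (zz K) 0 := by
      have h1 := gq_cj hgq t
      rwa [mem_normalizer_iff_cj.1 htQ, htz, mul_inv_cancel_right] at h1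
    have key : t * x * t⁻¹ ∈ zpowers x → (PE Om b t ↔ PE Om b (x ^ 2 ^ 0 * r)) :=
      fun h1 => B.sdw_same htU ht htS hgq h1 hr hrU
    rcases w_cases hgq hg1 with h1 | h1 | ⟨-, h1⟩
    · rw [pow_zero, pow_one, pow_one] at h1
      apply key
      rw [h1]; exact mem_zpowers x
    · rw [pow_zero, pow_one, pow_one] at h1
      apply key
      rw [h1]
      refine (zpowers x).mul_mem (mem_zpowers x) ?_
      rw [← hgq.z_eq]
      exact (zpowers x).pow_mem (mem_zpowers x) _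
    · rw [pow_zero, pow_one] at hr ⊢
      rw [pow_zero, pow_one, pow_one] at h1
      exact B.sdw_b htU ht htS hgq hr h1 hrU

/-- 1.5 + 1.6 -/
theorem ww (hgq : GQ Q x y (zz K) n) (hgq1 : GQ Q x1 y1 (zz K) n1) (hr : RW Om K Q (x ^ 2 ^ n) r)
    (hr1 : RW Om K Q (x1 ^ 2 ^ n1) r1) (hrU : r ∈ U) (hr1U : r1 ∈ U) :
    PE Om b (x ^ 2 ^ n * r) ↔ PE Om b (x1 ^ 2 ^ n1 * r1) := by
  have h := B.one
  have hK := B.hK
  have hzz := h.hyp.zz_mul hK
  have hzQ := zz_mem_syl h hK B.hQ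
  have hN := nw_of_gq hgq
  have hN1 := nw_of_gq hgq1
  rcases w_cases hgq hgq1 with h1 | h1 | ⟨h0, h1⟩
  · rw [h1] at hr1 ⊢
    exact B.ww_same hN hr hr1 hrU hr1U
  · obtain ⟨k1, k2⟩ := hr1.flip_w h hK hzQ
    have h2 : x1 ^ 2 ^ n1 * zz K = x ^ 2 ^ n := by
      rw [h1, mul_assoc, hzz, mul_one]
    rw [h2] at k1 k2
    rw [← k2]
    exact B.ww_same hN hr k1 hrU (U.mul_mem (B.hQU hzQ) hr1U)
  · subst h0
    have hn1 : n1 = 0 := by
      have h2 := hgq.card.symm.trans hgq1.card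
      have := Nat.pow_right_injective (le_refl 2) h2
      omega
    subst hn1
    rw [pow_zero, pow_one, pow_one] at h1
    rw [pow_zero, pow_one] at hr hr1 hN hN1 ⊢
    rw [pow_one] at *
    have hanti' : x * x1 = zz K * (x1 * x) := by rw [h1, ← mul_assoc, hzz, one_mul]
    have g1 : GQ Q x x1 (zz K) 0 := gq_zero hgq hr.wQ hr1.wQ hr.w2 hr1.w2 h1
    have g2 : GQ Q x1 x (zz K) 0 := gq_zero hgq hr1.wQ hr.wQ hr1.w2 hr.w2 hanti'
    exact B.diff hN hN1 (qeight_of_gq g1) (qeight_of_gq g2) h1 hr hr1 hrU hr1U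

end BCtx

end Cfsg.Agent.Cit.Nil
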