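import Cfsg.Agent.Cit.Nil.Ker
import Cfsg.Agent.Cit.OneEndSD
import Cfsg.Agent.Cit.OneL1
import Cfsg.Agent.S0206

/-!
# (6b), `|Om(S)| = 1`: no pair of type `W`; the Sylow 2-subgroups of the normal subgroup `X`

`inf_eq`: `S ⊓ X = M` (semidihedral) or `S ⊓ X = ⟨c, t⟩` (dihedral).
-/

set_option autoImplicit false
set_option linter.style.haveILetI false
set_option linter.unusedSectionVars false

namespace Cfsg.Agent.Cit.Nil.SdEnd

open Subgroup Cfsg Cit OneBasic OneF Ker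
open Cfsg.Agent.Cit.OneEndSD (SP)

variable {G : Type*} [Group G]

section

variable {ZZ : Set G} {S Q : Subgroup G} {c v z t w' : G} {n : ℕ}

/-- the dihedral subgroup `⟨c, t⟩` -/
def DD (h : SP ZZ S Q c v z t w' n) : Subgroup G where
  carrier := {g | ∃ i : ℤ, g = c ^ i ∨ g = c ^ i * t}
  one_mem' := ⟨0, Or.inl (zpow_zero c).symm⟩
  mul_mem' := by
    rintro a b ⟨i, ha⟩ ⟨j, hb⟩
    have e : ∀ j : ℤ, t * c ^ j = c ^ (-j) * t := fun j => mul_inv_eq_iff_eq_mul.1 (h.sd.y_c j)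
    rcases ha with rfl | rfl <;> rcases hb with rfl | rfl
    · exact ⟨i + j, Or.inl (zpow_add c i j).symm⟩
    · exact ⟨i + j, Or.inr (by rw [zpow_add, mul_assoc])⟩
    · exact ⟨i - j, Or.inr (by rw [mul_assoc, e, ← mul_assoc, ← zpow_add, sub_eq_add_neg])⟩
    · refine ⟨i - j, Or.inl ?_⟩
      calc c ^ i * t * (c ^ j * t) = c ^ i * (t * c ^ j) * t := by group
        _ = c ^ i * c ^ (-j) * (t * t) := by rw [e]; group
        _ = c ^ (i - j) := by rw [h.sd.sq, mul_one, ← zpow_add, sub_eq_add_neg]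
  inv_mem' := by
    rintro a ⟨i, rfl | rfl⟩
    · exact ⟨-i, Or.inl (zpow_neg c i).symm⟩
    · have e : ∀ j : ℤ, t * c ^ j = c ^ (-j) * t := fun j => mul_inv_eq_iff_eq_mul.1 (h.sd.y_c j)
      refine ⟨i, Or.inr ?_⟩
      rw [mul_inv_rev, GH.QSd.y_inv h.sd.sq, ← zpow_neg, e, neg_neg]

theorem dd_eq_closure (h : SP ZZ S Q c v z t w' n) : DD h = closure {c * t, t} := by
  apply le_antisymm
  · have ht : t ∈ closure ({c * t, t} : Set G) := subset_closure (by simp)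
    have hc : c ∈ closure ({c * t, t} : Set G) := by
      have := mul_mem (subset_closure (by simp) : c * t ∈ closure ({c * t, t} : Set G)) (inv_mem ht)
      rwa [mul_inv_cancel_right] at this
    rintro g ⟨i, rfl | rfl⟩
    · exact zpow_mem hc i
    · exact mul_mem (zpow_mem hc i) ht
  · rw [closure_le]
    rintro g (rfl | rfl)
    · exact ⟨1, Or.inr (by rw [zpow_one])⟩
    · exact ⟨0, Or.inr (by rw [zpow_zero, one_mul])⟩

theorem t_not_mem (h : SP ZZ S Q c v z t w' n) : t ∉ Q := by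
  intro h1
  rcases OneEndW.cov' h.sd.gq t h1 with ⟨i, hi⟩ | ⟨i, hi⟩
  · have h2 := h.sd.yc
    rw [hi] at h2
    have h3 : c ^ i * c * (c ^ i)⁻¹ = c := by
      rw [((Commute.refl c).zpow_left i).eq, mul_inv_cancel_right]
    rw [h3] at h2
    exact h.sd.gq.c_sq_ne (by
      calc c * c = c * c⁻¹ := by rw [← h2]
        _ = 1 := mul_inv_cancel c)
  · have h2 : (v * c ^ i) * (v * c ^ i) = z := by
      calc (v * c ^ i) * (v * c ^ i) = v * (c ^ i * v) * c ^ i := by group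
        _ = v * (v * c ^ (-i)) * c ^ i := by rw [OneEndW.zpow_v h.sd.gq]
        _ = v * v := by group
        _ = z := h.sd.gq.v_sq
    rw [← hi, h.sd.sq] at h2
    exact h.sd.gq.z_ne h2.symm

theorem c_ne (h : SP ZZ S Q c v z t w' n) : c ≠ 1 := fun hc => h.sd.gq.c_sq_ne (by rw [hc, one_mul])

/-- `⟨c, t⟩` is dihedral -/
theorem dd_equiv [Finite G] (h : SP ZZ S Q c v z t w' n) :
    Nonempty (DD h ≃* DihedralGroup (2 ^ (n + 2))) := by
  have htc : t * c = c⁻¹ * t := mul_inv_eq_iff_eq_mul.1 h.sd.yc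
  have h1 : orderOf (c * t) = 2 := by
    refine orderOf_eq_prime ?_ ?_
    · rw [pow_two]
      calc c * t * (c * t) = c * (t * c) * t := by group
        _ = t * t := by rw [htc]; group
        _ = 1 := h.sd.sq
    · intro h2
      apply t_not_mem h
      have : t = c⁻¹ := (inv_eq_of_mul_eq_one_right h2).symm
      rw [this]
      exact Q.inv_mem h.sd.gq.c_mem
  have h2 : orderOf t = 2 := orderOf_eq_prime (by rw [pow_two]; exact h.sd.sq) h.t_ne
  have h3 : c * t ≠ t := fun hh => c_ne h (mul_eq_right.1 hh)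
  obtain ⟨e⟩ := S0206.result (c * t) t h1 h2 h3
  have h4 : c * t * t = c := by rw [mul_assoc, h.sd.sq, mul_one]
  rw [h4, h.sd.gq.ord] at e
  exact ⟨(MulEquiv.subgroupCongr (dd_eq_closure h)).trans e⟩

/-- `M = Q⟨t⟩` is semidihedral -/
theorem qd_M [Finite G] (h : SP ZZ S Q c v z t w' n) : Cfsg.IsQuasiDihedral h.M := by
  have hzz := h.sd.gq.z_mul
  have htt := h.sd.sq
  have hzt := h.zt
  have htQ := t_not_mem h
  have hQM : Q ≤ h.M := h.Q_le_M
  have hind : (Q.subgroupOf h.M).index = 2 := by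
    rw [Subgroup.index_eq_two_iff]
    refine ⟨⟨t, h.t_mem_M⟩, fun b => ?_⟩
    rw [mem_subgroupOf, mem_subgroupOf]
    by_cases hb : (b : G) ∈ Q
    · refine Or.inr ⟨hb, fun h2 => htQ ?_⟩
      have := Q.mul_mem (Q.inv_mem hb) h2
      simpa using this
    · refine Or.inl ⟨?_, hb⟩
      show (b : G) * t ∈ Q
      obtain ⟨q, hq, h1 | h1⟩ := b.2
      · exact absurd (by rw [h1]; exact hq) hb
      · rw [h1, mul_assoc, htt, mul_one]; exact hq
  have hcard : Nat.card h.M = 2 ^ (n + 3 + 1) := by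
    have h1 := (Q.subgroupOf h.M).card_mul_index
    rw [hind, Nat.card_congr (subgroupOfEquivOfLe hQM).toEquiv, h.sd.gq.card] at h1
    rw [← h1]; ring
  have hvt : (v * t) * (v * t) = z * c := by
    have h1 : t * v = v * c * t := mul_inv_eq_iff_eq_mul.1 h.sd.yv
    calc (v * t) * (v * t) = v * (t * v) * t := by group
      _ = v * (v * c * t) * t := by rw [h1]
      _ = (v * v) * c * (t * t) := by group
      _ = z * c := by rw [h.sd.gq.v_sq, htt, mul_one]
  have hzc : Commute z c := OneEndW.zc h.sd.gq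
  have hpow : (v * t) ^ 2 ^ (n + 2) = z := by
    have h1 : (v * t) ^ 2 ^ (n + 2) = (z * c) ^ 2 ^ (n + 1) := by
      rw [← hvt, ← pow_two, ← pow_mul, ← pow_succ']
    rw [h1, hzc.mul_pow, h.sd.gq.z_eq, pow_succ', pow_mul, pow_two, hzz, one_pow, one_mul]
  refine ⟨n + 3, by omega, hcard, ⟨v * t, h.M.mul_mem (hQM h.sd.gq.v_mem) h.t_mem_M⟩, ⟨t, h.t_mem_M⟩, ?_, ?_,
    Subtype.ext ?_⟩
  · rw [← Subgroup.orderOf_coe]
    show orderOf (v * t) = 2 ^ (n + 2 + 1)
    apply orderOf_eq_prime_pow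
    · rw [hpow]; exact h.sd.gq.z_ne
    · rw [pow_succ, pow_mul, hpow, pow_two, hzz]
  · rw [← Subgroup.orderOf_coe]
    exact orderOf_eq_prime (by rw [pow_two]; exact htt) h.t_ne
  · show t * (v * t) * t⁻¹ = (v * t) ^ (2 ^ (n + 3 - 1) - 1)
    have h1 : (v * t) ^ (2 ^ (n + 3 - 1) - 1) * (v * t) = z := by
      rw [← pow_succ, Nat.sub_add_cancel (Nat.one_le_two_pow)]
      exact hpow
    have h2 : t * (v * t) * t⁻¹ * (v * t) = z := by
      calc t * (v * t) * t⁻¹ * (v * t) = t * (v * v) * t := by group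
        _ = (t * z) * t := by rw [h.sd.gq.v_sq]
        _ = z * (t * t) := by rw [← hzt]; group
        _ = z := by rw [htt, mul_one]
    exact mul_right_cancel (h2.trans h1.symm)

theorem c_mem_X (h : SP ZZ S Q c v z t w' n) {X : Subgroup G} (hX : X.Normal) (ht : t ∈ X) : c ∈ X := by
  have h1 : v⁻¹ * t * v⁻¹⁻¹ ∈ X := hX.conj_mem t ht v⁻¹
  have h2 : c = (v⁻¹ * t * v⁻¹⁻¹) * t⁻¹ := by
    calc c = v⁻¹ * (v * c) := by group
      _ = v⁻¹ * (t * v * t⁻¹) := by rw [h.sd.yv]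
      _ = _ := by group
  rw [h2]
  exact X.mul_mem h1 (X.inv_mem ht)

/-- Thompson transfer in `X` -/
theorem inf_le_M [Finite G] (h : SP ZZ S Q c v z t w' n) {X : Subgroup G} (hX : X.Normal)
    (hS : Syl (S ⊓ X) X) (hz : z ∈ X) (ht : t ∈ X) (hidx : ∀ H : Subgroup X, H.index ≠ 2) :
    S ⊓ X ≤ h.M := by
  by_contra hle
  obtain ⟨s, ⟨hsS, hsX⟩, hsM⟩ := SetLike.not_le_iff_exists.1 hle
  have hcX := c_mem_X h hX ht
  have hzz := h.sd.gq.z_mul
  have hzM : z ∈ h.M := h.Q_le_M h.sd.gq.z_mem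
  rcases h.P_cases with hP | ⟨u, huS, huQ, huu, hut, hcase⟩
  · obtain ⟨m, hm, p, hpS, hpQ, hsm⟩ := h.exists_mul hsS
    apply hsM
    rcases hP p hpS hpQ with h2 | h2
    · rw [hsm, h2, mul_one]; exact hm
    · rw [hsm, h2]; exact h.M.mul_mem hm hzM
  have hzu : u * z = z * u := h.z_cen huS
  have huM : u ∉ h.M := by
    intro h1
    rcases h.M_cent h1 huQ with h2 | h2
    · rw [h2, one_mul] at huu; exact h.sd.gq.z_ne huu.symm
    · rw [h2, hzz] at huu; exact h.sd.gq.z_ne huu.symm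
  -- `S = M ∪ M u`
  have hcos : ∀ b ∈ S, b ∉ h.M → ∃ m ∈ h.M, b = m * u := by
    intro b hb hbM
    obtain ⟨m, hm, p, hpS, hpQ, hbm⟩ := h.exists_mul hb
    rcases hcase p hpS hpQ with h2 | h2 | h2 | h2
    · exact absurd (by rw [hbm, h2, mul_one]; exact hm) hbM
    · exact absurd (by rw [hbm, h2]; exact h.M.mul_mem hm hzM) hbM
    · exact ⟨m, hm, by rw [hbm, h2]⟩
    · exact ⟨m * z, h.M.mul_mem hm hzM, by rw [hbm, h2, hzu, mul_assoc]⟩
  -- an involution of `X` outside `ZZ`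
  obtain ⟨e, heX, hee, he1, heZ⟩ : ∃ e ∈ X, e * e = 1 ∧ e ≠ 1 ∧ e ∉ ZZ := by
    obtain ⟨m, ⟨q, hq, hmq⟩, hsm⟩ := hcos s hsS hsM
    have hqu : q * u ∈ X := by
      rcases hmq with rfl | rfl
      · rw [← hsm]; exact hsX
      · have h1 : q * u = s * t⁻¹ * z⁻¹ := by
          have h2 : s = q * u * z * t := by
            calc s = q * (t * u) := by rw [hsm]; group
              _ = q * u * z * t := by rw [hut]; group
          rw [h2]; group
        rw [h1]
        exact X.mul_mem (X.mul_mem hsX (X.inv_mem ht)) (X.inv_mem hz)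
    rcases OneEndW.cov' h.sd.gq q hq with ⟨i, hi⟩ | ⟨i, hi⟩
    · -- `u ∈ X`
      have huX : u ∈ X := by
        have h1 : u = c ^ (-i) * (q * u) := by rw [hi]; group
        rw [h1]
        exact X.mul_mem (X.zpow_mem hcX _) hqu
      refine ⟨u * t, X.mul_mem huX ht, ?_, ?_, (h.ut_not huS huQ huu hut).1⟩
      · calc u * t * (u * t) = u * (t * u) * t := by group
          _ = (u * u) * z * (t * t) := by rw [hut]; group
          _ = 1 := by rw [huu, h.sd.sq, hzz, mul_one]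
      · intro h1
        apply huM
        rw [mul_eq_one_iff_eq_inv.1 h1]
        exact h.M.inv_mem h.t_mem_M
    · -- `v u ∈ X`
      have hvX : v * u ∈ X := by
        have h1 : v * u = c ^ i * (q * u) := by
          rw [hi]
          have h2 : c ^ i * (v * c ^ i) = v := by
            rw [← mul_assoc, OneEndW.zpow_v h.sd.gq]; group
          rw [← mul_assoc, h2]
        rw [h1]
        exact X.mul_mem (X.zpow_mem hcX _) hqu
      have huv : u * v = v * u := huQ v h.sd.gq.v_mem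
      have hvu1 : v * u ≠ 1 ∧ v * u ≠ z := by
        have aux : ∀ q ∈ Q, v * u = q → False := by
          intro q hq heq
          apply huM
          have h1 : u = v⁻¹ * q := by rw [← heq]; group
          rw [h1]
          exact h.Q_le_M (Q.mul_mem (Q.inv_mem h.sd.gq.v_mem) hq)
        exact ⟨fun h1 => aux 1 Q.one_mem h1, fun h1 => aux z h.sd.gq.z_mem h1⟩
      refine ⟨v * u, hvX, ?_, hvu1.1, ?_⟩
      · calc v * u * (v * u) = v * (u * v) * u := by group
          _ = (v * v) * (u * u) := by rw [huv]; group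
          _ = 1 := by rw [h.sd.gq.v_sq, huu, hzz]
      · intro h1
        refine h.noW _ h1 hvu1.2 (h.z_cen (S.mul_mem h.v_mem huS)) v h.sd.gq.v_mem h.sd.gq.v_sq ?_
        rw [mul_assoc, huv]
  obtain ⟨P, hP⟩ := hS.exists_sylow
  have hMP : h.M.subgroupOf X ≤ (P : Subgroup X) := by
    rw [hP]
    intro x hx
    rw [mem_subgroupOf] at hx ⊢
    exact ⟨h.M_le hx, x.2⟩
  have hind : (h.M.subgroupOf X).relIndex (P : Subgroup X) = 2 := by
    rw [hP, relIndex, Subgroup.index_eq_two_iff]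
    refine ⟨⟨⟨s, hsX⟩, ?_⟩, fun b => ?_⟩
    · rw [mem_subgroupOf]; exact ⟨hsS, hsX⟩
    have hbS : ((b : X) : G) ∈ S := by
      have := b.2
      rw [mem_subgroupOf] at this
      exact this.1
    change Xor (((b : X) : G) * s ∈ h.M) (((b : X) : G) ∈ h.M)
    by_cases hb : ((b : X) : G) ∈ h.M
    · refine Or.inr ⟨hb, fun h2 => hsM ?_⟩
      have := h.M.mul_mem (h.M.inv_mem hb) h2
      simpa using this
    · refine Or.inl ⟨?_, hb⟩
      show ((b : X) : G) * s ∈ h.M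
      obtain ⟨m1, hm1, hb1⟩ := hcos _ hbS hb
      obtain ⟨m2, hm2, hb2⟩ := hcos s⁻¹ (S.inv_mem hsS) (fun hh => hsM (by simpa using h.M.inv_mem hh))
      have h1 : ((b : X) : G) * s = m1 * m2⁻¹ := by
        have h2 : s = u⁻¹ * m2⁻¹ := by rw [← inv_inv s, hb2]; group
        rw [hb1, h2]; group
      rw [h1]
      exact h.M.mul_mem hm1 (h.M.inv_mem hm2)
  rcases Cfsg.Agent.Transfer.ThompsonTransfer.thompson_transfer P (h.M.subgroupOf X) hMP hind ⟨e, heX⟩
    (by rw [pow_two]; exact Subtype.ext hee) with ⟨N, -, hN, -⟩ | ⟨g, hg⟩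
  · exact hidx N hN
  · apply heZ
    rw [mem_subgroupOf] at hg
    have hg' : (g : G) * e * (g : G)⁻¹ ∈ h.M := hg
    have h2 : (g : G) * e * (g : G)⁻¹ ∈ ZZ := by
      apply h.M_invol hg'
      · calc (g : G) * e * (g : G)⁻¹ * (g * e * (g : G)⁻¹) = g * (e * e) * (g : G)⁻¹ := by group
          _ = 1 := by rw [hee]; group
      · intro h2
        apply he1
        calc e = (g : G)⁻¹ * (g * e * (g : G)⁻¹) * g := by group
          _ = 1 := by rw [h2]; group
    have h3 := h.conj _ h2 (g : G)⁻¹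
    have h4 : (g : G)⁻¹ * (g * e * (g : G)⁻¹) * (g : G)⁻¹⁻¹ = e := by group
    rwa [h4] at h3

/-- **the Sylow 2-subgroups of `X`** -/
theorem inf_eq [Finite G] (h : SP ZZ S Q c v z t w' n) {X : Subgroup G} (hX : X.Normal)
    (hS : Syl (S ⊓ X) X) (hz : z ∈ X) (ht : t ∈ X) (hidx : ∀ H : Subgroup X, H.index ≠ 2) :
    S ⊓ X = h.M ∨ S ⊓ X = DD h := by
  have hcX := c_mem_X h hX ht
  have hle := inf_le_M h hX hS hz ht hidx
  by_cases hv : v ∈ X
  · left
    refine le_antisymm hle (le_inf h.M_le ?_)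
    have hQX : Q ≤ X := by
      intro q hq
      rcases OneEndW.cov' h.sd.gq q hq with ⟨i, rfl⟩ | ⟨i, rfl⟩
      · exact X.zpow_mem hcX i
      · exact X.mul_mem hv (X.zpow_mem hcX i)
    rintro g ⟨q, hq, rfl | rfl⟩
    · exact hQX hq
    · exact X.mul_mem (hQX hq) ht
  · right
    have aux : ∀ i : ℤ, v * c ^ i ∉ X := by
      intro i hi
      apply hv
      have := X.mul_mem hi (X.inv_mem (X.zpow_mem hcX i))
      rwa [mul_inv_cancel_right] at this
    apply le_antisymm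
    · intro g hg
      obtain ⟨q, hq, h1⟩ := hle hg
      rcases OneEndW.cov' h.sd.gq q hq with ⟨i, rfl⟩ | ⟨i, rfl⟩
      · exact ⟨i, h1⟩
      · exfalso
        apply aux i
        rcases h1 with rfl | rfl
        · exact hg.2
        · have := X.mul_mem hg.2 (X.inv_mem ht)
          rwa [mul_inv_cancel_right] at this
    · rintro g ⟨i, rfl | rfl⟩
      · exact ⟨S.zpow_mem h.c_mem i, X.zpow_mem hcX i⟩
      · exact ⟨S.mul_mem (S.zpow_mem h.c_mem i) h.t_mem, X.mul_mem (X.zpow_mem hcX i) ht⟩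

/-- `v⁻¹` interchanges `t` and `c t` -/
theorem v_swap (h : SP ZZ S Q c v z t w' n) : v⁻¹ * t * v = c * t := by
  calc v⁻¹ * t * v = v⁻¹ * (t * v * t⁻¹) * t := by group
    _ = c * t := by rw [h.sd.yv]; group

end

/-! ### From the hypotheses of the theorem -/

section glue

variable [Finite G] {Om : Set (Subgroup G)}

/-- the data `SP` from `Field` and `F = 1` -/
theorem exists_sp_top (h : One Om) (hf : Ker.Field Om) (hF : FOne Om) (hp : HPair Om) (hW : ¬ HW Om) :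
    ∃ (S Q : Subgroup G) (c v z t w' : G) (n : ℕ), Syl S ⊤ ∧
      SP {x | ∃ K ∈ Om, x = zz K} S Q c v z t w' n := by
  have : Fact (Nat.Prime 2) := ⟨Nat.prime_two⟩
  have hnoW : ∀ K ∈ Om, ∀ L ∈ Om, K ≠ L → zz K * zz L = zz L * zz K → ∀ u ∈ K, u * u = zz K →
      u * zz L ≠ zz L * u := fun K hK L hL hne hc u hu huu hut => hW ⟨K, hK, L, hL, hne, hc, u, hu, huu, hut⟩
  obtain ⟨K, hK, L, hL, hne, hc⟩ := hp
  obtain ⟨T, Q, Q', S1, -, f⟩ := OneEndGlue.exists_fr h hK hL hne hc (IsPGroup.of_bot (p := 2)) bot_le bot_le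
  obtain ⟨x, y, x', y', n, co⟩ := f.pair.exists_co h
  have hSD : (∀ u ∈ Q, u * zz L = zz L * u → u = 1 ∨ u = zz K) ∧
      (∀ u ∈ Q', u * zz K = zz K * u → u = 1 ∨ u = zz L) := by
    rcases co.dich h with ⟨h1, h2⟩ | h1
    · exfalso
      exact hnoW K hK L hL hne hc _ (f.pair.hQ.1 (Q.pow_mem co.gq.c_mem (2 ^ n))) co.gq.w_sq (co.w_comm h2)
    · exact h1
  obtain ⟨c, v, w', n', sp⟩ := OneEndSD.exists_sp f h hSD.1 hSD.2 hf hF.pair hnoW
  exact ⟨_, _, _, _, _, _, _, _, OneEndGlue.Fr.syl_top h hK f.hS, sp⟩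

/-- the data `SP` of the subgroup `N` in the group `G` -/
theorem sp_map (h : Hyp Om) {N : Subgroup G} (hN : ∀ K ∈ Om, K ≤ N) {S Q : Subgroup N} {c v z t w' : N} {n : ℕ}
    (sp : SP {x | ∃ K ∈ restr Om N, x = zz K} S Q c v z t w' n) :
    SP {x | ∃ K ∈ Om, x = zz K} (S.map N.subtype) (Q.map N.subtype) (c : G) (v : G) (z : G) (t : G) (w' : G)
      n := by
  have key : ∀ a b : N, a = b → (a : G) = b := fun a b h => congrArg Subtype.val h
  have hZ : ∀ x : N, (∃ K ∈ restr Om N, x = zz K) → ∃ K ∈ Om, (x : G) = zz K := by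
    rintro x ⟨K, hK, rfl⟩
    exact ⟨_, hK, zz_map h hK⟩
  refine ⟨sp.two.map _, ⟨gq_map N.subtype N.subtype_injective sp.sd.gq, key _ _ sp.sd.sq, key _ _ sp.sd.yc,
    key _ _ sp.sd.yv⟩, Subgroup.map_mono sp.Q_le, ?_, ⟨t, sp.t_mem, rfl⟩, ?_, key _ _ sp.w'_z, key _ _ sp.w'_t, ?_,
    ?_, hZ t sp.t_ZZ, hZ z sp.z_ZZ, ?_, ?_⟩
  · rintro _ ⟨s, hs, rfl⟩ _ ⟨q, hq, rfl⟩
    exact ⟨_, sp.nor s hs q hq, rfl⟩
  · rintro _ ⟨p, hp, rfl⟩ hpt hpQ
    rcases sp.cen p hp (Subtype.ext hpt) (fun x hx => Subtype.ext (hpQ _ ⟨x, hx, rfl⟩)) with h1 | h1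
    · left; rw [h1]; rfl
    · right; rw [h1]; rfl
  · rintro _ ⟨s, hs, rfl⟩ hst
    rcases sp.T_w' s hs (Subtype.ext hst) with h1 | h1
    · exact Or.inl (key _ _ h1)
    · exact Or.inr (key _ _ h1)
  · rintro x ⟨K, hK, rfl⟩ g
    exact ⟨cj g K, h.conj K hK g, (h.zz_cj hK g).symm⟩
  · rintro _ ⟨K, hK, rfl⟩ hne hcomm _ ⟨q, hq, rfl⟩ hqq hc
    have hK' := subgroupOf_mem_restr hK (hN K hK)
    have e1 : ((zz (K.subgroupOf N) : N) : G) = zz K := by
      rw [zz_map h hK', map_subgroupOf_eq_of_le (hN K hK)]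
    refine sp.noW (zz (K.subgroupOf N)) ⟨_, hK', rfl⟩ ?_ (Subtype.ext ?_) q hq (Subtype.ext hqq) (Subtype.ext ?_)
    · intro hh
      apply hne
      rw [← e1, hh]
    · show ((zz (K.subgroupOf N) : N) : G) * z = z * ((zz (K.subgroupOf N) : N) : G)
      rw [e1]; exact hcomm
    · show (q : G) * ((zz (K.subgroupOf N) : N) : G) = ((zz (K.subgroupOf N) : N) : G) * q
      rw [e1]; exact hc
  · rintro _ ⟨s, hs, rfl⟩
    rcases sp.cov s hs with ⟨q, hq, h1⟩ | ⟨q, hq, h1⟩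
    · refine Or.inl ⟨_, ⟨q, hq, rfl⟩, ?_⟩
      rintro _ ⟨u, hu, rfl⟩
      exact key _ _ (h1 u hu)
    · refine Or.inr ⟨_, ⟨q, hq, rfl⟩, ?_⟩
      rintro _ ⟨u, hu, rfl⟩
      exact key _ _ (h1 u hu)

/-- a subgroup without subgroups of index 2 lies in every normal subgroup of 2-power index -/
theorem le_of_index {X N : Subgroup G} (hidx : ∀ H : Subgroup X, H.index ≠ 2) (hN : N.Normal) {k : ℕ}
    (hk : N.index = 2 ^ k) : X ≤ N := by
  rw [← relIndex_eq_one]
  have h1 : N.relIndex X ∣ N.index := relIndex_dvd_index_of_normal N X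
  rw [hk, Nat.dvd_prime_pow Nat.prime_two] at h1
  obtain ⟨j, -, hj⟩ := h1
  have h2 := OneFieldPsi.index_eq_one hidx (N.subgroupOf X) (hN.comap X.subtype) j hj
  rw [hj, h2, pow_zero]

/-- the dihedral case: `v⁻¹` interchanges the reflections `t` and `c t` -/
structure Dih (X : Subgroup G) (S : Subgroup G) (n : ℕ) (c t v : G) : Prop where
  syl : Syl S X
  mem : ∀ g, g ∈ S ↔ ∃ i : ℤ, g = c ^ i ∨ g = c ^ i * t
  ord : orderOf c = 2 ^ (n + 2)
  sq : t * t = 1
  ne : t ≠ 1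
  inv : t * c * t⁻¹ = c⁻¹
  swap : v⁻¹ * t * v = c * t
  v_c : v * c * v⁻¹ = c⁻¹
  equiv : Nonempty (S ≃* DihedralGroup (2 ^ (n + 2)))

/-- **no pair of type `W`**: the Sylow 2-subgroups of `X` are semidihedral or dihedral -/
theorem main (h : One Om) (hF : FOne Om) (hp : HPair Om) (hW : ¬ HW Om) {X : Subgroup G} (hX : X.Normal)
    (hZX : ∀ K ∈ Om, zz K ∈ X) (hidx : ∀ H : Subgroup X, H.index ≠ 2) :
    (∃ S : Subgroup G, Syl S X ∧ Cfsg.IsQuasiDihedral S) ∨
      ∃ (S : Subgroup G) (n : ℕ) (c t v : G), Dih X S n c t v := by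
  obtain ⟨N, hN, ⟨k, hk⟩, hKN, hfN⟩ := exists_ker h
  obtain ⟨S, Q, c, v, z, t, w', n, hS, sp⟩ := exists_sp_top (one_restr h N) (field_restr h hfN)
    (fOne_restr h hF N) (hPair_restr h hKN hp) (fun hh => hW (hW_of_restr h.hyp hh))
  have sp' := sp_map h.hyp hKN sp
  have hXN : X ≤ N := le_of_index hidx hN hk
  have hSN : Syl (S.map N.subtype) N := by
    have h1 := syl_map.2 hS
    have h2 : (⊤ : Subgroup N).map N.subtype = N := by
      rw [← MonoidHom.range_eq_map, N.range_subtype]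
    rwa [h2] at h1
  have hSX : Syl (S.map N.subtype ⊓ X) X := syl_inf_normal hSN hXN
    (le_top.trans (normalizer_eq_top_iff.2 hX).ge)
  obtain ⟨K, hK, hzK⟩ := sp'.z_ZZ
  obtain ⟨L, hL, htL⟩ := sp'.t_ZZ
  have hz : (z : G) ∈ X := by rw [hzK]; exact hZX K hK
  have ht : (t : G) ∈ X := by rw [htL]; exact hZX L hL
  rcases inf_eq sp' hX hSX hz ht hidx with h1 | h1
  · left
    exact ⟨_, by rw [← h1]; exact hSX, qd_M sp'⟩
  · right
    refine ⟨DD sp', n, c, t, v, ?_, fun g => Iff.rfl, sp'.sd.gq.ord, sp'.sd.sq, sp'.t_ne, sp'.sd.yc, v_swap sp',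
      sp'.sd.gq.conj, dd_equiv sp'⟩
    rw [← h1]; exact hSX

end glue

end Cfsg.Agent.Cit.Nil.SdEnd
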