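import Cfsg.Agent.Cit.Nil.VLemma

/-!
# (6b), `n = 1`: an SD involution inverting `w` does not centralise `r ∈ RW w`

Adapted from `OneF.star_ne`, which uses `RR` only through one element `w`.
-/

set_option autoImplicit false
set_option linter.style.haveILetI false
set_option linter.unusedSectionVars false

namespace Cfsg.Agent.Cit.Nil

open Subgroup Cfsg Cit OneBasic OneF OPair

variable {G : Type*} [Group G] [Finite G] {Om : Set (Subgroup G)} {K L M Q T : Subgroup G}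
  {r r1 x y b t c v : G} {n : ℕ}

/-- **(*) (a)** -/
theorem star_ne (h : One Om) (hK : K ∈ Om) (hL : L ∈ Om) (hQ : Syl Q K)
    (htQ : zz L ∈ normalizer (Q : Set G)) (htz : zz K * zz L = zz L * zz K)
    (hS : ∀ u ∈ Q, u * u = zz K → u * zz L ≠ zz L * u) (hgq : GQ Q x y (zz K) n)
    (htx0 : zz L * x * (zz L)⁻¹ ∈ zpowers x) (hr : RW Om K Q (x ^ 2 ^ n) r) : r * zz L ≠ zz L * r := by
  intro hrt
  have hzz := h.hyp.zz_mul hK
  have hz1 := h.hyp.zz_ne hK
  have ht2 := h.hyp.zz_mul hL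
  have htp : IsPGroup 2 (zpowers (zz L)) := isPGroup_zpowers_zz h.hyp hL
  obtain ⟨htx, i, hi, hty⟩ := sd_structure hzz hgq htQ htx0 ht2 htz.symm hS
  obtain ⟨w, hw⟩ : ∃ w, w = x ^ 2 ^ n := ⟨_, rfl⟩
  have hw2 : w * w = zz K := by rw [hw]; exact hgq.w_sq
  have hwQ : w ∈ Q := by rw [hw]; exact Q.pow_mem hgq.c_mem _
  have hzQ : zz K ∈ Q := hgq.z_mem
  have hyQ : y ∈ Q := hgq.v_mem
  have hxQ : x ∈ Q := hgq.c_mem
  have hwinv : w⁻¹ = zz K * w := inv_of_sq hw2 hzz
  have htw : zz L * w * (zz L)⁻¹ = w⁻¹ := by rw [hw, ← _root_.conj_pow, htx, inv_pow]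
  have hyw : y * w * y⁻¹ = w⁻¹ := by rw [hw, ← _root_.conj_pow, hgq.conj, inv_pow]
  have hww : w⁻¹ ≠ w := by
    intro hh
    rw [hwinv] at hh
    exact hz1 (by simpa using hh)
  obtain ⟨M, hM, hMz⟩ := hr.mem
  rw [← hw] at hMz
  have hrz : r * zz K = zz K * r := hr.cent _ hzQ
  have htr : zz L * r * (zz L)⁻¹ = r := by rw [← hrt, mul_inv_cancel_right]
  have htt1 : zz L * zz M * (zz L)⁻¹ = zz K * zz M := by
    rw [hMz]
    calc zz L * (w * r) * (zz L)⁻¹ = (zz L * w * (zz L)⁻¹) * (zz L * r * (zz L)⁻¹) := by group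
      _ = zz K * (w * r) := by rw [htw, htr, hwinv]; group
  have hyr : y * r * y⁻¹ = r := by rw [← hr.cent y hyQ, mul_inv_cancel_right]
  have hyt1 : y * zz M * y⁻¹ = zz K * zz M := by
    rw [hMz]
    calc y * (w * r) * y⁻¹ = (y * w * y⁻¹) * (y * r * y⁻¹) := by group
      _ = zz K * (w * r) := by rw [hyw, hyr, hwinv]; group
  have hMK : K ≠ M := by
    intro hh
    rw [← hh] at htt1
    rw [← htz, mul_inv_cancel_right] at htt1
    exact hz1 (by simpa using htt1)
  have hzw : zz K * w = w * zz K := (sq_comm hw2).symm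
  have hcomm : zz K * zz M = zz M * zz K := by
    rw [hMz]
    calc zz K * (w * r) = (zz K * w) * r := by group
      _ = w * (zz K * r) := by rw [hzw]; group
      _ = w * r * zz K := by rw [← hrz]; group
  have hxt1 : x * zz M = zz M * x := by
    have hxw : x * w = w * x := by rw [hw]; exact ((Commute.refl x).pow_right _).eq
    rw [hMz]
    calc x * (w * r) = (x * w) * r := by group
      _ = w * (x * r) := by rw [hxw]; group
      _ = w * r * x := by rw [← hr.cent x hxQ]; group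
  -- the group `P1 = C(z) ∩ C(t1)`
  obtain ⟨P1, hP1⟩ : ∃ P1, P1 = (centralizer {zz K} ⊓ centralizer {zz M} : Subgroup G) := ⟨_, rfl⟩
  have hP1' : P1 = normalizer (K : Set G) ⊓ normalizer (M : Set G) := by
    rw [hP1, h.centralizer_zz hK, h.centralizer_zz hM]
  have hnK : ∀ g, g * zz K = zz K * g → g * zz K * g⁻¹ = zz K := fun g hg => by
    rw [hg, mul_inv_cancel_right]
  have hxz : x * zz K = zz K * x := h.hyp.comm_zz hK (le_normalizer (hQ.1 hxQ))
  have hyz : y * zz K = zz K * y := h.hyp.comm_zz hK (le_normalizer (hQ.1 hyQ))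
  have hAp : IsPGroup 2 (zpowers (zz L) ⊔ Q : Subgroup G) :=
    isPGroup_sup_of_normalizes htp hQ.2.1 (zpowers_le.2 htQ)
  have hAP : zpowers (zz L) ⊔ Q ≤ normalizer (P1 : Set G) := by
    rw [hP1, sup_le_iff, zpowers_le]
    refine ⟨mem_normalizer_cent (hnK _ htz.symm) (Or.inr htt1), ?_⟩
    refine hgq.le_of_mem (q := y) ?_ hyQ hgq.v_not_mem ?_
    · exact mem_normalizer_cent (hnK _ hxz) (Or.inl (by rw [hxt1, mul_inv_cancel_right]))
    · exact mem_normalizer_cent (hnK _ hyz) (Or.inr hyt1)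
  obtain ⟨R, hR, hAR, hRA, hSyl⟩ := exists_two_sup hAp hAP
  have hQR : Q ≤ R := le_sup_right.trans hAR
  have htR : zz L ∈ R := hAR (mem_sup_left (mem_zpowers _))
  have hRP1 : R ≤ normalizer (P1 : Set G) := hRA.trans (sup_le hAP le_normalizer)
  have htK : zz L ∈ normalizer (K : Set G) := h.mem_normalizer hK htz.symm
  have hRK : R ≤ normalizer (K : Set G) := by
    refine hRA.trans (sup_le (sup_le (zpowers_le.2 htK) (hQ.1.trans le_normalizer)) ?_)
    rw [hP1']; exact inf_le_left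
  have hKR : K ⊓ R = Q := (syl_eq_of_le hQ (hR.to_le inf_le_right) inf_le_left (le_inf hQ.1 hQR)).symm
  have hRQ : R ≤ normalizer (Q : Set G) := by
    intro a ha
    rw [mem_normalizer_iff_cj, ← hKR, cj_inf, mem_normalizer_iff_cj.1 (hRK ha),
      mem_normalizer_iff_cj.1 (le_normalizer ha)]
  obtain ⟨T1, hT1⟩ : ∃ T1, T1 = P1 ⊓ R := ⟨_, rfl⟩
  rw [← hT1] at hSyl
  have hT1R : T1 ≤ R := by rw [hT1]; exact inf_le_right
  have hT1P : T1 ≤ P1 := by rw [hT1]; exact inf_le_left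
  have hRT1 : ∀ a ∈ R, cj a T1 = T1 := by
    intro a ha
    rw [hT1, cj_inf, mem_normalizer_iff_cj.1 (hRP1 ha), mem_normalizer_iff_cj.1 (le_normalizer ha)]
  have hT1M : T1 ≤ normalizer (M : Set G) := hT1P.trans (by rw [hP1']; exact inf_le_right)
  obtain ⟨Q', hQ', hT1Q'⟩ := exists_syl_normalized hSyl.2.1 hT1M
  have p : OPair Om K M T1 Q Q' :=
    ⟨hK, hM, hMK, hcomm, hQ, hQ', by rw [← hP1']; exact hSyl, hT1R.trans hRQ, hT1Q'⟩
  obtain ⟨x1, y1, x', y', n1, c1⟩ := p.exists_co h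
  have hnn : n1 = n := by
    have h1 := c1.gq.card
    rw [hgq.card] at h1
    have := Nat.pow_right_injective (le_refl 2) h1
    omega
  subst hnn
  have hcw : ∀ u ∈ Q, u * zz M = zz M * u → u ∈ zpowers x := by
    intro u hu hut
    have huw : u * w = w * u := by
      have h1 : u * w * r = w * u * r := by
        calc u * w * r = u * (w * r) := by group
          _ = (w * r) * u := by rw [← hMz, hut]
          _ = w * (r * u) := by group
          _ = w * u * r := by rw [hr.cent u hu]; group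
      exact mul_right_cancel h1
    rcases hgq.covZ hu with h1 | ⟨j, rfl⟩
    · exact h1
    · exfalso
      apply hww
      have hjw : x ^ j * w = w * x ^ j := by
        rw [hw, ← zpow_natCast]; exact ((Commute.refl x).zpow_zpow j _).eq
      have h2 : w⁻¹ * (y * x ^ j) = w * (y * x ^ j) := by
        calc w⁻¹ * (y * x ^ j) = (y * w * y⁻¹) * (y * x ^ j) := by rw [hyw]
          _ = y * (w * x ^ j) := by group
          _ = (y * x ^ j) * w := by rw [← hjw]; group
          _ = w * (y * x ^ j) := huw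
      exact mul_right_cancel h2
  have hinvx : ∀ a ∈ T1, a * x * a⁻¹ ∈ zpowers x := by
    intro a ha
    refine hcw _ (conj_mem_of (hRQ (hT1R ha)) hxQ) ?_
    have hat := p.tt h ha
    calc a * x * a⁻¹ * zz M = a * x * a⁻¹ * (zz M * a) * a⁻¹ := by group
      _ = a * x * a⁻¹ * (a * zz M) * a⁻¹ := by rw [hat]
      _ = a * (x * zz M) * a⁻¹ := by group
      _ = (a * zz M) * x * a⁻¹ := by rw [hxt1]; group
      _ = zz M * (a * x * a⁻¹) := by rw [hat]; group
  have c : Co Om K M T1 Q Q' x y x' y' n1 := ⟨p, hgq, c1.gq', hinvx, c1.inv'⟩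
  have hwt1 : w * zz M = zz M * w := by
    rw [hMz]
    calc w * (w * r) = w * (r * w) := by rw [hr.cent w hwQ]
      _ = w * r * w := by group
  have hW : zz K * x' = x' * zz K ∧ zz M * x = x * zz M := by
    rcases c.dich h with h1 | h1
    · exact h1
    · exfalso
      rcases h1.1 w hwQ hwt1 with h2 | h2
      · rw [h2, one_mul] at hw2; exact hz1 hw2.symm
      · rw [h2, hzz] at hw2; exact hz1 hw2.symm
  have hx'T : x' ∈ T1 := p.symm.mem_T h c.gq'.c_mem hW.1.symm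
  have hxT : x ∈ T1 := p.mem_T h hxQ hxt1
  have hyR : y ∈ R := hQR hyQ
  -- `g = t y⁻¹`
  obtain ⟨g, hg⟩ : ∃ g, g = zz L * y⁻¹ := ⟨_, rfl⟩
  have hgx : g * x = x * g := by
    have h1 : y⁻¹ * x = x⁻¹ * y⁻¹ := by
      have h0 : y * x⁻¹ * y⁻¹ = x := by
        calc y * x⁻¹ * y⁻¹ = (y * x * y⁻¹)⁻¹ := by group
          _ = x := by rw [hgq.conj, inv_inv]
      calc y⁻¹ * x = y⁻¹ * (y * x⁻¹ * y⁻¹) := by rw [h0]
        _ = x⁻¹ * y⁻¹ := by group
    have h2 : zz L * x⁻¹ = x * zz L := by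
      have h3 : zz L * x⁻¹ * (zz L)⁻¹ = x := by
        calc zz L * x⁻¹ * (zz L)⁻¹ = (zz L * x * (zz L)⁻¹)⁻¹ := by group
          _ = x := by rw [htx, inv_inv]
      rwa [mul_inv_eq_iff_eq_mul] at h3
    rw [hg]
    calc zz L * y⁻¹ * x = zz L * (y⁻¹ * x) := by group
      _ = (zz L * x⁻¹) * y⁻¹ := by rw [h1]; group
      _ = x * (zz L * y⁻¹) := by rw [h2]; group
  have hgy : g * y * g⁻¹ = y * x ^ i := by
    rw [hg, ← hty]; group
  have hgt1 : g * zz M * g⁻¹ = zz M := by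
    have h1 : y⁻¹ * zz M * y = zz K * zz M := by
      have h2 : zz M = y⁻¹ * (zz K * zz M) * y := by rw [← hyt1]; group
      have h3 : zz K * zz M = zz K * (y⁻¹ * (zz K * zz M) * y) := by rw [← h2]
      have h4 : zz K * y⁻¹ = y⁻¹ * zz K := by
        rw [eq_inv_mul_iff_mul_eq, ← mul_assoc, hyz, mul_inv_cancel_right]
      rw [h3]
      calc y⁻¹ * zz M * y = y⁻¹ * ((zz K * zz K) * zz M) * y := by rw [hzz, one_mul]
        _ = (y⁻¹ * zz K) * (zz K * zz M) * y := by group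
        _ = zz K * (y⁻¹ * (zz K * zz M) * y) := by rw [← h4]; group
    rw [hg]
    calc zz L * y⁻¹ * zz M * (zz L * y⁻¹)⁻¹ = zz L * (y⁻¹ * zz M * y) * (zz L)⁻¹ := by group
      _ = (zz L * zz K * (zz L)⁻¹) * (zz L * zz M * (zz L)⁻¹) := by rw [h1]; group
      _ = zz K * (zz K * zz M) := by rw [htt1, ← htz, mul_inv_cancel_right]
      _ = zz M := by rw [← mul_assoc, hzz, one_mul]
  have hgR : g ∈ R := by rw [hg]; exact R.mul_mem htR (R.inv_mem hyR)
  have hgT : g ∈ T1 := by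
    rw [hT1, hP1']
    refine ⟨⟨hRK hgR, h.mem_normalizer hM ?_⟩, hgR⟩
    rwa [mul_inv_eq_iff_eq_mul] at hgt1
  have ag : Act x y g i := ⟨hgx, hgy⟩
  obtain ⟨i', hi'⟩ := c.conj_y hx'T
  have ax' : Act x y x' i' := ⟨(p.commute_R h hxQ hxT c.gq'.c_mem hx'T).symm, hi'⟩
  have hi'o : Odd i' := by
    refine ax'.odd hgq ?_
    rw [c.gq'.z_eq]
    exact c.t_y h hW.2
  -- `g = x'^j h`
  obtain ⟨j, hj, e, hje⟩ : ∃ j : ℤ, Odd j ∧ ∃ e : ℤ, -j * i' + i = 2 ^ (n1 + 2) * e := by
    have h6 : IsCoprime i' ((2 : ℤ) ^ (n1 + 2)) := by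
      apply IsCoprime.pow_right
      obtain ⟨f, hf⟩ := hi'o
      exact ⟨1, -f, by rw [hf]; ring⟩
    obtain ⟨a, b, hab⟩ := h6
    have h7 : -(a * i) * i' + i = 2 ^ (n1 + 2) * (b * i) := by linear_combination (-i) * hab
    refine ⟨a * i, ?_, b * i, h7⟩
    by_contra hcon
    rw [Int.not_odd_iff_even] at hcon
    obtain ⟨f, hf⟩ := hcon
    obtain ⟨f', hf'⟩ := hi
    rw [hf] at h7
    have h8 : i = 2 * (f * i' + 2 ^ (n1 + 1) * (b * i)) := by
      have : (2 : ℤ) ^ (n1 + 2) = 2 * 2 ^ (n1 + 1) := by rw [pow_succ']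
      rw [this] at h7
      linear_combination h7
    omega
  obtain ⟨q, hq⟩ : ∃ q, q = x' ^ (-j) * g := ⟨_, rfl⟩
  have aq : Act x y q (-j * i' + i) := by rw [hq]; exact (ax'.zpow (-j)).mul ag
  have hqQ : ∀ u ∈ Q, q * u = u * q := by
    refine c.cent_Q aq.1 ?_
    have h1 := aq.2
    have h2 : x ^ (-j * i' + i) = 1 := by
      rw [hgq.zpow_eq_one_iff]; exact ⟨e, hje⟩
    rw [h2, mul_one, mul_inv_eq_iff_eq_mul] at h1
    exact h1
  have hqT : q ∈ T1 := by rw [hq]; exact T1.mul_mem (T1.zpow_mem hx'T _) hgT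
  have hgq' : g = x' ^ j * q := by rw [hq]; group
  -- `x'' = y x' y⁻¹`
  obtain ⟨x2, hx2⟩ : ∃ x2, x2 = y * x' * y⁻¹ := ⟨_, rfl⟩
  have hx2T : x2 ∈ T1 := by
    rw [← hRT1 y hyR, hx2]; exact conj_mem_cj hx'T
  have hyM : zz (cj y M) = zz K * zz M := by rw [h.hyp.zz_cj hM, hyt1]
  have p2 : OPair Om M (cj y M) T1 Q' (cj y Q') := by
    refine ⟨hM, h.hyp.conj M hM y, ?_, ?_, hQ', hQ'.cj y, ?_, hT1Q', ?_⟩
    · intro hh
      rw [← hh] at hyM
      exact hz1 (by simpa using hyM)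
    · rw [hyM]
      calc zz M * (zz K * zz M) = (zz M * zz K) * zz M := by group
        _ = zz K * zz M * zz M := by rw [← hcomm]
    · have h1 : normalizer (M : Set G) ⊓ normalizer ((cj y M : Subgroup G) : Set G) = P1 := by
        rw [← h.centralizer_zz hM, ← h.centralizer_zz (h.hyp.conj M hM y), hyM, hP1]
        ext a
        simp only [mem_inf, mem_centralizer_singleton_iff]
        constructor
        · rintro ⟨h1, h2⟩
          refine ⟨?_, h1⟩
          have h3 : a * zz K * zz M = zz K * a * zz M := by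
            calc a * zz K * zz M = a * (zz K * zz M) := by group
              _ = zz K * (zz M * a) := by rw [h2]; group
              _ = zz K * a * zz M := by rw [← h1]; group
          exact mul_right_cancel h3
        · rintro ⟨h1, h2⟩
          refine ⟨h2, ?_⟩
          calc a * (zz K * zz M) = (a * zz K) * zz M := by group
            _ = zz K * (a * zz M) := by rw [h1]; group
            _ = zz K * zz M * a := by rw [h2]; group
      rw [h1]; exact hSyl
    · intro a ha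
      rw [mem_normalizer_iff_cj, ← cj_mul]
      have h1 : y⁻¹ * a * y ∈ T1 := by
        have h2 := hRT1 y hyR
        rw [← h2] at ha
        exact mem_cj.1 ha
      have h2 : a * y = y * (y⁻¹ * a * y) := by group
      rw [h2, cj_mul, mem_normalizer_iff_cj.1 (hT1Q' h1)]
  have hx2x' : x' * x2 = x2 * x' :=
    p2.commute_R h c.gq'.c_mem hx'T (by rw [hx2]; exact conj_mem_cj c.gq'.c_mem) hx2T
  obtain ⟨l, hl⟩ := c.symm.conj_y hx2T
  have a2 : Act x' y' x2 l := ⟨hx2x'.symm, hl⟩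
  have hzy' : zz K * y' * (zz K)⁻¹ = y' * zz M := c.symm.t_y h hW.1
  have hlo : Odd l := by
    refine a2.odd c.gq' ?_
    have h1 : x2 ^ 2 ^ (n1 + 1) = zz K * zz M := by
      rw [hx2, _root_.conj_pow, c.gq'.z_eq, hyt1]
    have h2 : zz M * y' * (zz M)⁻¹ = y' := by
      rw [← (c.gq'.commute_v_z).eq, mul_inv_cancel_right]
    rw [h1]
    calc zz K * zz M * y' * (zz K * zz M)⁻¹ = zz K * (zz M * y' * (zz M)⁻¹) * (zz K)⁻¹ := by group
      _ = y' * zz M := by rw [h2, hzy']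
  obtain ⟨m, hm⟩ := c.symm.conj_y hqT
  have aqm : Act x' y' q m := ⟨p.cent_R' h hqT hqQ c.gq'.c_mem hx'T, hm⟩
  have az : Act x' y' (zz K) (2 ^ (n1 + 1)) := ⟨hW.1, by rw [hzy', c.gq'.z_zpow]⟩
  -- the equation
  have hyg : y * g * y⁻¹ = x2 ^ j * q := by
    have h1 : y * q * y⁻¹ = q := by rw [← hqQ y hyQ, mul_inv_cancel_right]
    rw [hgq', hx2, conj_zpow]
    calc y * (x' ^ j * q) * y⁻¹ = (y * x' ^ j * y⁻¹) * (y * q * y⁻¹) := by group
      _ = _ := by rw [h1]
  have heq : zz K = x' ^ j * q * (x2 ^ j * q) := by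
    have h1 : g * (y * g * y⁻¹) * (y * y) = 1 := by
      calc g * (y * g * y⁻¹) * (y * y) = (g * y) * (g * y) := by group
        _ = 1 := by rw [hg]; simpa using ht2
    rw [hgq.v_sq, hyg] at h1
    rw [hgq'] at h1
    have h2 := eq_inv_of_mul_eq_one_left h1
    rw [h.hyp.zz_inv hK] at h2
    exact h2.symm
  have atot : Act x' y' (zz K) (-2 * j + m + (j * l + m)) := by
    have h1 := ((Act.of_zpow c.gq' j).mul aqm).mul ((a2.zpow j).mul aqm)
    rw [← heq] at h1
    exact h1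
  have hfin := Act.eq c.gq' atot az
  obtain ⟨f, hf⟩ := hj
  obtain ⟨f', hf'⟩ := hlo
  have h3 : (2 : ℤ) ∣ (-2 * j + m + (j * l + m)) - 2 ^ (n1 + 1) :=
    (dvd_pow_self 2 (by omega)).trans hfin
  have h4 : (-2 * j + m + (j * l + m)) - 2 ^ (n1 + 1)
      = 2 * (-j + m + (2 * f * f' + f + f') - 2 ^ n1) + 1 := by
    rw [hf, hf', pow_succ]; ring
  rw [h4] at h3
  omega

end Cfsg.Agent.Cit.Nil
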