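import Cfsg.Agent.Cit.Nil.IndDefs
import Cfsg.Agent.Cit.Nil.RG.Leaf
import Cfsg.Agent.Cit.Nil.RG.EndS
import Cfsg.Agent.Cit.Nil.RFour.Leaf
import Cfsg.Agent.Cit.Nil.RTwo.World

/-!
# S1309, (C3): everything outside of the frame

`T'` (`IndDefs.TStat`) for `G` itself gives `m = 1` for every `r`:

* `mem_comp_of_fsimp` : `F*(G)` simple: the non-commuting graph of an invariant family is connected;
* `pCore_eq_bot` : `O_2(G) = 1`;
* `mone_of_tstat` : `W3 G K`, core-free, `T'` for `(G, cls K)` : commuting members have the same involution;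
* **`c3Free_of`** : `AssemblyNil.C3Free` from `T'` for all groups, `LIn` and `RTwo.LeafR2One`.
-/

set_option autoImplicit false
set_option linter.style.haveILetI false

namespace Cfsg.Agent.Cit.Nil.Top

open Subgroup Cfsg Cfsg.Agent.Cit
open Cfsg.Agent.Cit.Nil.ROne (FSimp)
open Cfsg.Agent.Cit.Nil.IndDefs

universe u

variable {G : Type*} [Group G] {Om : Set (Subgroup G)} {K L M X : Subgroup G}

/-- the subgroup generated by the members of the component of `K` -/
def BB (Om : Set (Subgroup G)) (K : Subgroup G) : Subgroup G := closure {x | ∃ L ∈ comp Om K, x ∈ L}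

theorem le_BB (hL : L ∈ comp Om K) : L ≤ BB Om K := fun _ hx => subset_closure ⟨L, hL, hx⟩

/-- `⟨Om⟩` -/
def UU (Om : Set (Subgroup G)) : Subgroup G := closure {x | ∃ L ∈ Om, x ∈ L}

theorem le_UU (hL : L ∈ Om) : L ≤ UU Om := fun _ hx => subset_closure ⟨L, hL, hx⟩

theorem conj_mem_UU (hc : ∀ K ∈ Om, ∀ g, cj g K ∈ Om) (g : G) {x : G} (hx : x ∈ UU Om) : g * x * g⁻¹ ∈ UU Om := by
  have h1 : UU Om ≤ (UU Om).comap (MulAut.conj g).toMonoidHom := by
    rw [UU, closure_le]
    rintro x ⟨L, hL, hx⟩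
    exact le_UU (hc L hL g) (conj_mem_cj hx)
  exact h1 hx

/-- a member outside of the component commutes with the members of the component -/
theorem comm_of_not_mem (hL : L ∈ comp Om K) (hLO : L ∈ Om) (hM : M ∈ Om) (hn : M ∉ comp Om K) : Cm L M := by
  by_contra h
  exact hn (mem_comp_of hL ⟨hLO, hM, h⟩)

/-- members normalise the groups generated by the components -/
theorem conj_mem_BB (hK : K ∈ Om) {g x : G} (hg : g ∈ UU Om) (hx : x ∈ BB Om K) : g * x * g⁻¹ ∈ BB Om K := by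
  have key : UU Om ≤ normalizer (BB Om K : Set G) := by
    rw [UU, closure_le]
    rintro y ⟨M, hM, hy⟩
    by_cases hn : M ∈ comp Om K
    · exact le_normalizer (le_BB hn hy)
    · have h1 : BB Om K ≤ centralizer {y} := by
        rw [BB, closure_le]
        rintro x ⟨L, hL, hx⟩
        rw [SetLike.mem_coe, mem_centralizer_singleton_iff]
        exact comm_of_not_mem hL (comp_sub hK hL) hM hn x hx y hy
      rw [SetLike.mem_coe, mem_normalizer_iff]
      intro x
      constructor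
      · intro hx
        have h2 := mem_centralizer_singleton_iff.1 (h1 hx)
        rw [← h2, mul_inv_cancel_right]
        exact hx
      · intro hx
        have h2 := mem_centralizer_singleton_iff.1 (h1 hx)
        have h3 : x = y * x * y⁻¹ := by
          calc x = y⁻¹ * (y * x * y⁻¹ * y) := by group
            _ = y⁻¹ * (y * (y * x * y⁻¹)) := by rw [h2]
            _ = _ := by group
        rw [h3]
        exact hx
  exact (mem_normalizer_iff.1 (key hg) x).1 hx

theorem BB_comm (hK : K ∈ Om) (hM : M ∈ Om) (hn : M ∉ comp Om K) {x y : G} (hx : x ∈ BB Om K) (hy : y ∈ BB Om M) :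
    x * y = y * x := by
  have h1 : BB Om K ≤ centralizer (BB Om M : Set G) := by
    rw [BB, closure_le]
    rintro x ⟨L, hL, hx⟩
    rw [SetLike.mem_coe, mem_centralizer_iff]
    intro b hb
    have h3 : BB Om M ≤ centralizer {x} := by
      rw [BB, closure_le]
      rintro y ⟨N, hN, hy⟩
      rw [SetLike.mem_coe, mem_centralizer_singleton_iff]
      have h4 : N ∉ comp Om K := fun h5 => hn (comp_trans h5 (comp_symm hN))
      exact (comm_of_not_mem hL (comp_sub hK hL) (comp_sub hM hN) h4 x hx y hy).symm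
    exact mem_centralizer_singleton_iff.1 (h3 hb)
  exact (mem_centralizer_iff.1 (h1 hx) y hy).symm

/-- **`F*(G)` simple: the non-commuting graph is connected** -/
theorem mem_comp_of_fsimp (f : FSimp X) (hc : ∀ K ∈ Om, ∀ g, cj g K ∈ Om) (hne : ∀ K ∈ Om, K ≠ ⊥)
    (hK : K ∈ Om) (hM : M ∈ Om) : M ∈ comp Om K := by
  by_contra hn
  have hle : ∀ L ∈ Om, X ≤ BB Om L := by
    intro L hL
    have h1 : X ≤ UU Om := by
      refine f.le (fun g _ n hn => conj_mem_UU hc g hn) fun h2 => hne L hL ?_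
      rw [eq_bot_iff, ← h2]
      exact le_UU hL
    refine f.le (fun g hg n hn => conj_mem_BB hL (h1 hg) hn) fun h2 => hne L hL ?_
    rw [eq_bot_iff, ← h2]
    exact le_BB mem_comp_self
  exact f.na fun x hx y hy => BB_comm hK hM hn (hle K hK hx) (hle M hM hy)

theorem le_UU_of_fsimp (f : FSimp X) (hc : ∀ K ∈ Om, ∀ g, cj g K ∈ Om) (hK : K ∈ Om) (hne : K ≠ ⊥) : X ≤ UU Om := by
  refine f.le (fun g _ n hn => conj_mem_UU hc g hn) fun h2 => hne ?_
  rw [eq_bot_iff, ← h2]
  exact le_UU hK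

/-- an element centralising all members is trivial -/
theorem eq_one_of_cent (f : FSimp X) (hc : ∀ K ∈ Om, ∀ g, cj g K ∈ Om) (hK : K ∈ Om) (hne : K ≠ ⊥) {c : G}
    (h : ∀ L ∈ Om, ∀ x ∈ L, c * x = x * c) : c = 1 := by
  have h1 : UU Om ≤ centralizer {c} := by
    rw [UU, closure_le]
    rintro x ⟨L, hL, hx⟩
    rw [SetLike.mem_coe, mem_centralizer_singleton_iff]
    exact (h L hL x hx).symm
  have h2 : c ∈ centralizer (X : Set G) := by
    rw [mem_centralizer_iff]
    intro x hx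
    exact mem_centralizer_singleton_iff.1 (h1 (le_UU_of_fsimp f hc hK hne hx))
  rwa [f.cen, mem_bot] at h2

/-- `O_2(G) = 1` -/
theorem pCore_eq_bot [Finite G] (f : FSimp X) : pCore 2 G = ⊥ := by
  haveI : Fact (Nat.Prime 2) := ⟨Nat.prime_two⟩
  by_contra hb
  have h1 : X ≤ pCore 2 G := f.le (fun g _ n hn => (Lib.Cores.pCore_normal 2 (G := G)).conj_mem n hn g) hb
  have h2 : IsPGroup 2 X := (Lib.Cores.pCore_isPGroup 2).to_le h1
  haveI := f.sim
  haveI : Nontrivial X := IsSimpleGroup.toNontrivial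
  have h3 : center X ≠ ⊥ := by
    have := h2.center_nontrivial
    exact (nontrivial_iff_ne_bot _).1 this
  have h4 : center X = ⊤ := (inferInstance : (center X).Normal).eq_bot_or_eq_top.resolve_left h3
  refine f.na fun x hx y hy => ?_
  have h5 : (⟨x, hx⟩ : X) ∈ center X := by rw [h4]; exact mem_top _
  have h6 := mem_center_iff.1 h5 ⟨y, hy⟩
  exact (congrArg Subtype.val h6).symm

/-- `Three` gives a classical involution -/
theorem Three.cl [Finite G] (h : Hyp Om) (hK : K ∈ Om) (h3 : Three K) : AssemblyNil.Cl G := by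
  obtain ⟨J, h1, h2, h4, ⟨e⟩⟩ := h3
  refine ⟨zz K, J, h.orderOf_zz hK, h1, h2 (h.zz_mem hK), h4, Or.inl ⟨ZMod 3, inferInstance, inferInstance, ?_, ⟨e⟩⟩⟩
  rw [ZMod.card]; decide

section W3

variable {G : Type u} [Group G] [Finite G] {K : Subgroup G}

theorem t0_of_w3 (w : AssemblyNil.W3 G K) (hf : ∀ t : G, orderOf t = 2 → centralizerPPrimeCore 2 t = ⊥) :
    T0 (cls K) := by
  have hyp := w.hyp
  have hO : ∀ L ∈ cls K, OO L = ⊥ := fun L hL => ROne.OO_eq_bot hyp hL (hf _ (hyp.orderOf_zz hL))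
  refine ⟨hyp, ?_, RFour.oddCore_eq_bot (ROne.fsimp_of w.simple w.na) w.even⟩
  rintro L ⟨g, rfl⟩
  rw [card_cj]
  exact ROne.card_eight w.nil w.c3 (hO K (self_mem_cls K))

/-- **`m = 1`** -/
theorem mone_of_tstat (w : AssemblyNil.W3 G K) (hf : ∀ t : G, orderOf t = 2 → centralizerPPrimeCore 2 t = ⊥)
    (hT : TStat (cls K) K) : RFour.MOne (cls K) := by
  have t := t0_of_w3 w hf
  have f := ROne.fsimp_of w.simple w.na
  have hne : ∀ L ∈ cls K, L ≠ ⊥ := by
    rintro L hL rfl
    have h1 := t.card _ hL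
    rw [Subgroup.card_bot] at h1
    omega
  have hcomp : ∀ L ∈ cls K, L ∈ comp (cls K) K := fun L hL =>
    mem_comp_of_fsimp f w.hyp.conj hne (self_mem_cls K) hL
  rcases hT with h1 | h1 | ⟨L, hL, h1⟩
  · exfalso
    have h2 : zz K = 1 := by
      have h3 : zz K ∈ pCore 2 G := h1
      rwa [pCore_eq_bot f, mem_bot] at h3
    have h3 := w.hyp.orderOf_zz (self_mem_cls K)
    rw [h2, orderOf_one] at h3
    omega
  · intro L hL M hM hc
    have h2 : zz L * zz M = 1 := by
      refine eq_one_of_cent f w.hyp.conj (self_mem_cls K) (hne K (self_mem_cls K)) fun N hN x hx => ?_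
      exact h1 L (hcomp L hL) M (hcomp M hM) hc N (hcomp N hN) x hx
    have h3 : (zz M)⁻¹ = zz M := by
      have h4 := w.hyp.orderOf_zz hM
      apply inv_eq_of_mul_eq_one_right
      rw [← pow_two, ← h4, pow_orderOf_eq_one]
    rw [mul_eq_one_iff_eq_inv, h3] at h2
    exact h2
  · exact absurd (Three.cl w.hyp (comp_sub (self_mem_cls K) hL) h1) w.ncl

/-- `m = 1`, `r = 1`: contradiction -/
theorem false_of_one (w : AssemblyNil.W3 G K) (hf : ∀ t : G, orderOf t = 2 → centralizerPPrimeCore 2 t = ⊥)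
    (hm : RFour.MOne (cls K)) (h1 : (AssemblyNil.ovr K).ncard = 1) : False := by
  haveI : Fact (Nat.Prime 2) := ⟨Nat.prime_two⟩
  have h := RG.WR.of_w3 w hf
  refine w.two ⟨w.hyp, fun S hS L hL M hM => ?_⟩
  have hle : ∀ N ∈ OmS (cls K) S, N ≤ S := by
    intro N hN
    have h2 : IsPGroup 2 N := h.two hN.1
    obtain ⟨k, hk⟩ := IsPGroup.iff_card.1 h2
    have h3 : S.relIndex N ∣ 2 ^ k := by rw [← hk]; exact relIndex_dvd_card S N
    obtain ⟨j, -, hj⟩ := (Nat.dvd_prime_pow Nat.prime_two).1 h3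
    have h4 := hN.2
    rw [hj] at h4
    rcases Nat.eq_zero_or_pos j with h5 | h5
    · rw [h5, pow_zero, relIndex_eq_one] at hj
      exact hj
    · exact absurd (dvd_pow_self 2 h5.ne') h4
  by_contra hne
  have h2 := h.pg L hL.1 M hM.1 S hS (hle L hL) (hle M hM) hne
  have h3 := hm L hL.1 M hM.1 h2
  have h4 : (RG.Ov (cls K) (zz L)).ncard = 1 := by
    rw [RG.ncard_of_w3 w ⟨L, hL.1, rfl⟩, h1]
  obtain ⟨N, hN⟩ := Set.ncard_eq_one.1 h4
  have h5 : L ∈ RG.Ov (cls K) (zz L) := ⟨hL.1, rfl⟩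
  have h6 : M ∈ RG.Ov (cls K) (zz L) := ⟨hM.1, h3.symm⟩
  rw [hN] at h5 h6
  exact hne (h5.trans h6.symm)

/-- `r ≥ 3`, `r ≠ 4`: contradiction -/
theorem false_of_many (i : RFour.LIn.{u}) (w : AssemblyNil.W3 G K)
    (hf : ∀ t : G, orderOf t = 2 → centralizerPPrimeCore 2 t = ⊥) (h3 : 3 ≤ (AssemblyNil.ovr K).ncard)
    (h4 : (AssemblyNil.ovr K).ncard ≠ 4) : False := by
  have h := RG.WR.of_w3 w hf
  have r3 := RG.R3.of_w3 w h3
  have hT : RG.NoTI (cls K) := RG.NoTI.of_ne h r3 (fun z hz => by rw [RG.ncard_of_w3 w hz]; exact h4)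
  have hC : RG.AllC (cls K) := fun s hs x hx hne hc => h.cp_of_comm hT r3 hs hx hne hc
  have f := ROne.fsimp_of w.simple w.na
  haveI := f.sim
  have gold : Cit.ROne.Gold ↥(generalizedFittingSubgroup G) := fun S A h1 h2 h3 => i.gold _ S A h1 h2 h3
  have hB : CloEnd.Bend ↥(generalizedFittingSubgroup G) := i.bend _
  exact h.false_of_allC hC r3.r2 w.hyp (z := zz K) ⟨K, self_mem_cls K, rfl⟩ f w.even gold hB

end W3

/-- **(C3) from the frame**: `T'` for all groups, the leaf `r = 2`, `m = 1` -/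
theorem c3Free_of (hT : ∀ (H : Type u) [Group H] [Finite H] (Om : Set (Subgroup H)), T0 Om → ∀ K ∈ Om, TStat Om K)
    (i : RFour.LIn.{u}) (h2 : RTwo.LeafR2One.{u}) : AssemblyNil.C3Free.{u} := by
  intro G _ _ K w hf
  have hm : RFour.MOne (cls K) := mone_of_tstat w hf (hT G (cls K) (t0_of_w3 w hf) K (self_mem_cls K))
  by_cases e1 : (AssemblyNil.ovr K).ncard = 1
  · exact (false_of_one w hf hm e1).elim
  by_cases e2 : (AssemblyNil.ovr K).ncard = 2
  · exact h2 G K w hf e2 hm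
  by_cases e4 : (AssemblyNil.ovr K).ncard = 4
  · exact RFour.leafR4One i G K w hf e4 hm
  · exact (false_of_many i w hf (RG.three_le w e1 e2) e4).elim

/-- **(C3) from the frame, S1311 and `UnbalStmt`** -/
theorem c3Stmt_of (hT : ∀ (H : Type u) [Group H] [Finite H] (Om : Set (Subgroup H)), T0 Om → ∀ K ∈ Om, TStat Om K)
    (i : RFour.LIn.{u}) (h2 : RTwo.LeafR2One.{u})
    (h1311 : ∀ (G : Type u) [Group G] [Finite G], AssemblyNil.FS G → AssemblyNil.St1311 G)
    (hU : AssemblyNil.UnbalStmt.{u}) : AssemblyNil.C3Stmt.{u} :=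
  AssemblyNil.c3Stmt_of_free h1311 hU (c3Free_of hT i h2)

end Cfsg.Agent.Cit.Nil.Top
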