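import Cfsg.Agent.Cit.Nil.Defs

/-!
# (6b), `n = 1`: the type of a neighbour on an arbitrary invariant Sylow subgroup (TYP)
-/

set_option autoImplicit false
set_option linter.style.haveILetI false
set_option linter.unusedSectionVars false

namespace Cfsg.Agent.Cit.Nil

open Subgroup Cfsg Cit OneBasic OneF

variable {G : Type*} [Group G]

theorem gq_cj {Q : Subgroup G} {c v z : G} {n : ℕ} (h : GQ Q c v z n) (g : G) :
    GQ (cj g Q) (g * c * g⁻¹) (g * v * g⁻¹) (g * z * g⁻¹) n := by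
  refine ⟨conj_mem_cj h.c_mem, conj_mem_cj h.v_mem, ?_, ?_, ?_, ?_, ?_⟩
  · rw [← h.ord]; exact (MulAut.conj g).orderOf_eq c
  · rw [_root_.conj_pow, h.z_eq]
  · rw [← h.v_sq]; group
  · calc g * v * g⁻¹ * (g * c * g⁻¹) * (g * v * g⁻¹)⁻¹ = g * (v * c * v⁻¹) * g⁻¹ := by group
      _ = (g * c * g⁻¹)⁻¹ := by rw [h.conj]; group
  · intro x hx
    rw [mem_cj] at hx
    rcases h.cov _ hx with ⟨i, hi⟩ | ⟨i, hi⟩
    · left
      refine ⟨i, ?_⟩
      rw [_root_.conj_pow, ← hi]; group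
    · right
      refine ⟨i, ?_⟩
      rw [_root_.conj_pow]
      calc x = g * (g⁻¹ * x * g) * g⁻¹ := by group
        _ = g * (v * c ^ i) * g⁻¹ := by rw [hi]
        _ = _ := by group

variable [Finite G] {Om : Set (Subgroup G)} {K L Q : Subgroup G}

/-- **(TYP)**: the involution `t ≠ z` of a member commuting with `z` and normalising the Sylow subgroup `Q`
of the 2-nilpotent member `K` is of type `SD` or of type `W` on `Q` -/
theorem typ (h : One Om) (hn : NilK K) (hK : K ∈ Om) (hL : L ∈ Om) (hne : K ≠ L) (hQ : Syl Q K)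
    (htQ : zz L ∈ normalizer (Q : Set G)) (hc : zz K * zz L = zz L * zz K) :
    (∀ u ∈ Q, u * u = zz K → u * zz L ≠ zz L * u) ∨
    ∃ x y n, GQ Q x y (zz K) n ∧ zz L * x = x * zz L ∧ zz L * y * (zz L)⁻¹ = y * zz K := by
  have ht2 : IsPGroup 2 (zpowers (zz L)) := isPGroup_zpowers_zz h.hyp hL
  obtain ⟨T, Q1, Q', hT, p⟩ := h.exists_pair hK hL hne hc ht2
    (zpowers_le.2 (h.mem_normalizer hK hc.symm)) (zpowers_le.2 (h.mem_normalizer hL rfl))
  have htT : zz L ∈ T := hT (mem_zpowers _)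
  obtain ⟨g, hg, hgt, hgQ⟩ := move hn hQ p.hQ ht2 (zpowers_le.2 (h.mem_normalizer hK hc.symm))
    (zpowers_le.2 htQ) (zpowers_le.2 (p.hTQ htT))
  have hgt' := hgt _ (mem_zpowers _)
  have hgK : g ∈ K := OO_le K hg
  have hgz : g * zz K * g⁻¹ = zz K := by
    rw [h.hyp.comm_zz hK (le_normalizer hgK), mul_inv_cancel_right]
  have hgt2 : g * zz L * g⁻¹ = zz L := by rw [← hgt', mul_inv_cancel_right]
  obtain ⟨x, y, x', y', n, c⟩ := p.exists_co h
  rcases c.dich h with h1 | h1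
  · right
    have h2 := gq_cj c.gq g
    rw [hgQ, hgz] at h2
    refine ⟨_, _, n, h2, ?_, ?_⟩
    · have h3 := commute_conj g h1.2
      rwa [hgt2] at h3
    · have h3 := c.t_y h h1.2
      calc zz L * (g * y * g⁻¹) * (zz L)⁻¹ = (g * zz L * g⁻¹) * (g * y * g⁻¹) * (g * zz L * g⁻¹)⁻¹ := by
            rw [hgt2]
        _ = g * (zz L * y * (zz L)⁻¹) * g⁻¹ := by group
        _ = (g * y * g⁻¹) * (g * zz K * g⁻¹) := by rw [h3]; group
        _ = g * y * g⁻¹ * zz K := by rw [hgz]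
  · left
    intro u hu hu2 hut
    have h2 : g⁻¹ * u * g ∈ Q1 := by
      rw [← hgQ] at hu
      exact mem_cj.1 hu
    have h3 : g⁻¹ * u * g * zz L = zz L * (g⁻¹ * u * g) := by
      have hgi : g⁻¹ * zz L = zz L * g⁻¹ := by
        rw [inv_mul_eq_iff_eq_mul, ← mul_assoc, ← hgt', mul_inv_cancel_right]
      calc g⁻¹ * u * g * zz L = g⁻¹ * u * (zz L * g) := by rw [hgt']; group
        _ = g⁻¹ * (u * zz L) * g := by group
        _ = (g⁻¹ * zz L) * u * g := by rw [hut]; group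
        _ = zz L * (g⁻¹ * u * g) := by rw [hgi]; group
    have h4 : (g⁻¹ * u * g) * (g⁻¹ * u * g) = zz K := by
      calc (g⁻¹ * u * g) * (g⁻¹ * u * g) = g⁻¹ * (u * u) * g := by group
        _ = g⁻¹ * (g * zz K * g⁻¹) * g := by rw [hu2, hgz]
        _ = zz K := by group
    rcases h1.1 _ h2 h3 with h5 | h5
    · rw [h5, one_mul] at h4
      exact h.hyp.zz_ne hK h4.symm
    · rw [h5, h.hyp.zz_mul hK] at h4
      exact h.hyp.zz_ne hK h4.symm

/-- type `W`: `t = w r` -/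
theorem exists_r_of_W (h : One Om) (hK : K ∈ Om) (hL : L ∈ Om) (hQ : Syl Q K) {x y : G} {n : ℕ}
    (hgq : GQ Q x y (zz K) n) (hx : zz L * x = x * zz L) (hy : zz L * y * (zz L)⁻¹ = y * zz K) :
    ∃ r, zz L = x ^ 2 ^ n * r ∧ RW Om K Q (x ^ 2 ^ n) r := by
  obtain ⟨w, hw⟩ : ∃ w, w = x ^ 2 ^ n := ⟨_, rfl⟩
  rw [← hw]
  have hw2 : w * w = zz K := by rw [hw]; exact hgq.w_sq
  have hwQ : w ∈ Q := by rw [hw]; exact Q.pow_mem hgq.c_mem _
  have hwx : w * x = x * w := by rw [hw]; exact ((Commute.refl x).pow_left _).eq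
  have hwinv : w⁻¹ = w * zz K := by
    rw [inv_eq_iff_mul_eq_one]
    calc w * (w * zz K) = (w * w) * zz K := by group
      _ = 1 := by rw [hw2, h.hyp.zz_mul hK]
  have htw : zz L * w = w * zz L := by rw [hw]; exact ((show Commute (zz L) x from hx).pow_right _).eq
  have hyw : y * w * y⁻¹ = w⁻¹ := by rw [hw, ← _root_.conj_pow, hgq.conj, inv_pow]
  obtain ⟨r, hr⟩ : ∃ r, r = w⁻¹ * zz L := ⟨_, rfl⟩
  have hLr : zz L = w * r := by rw [hr]; group
  have hzy : y * zz K = zz K * y := h.hyp.comm_zz hK (le_normalizer (hQ.1 hgq.v_mem))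
  have hrx : r * x = x * r := by
    have h1 : w⁻¹ * x = x * w⁻¹ := by
      rw [inv_mul_eq_iff_eq_mul, ← mul_assoc, hwx, mul_inv_cancel_right]
    rw [hr]
    calc w⁻¹ * zz L * x = w⁻¹ * (zz L * x) := by group
      _ = (w⁻¹ * x) * zz L := by rw [hx]; group
      _ = x * (w⁻¹ * zz L) := by rw [h1]; group
  have hry : r * y = y * r := by
    -- `t y = y z t`, `w⁻¹ y = y w`
    have h1 : zz L * y = y * zz K * zz L := by rw [← hy]; group
    have h2 : w⁻¹ * y = y * w := by rw [← hyw]; group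
    rw [hr]
    calc w⁻¹ * zz L * y = w⁻¹ * (zz L * y) := by group
      _ = (w⁻¹ * y) * zz K * zz L := by rw [h1]; group
      _ = y * (w * zz K) * zz L := by rw [h2]; group
      _ = y * (w⁻¹ * zz L) := by rw [← hwinv]; group
  have hrQ : ∀ q ∈ Q, r * q = q * r := by
    intro q hq
    have h1 : Q ≤ centralizer {r} := by
      apply hgq.le_of_mem (q := y)
      · exact mem_centralizer_singleton_iff.2 hrx.symm
      · exact hgq.v_mem
      · exact hgq.v_not_mem
      · exact mem_centralizer_singleton_iff.2 hry.symm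
    exact (mem_centralizer_singleton_iff.1 (h1 hq)).symm
  refine ⟨r, hLr, hwQ, hw2, hrQ, ?_, ⟨L, hL, hLr⟩⟩
  have h1 := h.hyp.zz_mul hL
  rw [hLr] at h1
  have h2 : w * r * (w * r) = (w * w) * (r * r) := by
    calc w * r * (w * r) = w * (r * w) * r := by group
      _ = w * (w * r) * r := by rw [hrQ w hwQ]
      _ = _ := by group
  rw [h2, hw2] at h1
  calc r * r = (zz K * zz K) * (r * r) := by rw [h.hyp.zz_mul hK, one_mul]
    _ = zz K * (zz K * (r * r)) := by group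
    _ = zz K := by rw [h1, mul_one]

end Cfsg.Agent.Cit.Nil
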