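import Cfsg.Agent.Cit.Nil.FLemma

/-!
# (6b), `n = 1`: Lemmas 1.2 - 1.4
-/

set_option autoImplicit false
set_option linter.style.haveILetI false
set_option linter.unusedSectionVars false

namespace Cfsg.Agent.Cit.Nil

open Subgroup Cfsg Cit OneBasic OneF

variable {G : Type*} [Group G]

/-- `w ∈ Q` generates a normal subgroup of `Q` -/
def NW (Q : Subgroup G) (w : G) : Prop := ∀ q ∈ Q, q * w * q⁻¹ = w ∨ q * w * q⁻¹ = w⁻¹

theorem nw_of_gq {Q : Subgroup G} {x y z : G} {n : ℕ} (hgq : GQ Q x y z n) : NW Q (x ^ 2 ^ n) := by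
  intro q hq
  rcases hgq.covZ hq with ⟨i, rfl⟩ | ⟨i, rfl⟩
  · left
    have h1 : x ^ i * x ^ 2 ^ n = x ^ 2 ^ n * x ^ i := by
      rw [← zpow_natCast x (2 ^ n)]; exact ((Commute.refl x).zpow_zpow i _).eq
    change x ^ i * x ^ 2 ^ n * (x ^ i)⁻¹ = _
    rw [h1, mul_inv_cancel_right]
  · right
    have h1 : x ^ i * x ^ 2 ^ n = x ^ 2 ^ n * x ^ i := by
      rw [← zpow_natCast x (2 ^ n)]; exact ((Commute.refl x).zpow_zpow i _).eq
    calc y * x ^ i * x ^ 2 ^ n * (y * x ^ i)⁻¹ = y * (x ^ i * x ^ 2 ^ n) * (x ^ i)⁻¹ * y⁻¹ := by group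
      _ = y * x ^ 2 ^ n * y⁻¹ := by rw [h1]; group
      _ = (x ^ 2 ^ n)⁻¹ := by rw [← _root_.conj_pow, hgq.conj, inv_pow]

section tools

theorem comm_inv {a b : G} (h : a * b = b * a) : a * b⁻¹ = b⁻¹ * a := by
  rw [eq_inv_mul_iff_mul_eq, ← mul_assoc, ← h, mul_inv_cancel_right]

theorem comm_mul {a b c : G} (h1 : a * b = b * a) (h2 : a * c = c * a) : a * (b * c) = b * c * a := by
  calc a * (b * c) = (a * b) * c := by group
    _ = b * (a * c) := by rw [h1]; group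
    _ = b * c * a := by rw [h2]; group

/-- `t` inverts `d`, so `d t d⁻¹ = d² t` -/
theorem conj_of_inv {t d : G} (h : t * d * t⁻¹ = d⁻¹) : d * t * d⁻¹ = d * d * t := by
  have h1 : t * d = d⁻¹ * t := by rw [← h]; group
  have h2 : t * d⁻¹ = d * t := by
    rw [mul_inv_eq_iff_eq_mul, mul_assoc, h1, mul_inv_cancel_left]
  calc d * t * d⁻¹ = d * (t * d⁻¹) := by group
    _ = d * d * t := by rw [h2, mul_assoc]

end tools

variable [Finite G] {Om : Set (Subgroup G)} {K L Q U : Subgroup G} {w w1 r r1 v f b c t m φ φ1 φ2 : G}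

/-- **Lemma Inv** -/
theorem exists_root_z (h : One Om) (hK : K ∈ Om) (hQ : Syl Q K) (ht : IZ Om t) (hc : IsPGroup 2 (zpowers c))
    (hcQ : ∀ q ∈ Q, c * q = q * c) (hinv : t * c * t⁻¹ = c⁻¹) (hcc : c * c ≠ 1) :
    ∃ d ∈ zpowers c, d * d = zz K ∧ (c * c = zz K ∨ ∃ e ∈ zpowers c, e * e = d) := by
  haveI : Fact (Nat.Prime 2) := ⟨Nat.prime_two⟩
  obtain ⟨k, hk⟩ := IsPGroup.iff_card.1 hc
  rw [Nat.card_zpowers] at hk
  have hk2 : 2 ≤ k := by
    by_contra hcon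
    apply hcc
    have h1 : k ≤ 1 := by omega
    rw [← pow_two, ← orderOf_dvd_iff_pow_eq_one, hk]
    calc 2 ^ k ∣ 2 ^ 1 := pow_dvd_pow 2 h1
      _ = 2 := by norm_num
  obtain ⟨j, rfl⟩ := Nat.exists_eq_add_of_le hk2
  obtain ⟨d, hd⟩ : ∃ d, d = c ^ 2 ^ j := ⟨_, rfl⟩
  have hdc : d ∈ zpowers c := by rw [hd]; exact pow_mem (mem_zpowers c) _
  have hdd : d * d = c ^ 2 ^ (j + 1) := by rw [hd, ← pow_add, ← two_mul, ← pow_succ']
  have hdd1 : d * d ≠ 1 := by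
    rw [hdd]
    intro h1
    have h2 := orderOf_dvd_of_pow_eq_one h1
    rw [hk] at h2
    have h3 := (Nat.pow_dvd_pow_iff_le_right (by norm_num : 1 < 2)).1 h2
    omega
  have hd4 : (d * d) * (d * d) = 1 := by
    rw [hdd, ← pow_add, ← two_mul, ← pow_succ']
    have h1 : j + 1 + 1 = 2 + j := by omega
    rw [h1, ← hk, pow_orderOf_eq_one]
  have hdinv : t * d * t⁻¹ = d⁻¹ := inv_zpowers hinv hdc
  have h1 := conj_of_inv hdinv
  have hd2inv : t * (d * d) * t⁻¹ = d * d := by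
    have h2 : t * (d * d) * t⁻¹ = (d * d)⁻¹ := by
      calc t * (d * d) * t⁻¹ = (t * d * t⁻¹) * (t * d * t⁻¹) := by group
        _ = (d * d)⁻¹ := by rw [hdinv]; group
    rw [h2]; exact inv_eq_of_mul_eq_one_right hd4
  have h2 : IZ Om (d * d * t) := by rw [← h1]; exact ht.conj h d
  have h3 : t * (d * d * t) = d * d * t * t := by
    rw [mul_inv_eq_iff_eq_mul] at hd2inv
    calc t * (d * d * t) = (t * (d * d)) * t := by group
      _ = d * d * t * t := by rw [hd2inv]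
  have h4 : IZ Om (d * d * t * t) := h2.mul h ht (fun hh => hdd1 (by simpa using hh)) h3.symm
  rw [mul_assoc (d * d), ht.mul_self h, mul_one] at h4
  have hdQ : ∀ q ∈ Q, d * d * q = q * (d * d) := by
    intro q hq
    have h5 : q * d = d * q := comm_zpowers (hcQ q hq).symm hdc
    exact (comm_mul h5 h5).symm
  have h5 := h4.eq_of_cent h hK hQ hdQ
  refine ⟨d, hdc, h5, ?_⟩
  rcases Nat.eq_zero_or_pos j with hj | hj
  · left
    subst hj
    rw [pow_zero, pow_one] at hd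
    rw [← hd]; exact h5
  · right
    obtain ⟨i, rfl⟩ := Nat.exists_eq_succ_of_ne_zero hj.ne'
    refine ⟨c ^ 2 ^ i, pow_mem (mem_zpowers c) _, ?_⟩
    rw [hd, ← pow_add, ← two_mul, ← pow_succ']

/-- **Lemma D** -/
theorem exists_d (h : One Om) (hK : K ∈ Om) (hQ : Syl Q K) (ht : IZ Om (m * φ1)) (hU : IsPGroup 2 U)
    (h1U : φ1 ∈ U) (h2U : φ2 ∈ U) (h11 : φ1 * φ1 = 1) (h22 : φ2 * φ2 = 1)
    (h1Q : ∀ q ∈ Q, φ1 * q = q * φ1) (h2Q : ∀ q ∈ Q, φ2 * q = q * φ2) (hm1 : m * φ1 = φ1 * m)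
    (hm2 : m * φ2 = φ2 * m) (hne : φ1 * φ2 ≠ φ2 * φ1) :
    ∃ d ∈ zpowers (φ1 * φ2), d * d = zz K ∧ d * φ1 * d⁻¹ = zz K * φ1 := by
  have hi1 : φ1⁻¹ = φ1 := inv_eq_of_mul_eq_one_right h11
  have hi2 : φ2⁻¹ = φ2 := inv_eq_of_mul_eq_one_right h22
  obtain ⟨c, hc⟩ : ∃ c, c = φ1 * φ2 := ⟨_, rfl⟩
  rw [← hc]
  have hcU : c ∈ U := by rw [hc]; exact U.mul_mem h1U h2U
  have hcinv : φ1 * c * φ1⁻¹ = c⁻¹ := by
    rw [hc, mul_inv_rev, hi1, hi2]
    calc φ1 * (φ1 * φ2) * φ1 = (φ1 * φ1) * φ2 * φ1 := by group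
      _ = φ2 * φ1 := by rw [h11, one_mul]
  have hmc : m * c = c * m := by rw [hc]; exact comm_mul hm1 hm2
  have hcQ : ∀ q ∈ Q, c * q = q * c := by
    intro q hq
    rw [hc]; exact (comm_mul (h1Q q hq).symm (h2Q q hq).symm).symm
  have hcc : c * c ≠ 1 := by
    intro h1
    apply hne
    have h2 : c = c⁻¹ := (inv_eq_of_mul_eq_one_right h1).symm
    rw [hc, mul_inv_rev, hi1, hi2] at h2
    exact h2
  have htinv : m * φ1 * c * (m * φ1)⁻¹ = c⁻¹ := by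
    calc m * φ1 * c * (m * φ1)⁻¹ = m * (φ1 * c * φ1⁻¹) * m⁻¹ := by group
      _ = m * c⁻¹ * m⁻¹ := by rw [hcinv]
      _ = c⁻¹ := by rw [comm_inv hmc, mul_inv_cancel_right]
  obtain ⟨d, hdc, hdd, -⟩ := exists_root_z h hK hQ ht (isPGroup_zpowers_of_mem hU hcU) hcQ htinv hcc
  refine ⟨d, hdc, hdd, ?_⟩
  have h1 := conj_of_inv (inv_zpowers hcinv hdc)
  rw [h1, hdd]

/-- `q w q⁻¹ = z w` for a suitable `q ∈ Q` -/
theorem exists_flip (h : One Om) (hK : K ∈ Om) (hQ : Syl Q K) (hw : w ∈ Q) (hw2 : w * w = zz K) :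
    ∃ q ∈ Q, q * w * q⁻¹ = zz K * w := by
  obtain ⟨c, v, n, hc⟩ := h.hyp.exists_gq hK hQ
  obtain ⟨q, hq, -, hq2⟩ := hc.exists_inverting hw (orderOf_four h hK hw2)
  exact ⟨q, hq, by rw [hq2, inv_of_sq hw2 (h.hyp.zz_mul hK)]⟩

theorem flip_conj {q c' : G} (hq : q * w * q⁻¹ = zz K * w) (hc : q * c' = c' * q) :
    q * (w * c') * q⁻¹ = zz K * (w * c') := by
  calc q * (w * c') * q⁻¹ = (q * w * q⁻¹) * (q * c' * q⁻¹) := by group
    _ = zz K * (w * c') := by rw [hq, hc, mul_inv_cancel_right]; group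

theorem IZ.flip (h : One Om) (hK : K ∈ Om) (hQ : Syl Q K) (hw : w ∈ Q) (hw2 : w * w = zz K)
    {c' : G} (hc : ∀ q ∈ Q, c' * q = q * c') : IZ Om (zz K * (w * c')) ↔ IZ Om (w * c') := by
  obtain ⟨q, hq, hq2⟩ := exists_flip h hK hQ hw hw2
  have h1 := flip_conj hq2 (hc q hq).symm
  constructor
  · intro h2
    rw [← h1] at h2
    have h3 := h2.conj h q⁻¹
    have h4 : q⁻¹ * (q * (w * c') * q⁻¹) * q⁻¹⁻¹ = w * c' := by group
    rwa [h4] at h3
  · intro h2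
    rw [← h1]; exact h2.conj h q

theorem PE.flip (h : One Om) (hK : K ∈ Om) (hQ : Syl Q K) (hw : w ∈ Q) (hw2 : w * w = zz K)
    {c' : G} (hc : ∀ q ∈ Q, c' * q = q * c') (hb : ∀ q ∈ Q, b * q = q * b) :
    PE Om b (zz K * (w * c')) ↔ PE Om b (w * c') := by
  obtain ⟨q, hq, hq2⟩ := exists_flip h hK hQ hw hw2
  rw [← flip_conj hq2 (hc q hq).symm]
  exact PE.conj_comm_iff h (hb q hq).symm

/-- **W0** -/
theorem wzero (h : One Om) (hK : K ∈ Om) (hQ : Syl Q K) (hw : w ∈ Q) (hw2 : w * w = zz K)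
    (hv : ∀ q ∈ Q, v * q = q * v) (ht : PE Om φ1 (w * (v * φ1))) (hU : IsPGroup 2 U)
    (h1U : φ1 ∈ U) (h2U : φ2 ∈ U) (h11 : φ1 * φ1 = 1) (h22 : φ2 * φ2 = 1)
    (h1Q : ∀ q ∈ Q, φ1 * q = q * φ1) (h2Q : ∀ q ∈ Q, φ2 * q = q * φ2) (hv1 : v * φ1 = φ1 * v)
    (hv2 : v * φ2 = φ2 * v) : φ1 * φ2 = φ2 * φ1 := by
  by_contra hne
  have hzz := h.hyp.zz_mul hK
  obtain ⟨m, hm⟩ : ∃ m, m = w * v := ⟨_, rfl⟩
  have hmt : w * (v * φ1) = m * φ1 := by rw [hm]; group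
  have hm1 : m * φ1 = φ1 * m := by rw [hm]; exact (comm_mul (h1Q w hw) hv1.symm).symm
  have hm2 : m * φ2 = φ2 * m := by rw [hm]; exact (comm_mul (h2Q w hw) hv2.symm).symm
  obtain ⟨d, hd, hdd, hd1⟩ := exists_d h hK hQ (by rw [← hmt]; exact ht.iz) hU h1U h2U h11 h22 h1Q h2Q
    hm1 hm2 hne
  have hmd : d * m = m * d := (comm_zpowers (comm_mul hm1 hm2) hd).symm
  have h1 := ht.conj h d
  have h2 : d * (w * (v * φ1)) * d⁻¹ = zz K * (w * (v * φ1)) := by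
    rw [hmt]
    calc d * (m * φ1) * d⁻¹ = (d * m) * (φ1 * d⁻¹) := by group
      _ = m * (d * φ1 * d⁻¹) := by rw [hmd]; group
      _ = (m * zz K) * φ1 := by rw [hd1]; group
      _ = (zz K * m) * φ1 := by
        congr 1
        rw [hm]
        exact (comm_mul (h.hyp.comm_zz hK (le_normalizer (hQ.1 hw))).symm
          (hv _ (zz_mem_syl h hK hQ)).symm).symm
      _ = zz K * (m * φ1) := by group
  rw [h2, hd1] at h1
  have hvφ : ∀ q ∈ Q, (v * φ1) * q = q * (v * φ1) := fun q hq =>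
    (comm_mul (hv q hq).symm (h1Q q hq).symm).symm
  have h3 := (PE.flip h hK hQ hw hw2 hvφ h1Q).2 ht
  have h4 := PE.eq_of_both h (IZ.of hK) (two_of_sq_one h11) (h1Q _ (zz_mem_syl h hK hQ)) h3 h1
  have h5 : w * (v * φ1) = 1 := by simpa using h4
  exact ht.iz.ne_one h h5

/-- the package `f`, `φ` (1.1) for a given `b` -/
theorem fl (h : One Om) (hK : K ∈ Om) (hQ : Syl Q K) (hN : NW Q w) (hr : RW Om K Q w r)
    (hr1 : ∀ q ∈ Q, r1 * q = q * r1) (hr12 : r1 * r1 = zz K) (hanti : r1 * r = zz K * (r * r1))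
    (hb2 : IsPGroup 2 (zpowers b)) (h3 : P3 Om b) (hbz : PE Om b (zz K)) (hbQ : ∀ q ∈ Q, b * q = q * b)
    (hbr : b * r = r * b) (hbr1 : b * r1 = r1 * b) :
    ∃ f φ, f * f = w * r ∧ f * w = w * f ∧ f * r = r * f ∧ f ∈ normalizer (Q : Set G) ∧
      f * zz K = zz K * f ∧ b * f = f * b ∧ φ * φ = 1 ∧ (∀ q ∈ Q, φ * q = q * φ) ∧ φ * r = r * φ ∧
      φ * r1 = r1 * φ ∧ φ * f = f * φ ∧ b * φ = φ * b ∧ PE Om φ (w * r) ∧
      (f * (w * r1) * f⁻¹ = w * (r1 * r * φ) ∨ f * (w * r1) * f⁻¹ = zz K * (w * (r1 * r * φ))) := by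
  have hzz := h.hyp.zz_mul hK
  obtain ⟨L, hL, hLz⟩ := hr.mem
  have hzQ := zz_mem_syl h hK hQ
  have hzr : r * zz K = zz K * r := hr.cent _ hzQ
  have hzw : w * zz K = zz K * w := sq_comm hr.w2
  have hrw : r * w = w * r := hr.cent w hr.wQ
  have hzL : zz L * zz K = zz K * zz L := by
    rw [hLz]; exact (comm_mul hzw.symm hzr.symm).symm
  -- the 2-group `A`
  have hrp : IsPGroup 2 (zpowers r) := isP_four h hK hr.sq
  have hr1p : IsPGroup 2 (zpowers r1) := isP_four h hK hr12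
  have n1 : zpowers r ≤ normalizer (Q : Set G) :=
    zpowers_le.2 (mem_normalizer_of_cent (fun x hx => hr.cent x hx))
  have A1 : IsPGroup 2 (zpowers r ⊔ Q : Subgroup G) := isPGroup_sup_of_normalizes hrp hQ.2.1 n1
  have n2 : zpowers r1 ≤ normalizer ((zpowers r ⊔ Q : Subgroup G) : Set G) := by
    rw [zpowers_le, mem_normalizer_iff_cj, cj_sup]
    have e1 : cj r1 (zpowers r) = zpowers (zz K * r) := by
      rw [cj_def, MonoidHom.map_zpowers]
      congr 1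
      change r1 * r * r1⁻¹ = zz K * r
      rw [hanti]; group
    have e2 : cj r1 Q = Q := mem_normalizer_iff_cj.1 (mem_normalizer_of_cent (fun x hx => hr1 x hx))
    rw [e1, e2]
    apply le_antisymm
    · refine sup_le ?_ le_sup_right
      rw [zpowers_le]
      exact mul_mem (mem_sup_right hzQ) (mem_sup_left (mem_zpowers _))
    · refine sup_le ?_ le_sup_right
      rw [zpowers_le]
      have h1 : zz K * (zz K * r) ∈ (zpowers (zz K * r) ⊔ Q : Subgroup G) :=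
        mul_mem (mem_sup_right hzQ) (mem_sup_left (mem_zpowers _))
      rwa [← mul_assoc, hzz, one_mul] at h1
  have A2 : IsPGroup 2 (zpowers r1 ⊔ (zpowers r ⊔ Q) : Subgroup G) :=
    isPGroup_sup_of_normalizes hr1p A1 n2
  have hcb : zpowers r1 ⊔ (zpowers r ⊔ Q) ≤ centralizer {b} := by
    rw [sup_le_iff, sup_le_iff, zpowers_le, zpowers_le]
    refine ⟨mem_centralizer_singleton_iff.2 hbr1.symm, mem_centralizer_singleton_iff.2 hbr.symm, ?_⟩
    intro q hq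
    exact mem_centralizer_singleton_iff.2 (hbQ q hq).symm
  have n3 : zpowers b ≤ normalizer ((zpowers r1 ⊔ (zpowers r ⊔ Q) : Subgroup G) : Set G) := by
    rw [zpowers_le]
    apply mem_normalizer_of_cent
    intro x hx
    exact (mem_centralizer_singleton_iff.1 (hcb hx)).symm
  have A3 : IsPGroup 2 (zpowers b ⊔ (zpowers r1 ⊔ (zpowers r ⊔ Q)) : Subgroup G) :=
    isPGroup_sup_of_normalizes hb2 A2 n3
  obtain ⟨A, hA⟩ : ∃ A, A = (zpowers b ⊔ (zpowers r1 ⊔ (zpowers r ⊔ Q)) : Subgroup G) := ⟨_, rfl⟩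
  rw [← hA] at A3
  have hbA : b ∈ A := by rw [hA]; exact mem_sup_left (mem_zpowers _)
  have hr1A : r1 ∈ A := by rw [hA]; exact mem_sup_right (mem_sup_left (mem_zpowers _))
  have hrA : r ∈ A := by rw [hA]; exact mem_sup_right (mem_sup_right (mem_sup_left (mem_zpowers _)))
  have hQA : Q ≤ A := by rw [hA]; exact le_sup_right.trans (le_sup_right.trans le_sup_right)
  have hAK : A ≤ normalizer (K : Set G) := by
    rw [hA, sup_le_iff, sup_le_iff, sup_le_iff, zpowers_le, zpowers_le, zpowers_le]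
    exact ⟨h.mem_normalizer hK (hbQ _ hzQ), h.mem_normalizer hK (hr1 _ hzQ), h.mem_normalizer hK hzr,
      hQ.1.trans le_normalizer⟩
  have hbL : b * zz L = zz L * b := by rw [hLz]; exact comm_mul (hbQ w hr.wQ) hbr
  have hAP : A ≤ normalizer ((centralizer {zz K} ⊓ centralizer {zz L} : Subgroup G) : Set G) := by
    have key : ∀ g : G, g * zz K = zz K * g → (g * zz L * g⁻¹ = zz L ∨ g * zz L * g⁻¹ = zz K * zz L) →
        g ∈ normalizer ((centralizer {zz K} ⊓ centralizer {zz L} : Subgroup G) : Set G) :=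
      fun g hg h1 => mem_normalizer_cent (by rw [hg, mul_inv_cancel_right]) h1
    rw [hA, sup_le_iff, sup_le_iff, sup_le_iff, zpowers_le, zpowers_le, zpowers_le]
    refine ⟨key b (hbQ _ hzQ) (Or.inl (by rw [hbL, mul_inv_cancel_right])),
      key r1 (hr1 _ hzQ) (Or.inr ?_), key r hzr (Or.inl ?_), fun q hq => ?_⟩
    · rw [hLz]
      calc r1 * (w * r) * r1⁻¹ = (r1 * w) * r * r1⁻¹ := by group
        _ = w * (r1 * r) * r1⁻¹ := by rw [hr1 w hr.wQ]; group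
        _ = (w * zz K) * r := by rw [hanti]; group
        _ = zz K * (w * r) := by rw [hzw]; group
    · rw [hLz, comm_mul hrw rfl, mul_inv_cancel_right]
    · have hqz : q * zz K = zz K * q := h.hyp.comm_zz hK (le_normalizer (hQ.1 hq))
      refine key q hqz ?_
      have hqr : q * r * q⁻¹ = r := by rw [← hr.cent q hq, mul_inv_cancel_right]
      rcases hN q hq with h1 | h1
      · left
        rw [hLz]
        calc q * (w * r) * q⁻¹ = (q * w * q⁻¹) * (q * r * q⁻¹) := by group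
          _ = w * r := by rw [h1, hqr]
      · right
        rw [hLz]
        calc q * (w * r) * q⁻¹ = (q * w * q⁻¹) * (q * r * q⁻¹) := by group
          _ = zz K * (w * r) := by rw [h1, hqr, inv_of_sq hr.w2 hzz]; group
  obtain ⟨R, T, Q', f, p⟩ := exists_pack h hK hL hQ hr.wQ hr.w2 hr.cent hr.sq hLz A3 hQA hAK hAP
  obtain ⟨φ, p1, p2, p3, p4, p5, p6, p7, p8⟩ := p.exists_phi h hr.wQ hr.w2 hr.cent hr.sq hLz (p.AR hrA)
    hr1 hr12 hanti (p.AR hr1A)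
  have hbT : b ∈ T := p.memT b (p.AR hbA) hbL
  have hKL : zz K ≠ zz L := p.pair.z_ne_t h
  have hbf : b * f = f * b := by
    apply p.comm_fb h hbT
    exact h3 K hK L hL p.pair.ne p.pair.comm (hbz.perp h hK) hbL
  have hwL : w * zz L = zz L * w := by rw [hLz]; exact comm_mul rfl hrw.symm
  have hfw := (p.comm_fw h hr.wQ hwL).symm
  have hrT : r ∈ T := p.memT r (p.AR hrA) (by rw [hLz]; exact comm_mul hrw rfl)
  refine ⟨f, φ, by rw [p.ff, hLz], hfw, (p.comm_f h hrT hr.cent).symm, p.RQ (p.TR p.fT), p.fz h, hbf, p1, p2,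
    p3, p4, p5, p6 b hbr hbr1 hbf (hbQ _ hzQ), ⟨L, hL, hLz, p7⟩, ?_⟩
  have h1 : f * (w * r1) * f⁻¹ = w * (f * r1 * f⁻¹) := by
    calc f * (w * r1) * f⁻¹ = (f * w) * r1 * f⁻¹ := by group
      _ = w * (f * r1 * f⁻¹) := by rw [hfw]; group
  rcases p8 with h2 | h2
  · left; rw [h1, h2]
  · right
    rw [h1, h2]
    calc w * (zz K * (r1 * r * φ)) = (w * zz K) * (r1 * r * φ) := by group
      _ = zz K * (w * (r1 * r * φ)) := by rw [hzw]; group

/-- elements of a common Sylow subgroup of `C` -/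
theorem exists_common {C : Subgroup G} {a b : G} (ha : IsPGroup 2 (zpowers a)) (hb : IsPGroup 2 (zpowers b))
    (haC : a ∈ C) (hbC : b ∈ C) : ∃ e ∈ C, ∃ V : Subgroup G, IsPGroup 2 V ∧ V ≤ C ∧ a ∈ V ∧ e * b * e⁻¹ ∈ V := by
  obtain ⟨V, hV, haV⟩ := exists_syl_ge ha (zpowers_le.2 haC)
  obtain ⟨V', hV', hbV⟩ := exists_syl_ge hb (zpowers_le.2 hbC)
  obtain ⟨e, he, heV⟩ := hV'.exists_conj hV
  exact ⟨e, he, V, hV.2.1, hV.1, haV (mem_zpowers _), by
    rw [← heV]; exact conj_mem_cj (hbV (mem_zpowers _))⟩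

/-- **(A)** -/
theorem same_anti (h : One Om) (hK : K ∈ Om) (hQ : Syl Q K) (hN : NW Q w) (hr : RW Om K Q w r)
    (hr1 : RW Om K Q w r1) (hanti : r1 * r = zz K * (r * r1)) (hb2 : IsPGroup 2 (zpowers b)) (h3 : P3 Om b)
    (hbz : PE Om b (zz K)) (hbQ : ∀ q ∈ Q, b * q = q * b) (hbr : b * r = r * b) (hbr1 : b * r1 = r1 * b) :
    PE Om b (w * r) ↔ PE Om b (w * r1) := by
  have hzz := h.hyp.zz_mul hK
  have hzQ := zz_mem_syl h hK hQ
  have hzr : r * zz K = zz K * r := hr.cent _ hzQ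
  have hzr1 : r1 * zz K = zz K * r1 := hr1.cent _ hzQ
  have hzw : w * zz K = zz K * w := sq_comm hr.w2
  have hanti' : r * r1 = zz K * (r1 * r) := by
    rw [hanti, ← mul_assoc, hzz, one_mul]
  obtain ⟨f, φ, f1, f2, f3, f4, f5, f6, f7, f8, f9, f10, f11, f12, f13, f14⟩ :=
    fl h hK hQ hN hr hr1.cent hr1.sq hanti hb2 h3 hbz hbQ hbr hbr1
  obtain ⟨g, ψ, g1, g2, g3, g4, g5, g6, g7, g8, g9, g10, g11, g12, g13, g14⟩ :=
    fl h hK hQ hN hr1 hr.cent hr.sq hanti' hb2 h3 hbz hbQ hbr1 hbr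
  obtain ⟨p, hp⟩ : ∃ p, p = r1 * r := ⟨_, rfl⟩
  have hpQ : ∀ q ∈ Q, p * q = q * p := fun q hq => by
    rw [hp]; exact (comm_mul (hr1.cent q hq).symm (hr.cent q hq).symm).symm
  have hpφ : p * φ = φ * p := by rw [hp]; exact (comm_mul f10 f9).symm
  have hpψ : p * ψ = ψ * p := by rw [hp]; exact (comm_mul g9 g10).symm
  have hpφQ : ∀ q ∈ Q, (p * φ) * q = q * (p * φ) := fun q hq =>
    (comm_mul (hpQ q hq).symm (f8 q hq).symm).symm
  have hpψQ : ∀ q ∈ Q, (p * ψ) * q = q * (p * ψ) := fun q hq =>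
    (comm_mul (hpQ q hq).symm (g8 q hq).symm).symm
  -- the two members
  have s1 : IZ Om (w * (p * φ)) ∧ (PE Om b (w * r1) ↔ PE Om b (w * (p * φ))) := by
    rw [← hp] at f14
    have e1 := hr1.mem.conj h f
    have e2 := PE.conj_comm_iff (Om := Om) (t := w * r1) h f6.symm
    rcases f14 with h1 | h1
    · rw [h1] at e1 e2
      exact ⟨e1, e2.symm⟩
    · rw [h1] at e1 e2
      rw [IZ.flip h hK hQ hr.wQ hr.w2 hpφQ] at e1
      rw [PE.flip h hK hQ hr.wQ hr.w2 hpφQ hbQ] at e2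
      exact ⟨e1, e2.symm⟩
  have s2 : IZ Om (w * (p * ψ)) ∧ (PE Om b (w * r) ↔ PE Om b (w * (p * ψ))) := by
    have e0 : w * (r * r1 * ψ) = zz K * (w * (p * ψ)) := by
      rw [hp, hanti']
      calc w * (zz K * (r1 * r) * ψ) = (w * zz K) * (r1 * r * ψ) := by group
        _ = zz K * (w * (r1 * r * ψ)) := by rw [hzw]; group
    have e1 := hr.mem.conj h g
    have e2 := PE.conj_comm_iff (Om := Om) (t := w * r) h g6.symm
    rw [e0] at g14
    rcases g14 with h1 | h1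
    · rw [h1] at e1 e2
      rw [IZ.flip h hK hQ hr.wQ hr.w2 hpψQ] at e1
      rw [PE.flip h hK hQ hr.wQ hr.w2 hpψQ hbQ] at e2
      exact ⟨e1, e2.symm⟩
    · have h2 : zz K * (zz K * (w * (p * ψ))) = w * (p * ψ) := by rw [← mul_assoc, hzz, one_mul]
      rw [h1, h2] at e1 e2
      exact ⟨e1, e2.symm⟩
  rw [s1.2, s2.2]
  -- conjugate `ψ` into a 2-group with `φ`
  obtain ⟨C, hC⟩ : ∃ C, C = centralizer ((Q : Set G) ∪ {r, r1, b}) := ⟨_, rfl⟩
  have memC : ∀ a : G, (∀ q ∈ Q, a * q = q * a) → a * r = r * a → a * r1 = r1 * a → a * b = b * a → a ∈ C := by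
    intro a h1 h2 h3 h4
    rw [hC, mem_centralizer_iff]
    rintro y (hy | hy | hy | hy)
    · exact (h1 y hy).symm
    · rw [hy]; exact h2.symm
    · rw [hy]; exact h3.symm
    · rw [hy]; exact h4.symm
  have ofC : ∀ a ∈ C, (∀ q ∈ Q, a * q = q * a) ∧ a * r = r * a ∧ a * r1 = r1 * a ∧ a * b = b * a := by
    intro a ha
    rw [hC, mem_centralizer_iff] at ha
    exact ⟨fun q hq => (ha q (Or.inl hq)).symm, (ha r (Or.inr (by simp))).symm,
      (ha r1 (Or.inr (by simp))).symm, (ha b (Or.inr (by simp))).symm⟩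
  have hφC : φ ∈ C := memC φ f8 f9 f10 f12.symm
  have hψC : ψ ∈ C := memC ψ g8 g10 g9 g12.symm
  obtain ⟨e, heC, V, hV, hVC, hφV, hψV⟩ := exists_common (two_of_sq_one f7) (two_of_sq_one g7) hφC hψC
  obtain ⟨e1, e2, e3, e4⟩ := ofC e heC
  obtain ⟨ψ', hψ'⟩ : ∃ ψ', ψ' = e * ψ * e⁻¹ := ⟨_, rfl⟩
  rw [← hψ'] at hψV
  obtain ⟨k1, k2, k3, k4⟩ := ofC ψ' (hVC hψV)
  have k5 : ψ' * ψ' = 1 := by
    rw [hψ']
    calc e * ψ * e⁻¹ * (e * ψ * e⁻¹) = e * (ψ * ψ) * e⁻¹ := by group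
      _ = 1 := by rw [g7]; group
  have hew : e * w = w * e := e1 w hr.wQ
  have hep : e * p = p * e := by rw [hp]; exact comm_mul e3 e2
  have s3 : e * (w * (p * ψ)) * e⁻¹ = w * (p * ψ') := by
    rw [hψ']
    calc e * (w * (p * ψ)) * e⁻¹ = (e * w) * p * ψ * e⁻¹ := by group
      _ = w * (e * p) * ψ * e⁻¹ := by rw [hew]; group
      _ = w * (p * (e * ψ * e⁻¹)) := by rw [hep]; group
  have s4 : IZ Om (w * (p * ψ')) := by rw [← s3]; exact s2.1.conj h e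
  have s5 : PE Om b (w * (p * ψ)) ↔ PE Om b (w * (p * ψ')) := by
    rw [← s3]; exact (PE.conj_comm_iff h e4).symm
  rw [s5]
  have hpψ' : p * ψ' = ψ' * p := by rw [hp]; exact (comm_mul k3 k2).symm
  have hwφ : w * φ = φ * w := (f8 w hr.wQ).symm
  have hwψ' : w * ψ' = ψ' * w := (k1 w hr.wQ).symm
  have hwp : w * p = p * w := (hpQ w hr.wQ).symm
  by_cases hφψ : φ * ψ' = ψ' * φ
  · -- commuting case
    have hc : (w * (p * ψ')) * (w * (p * φ)) = (w * (p * φ)) * (w * (p * ψ')) := by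
      have c1 : ψ' * (w * (p * φ)) = w * (p * φ) * ψ' := comm_mul hwψ'.symm (comm_mul hpψ'.symm hφψ.symm)
      have c2 : p * (w * (p * φ)) = w * (p * φ) * p := comm_mul hwp.symm (comm_mul rfl hpφ)
      have c3 : w * (w * (p * φ)) = w * (p * φ) * w := comm_mul rfl (comm_mul hwp hwφ)
      exact (comm_mul c3.symm (comm_mul c2.symm c1.symm)).symm
    have nz : ∀ a : G, IZ Om (w * (p * a)) → (∀ q ∈ Q, (p * a) * q = q * (p * a)) →
        zz K ≠ w * (p * a) ∧ zz K * (w * (p * a)) = w * (p * a) * zz K := by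
      intro a ha haQ
      refine ⟨?_, comm_mul hzw.symm (haQ _ hzQ).symm⟩
      intro hh
      have h1 : zz K * (w * (p * a)) = 1 := by rw [← hh, hzz]
      exact ((IZ.flip h hK hQ hr.wQ hr.w2 haQ).2 ha).ne_one h h1
    have hpψ'Q : ∀ q ∈ Q, (p * ψ') * q = q * (p * ψ') := fun q hq =>
      (comm_mul (hpQ q hq).symm (k1 q hq).symm).symm
    obtain ⟨n1, n2⟩ := nz ψ' s4 hpψ'Q
    obtain ⟨n3, n4⟩ := nz φ s1.1 hpφQ
    have hbw : b * w = w * b := hbQ w hr.wQ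
    have hbp : b * p = p * b := by rw [hp]; exact comm_mul hbr1 hbr
    exact key_iff h hb2 h3 hbz s4 s1.1 n1 n3 n2 n4 hc (comm_mul hbw (comm_mul hbp k4.symm))
      (comm_mul hbw (comm_mul hbp f12))
  · exfalso
    obtain ⟨m, hm⟩ : ∃ m, m = w * p := ⟨_, rfl⟩
    have hmt : w * (p * φ) = m * φ := by rw [hm]; group
    obtain ⟨d, hd, hdd, hd1⟩ := exists_d h hK hQ (by rw [← hmt]; exact s1.1) hV hφV hψV f7 k5 f8 k1
      (by rw [hm]; exact (comm_mul hwφ.symm hpφ.symm).symm)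
      (by rw [hm]; exact (comm_mul hwψ'.symm hpψ'.symm).symm) hφψ
    have hdC : d ∈ C := by
      have h1 : φ * ψ' ∈ C := C.mul_mem hφC (hVC hψV)
      exact (zpowers_le.2 h1) hd
    obtain ⟨d1, d2, d3, d4⟩ := ofC d hdC
    have h1 := f13.conj h d
    have h2 : d * (w * r) * d⁻¹ = w * r := by
      rw [comm_mul (d1 w hr.wQ) d2, mul_inv_cancel_right]
    rw [h2, hd1] at h1
    have h4 := PE.eq_of_both h (IZ.of hK) (two_of_sq_one f7) (f8 _ hzQ) f13 h1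
    have h5 : zz K * (w * r) = 1 := by rw [h4, hzz]
    exact ((IZ.flip h hK hQ hr.wQ hr.w2 hr.cent).2 hr.mem).ne_one h h5

/-- **V-LEMMA** (1.3) -/
theorem vlemma (h : One Om) (hK : K ∈ Om) (hQ : Syl Q K) (hN : NW Q w) (hr : RW Om K Q w r)
    (hv : ∀ q ∈ Q, v * q = q * v) (hv2 : v * v = zz K) (hvr : v * r = zz K * (r * v))
    (hrv : IZ Om (w * (r * v))) (hb2 : IsPGroup 2 (zpowers b)) (h3 : P3 Om b) (hbz : PE Om b (zz K))
    (hbQ : ∀ q ∈ Q, b * q = q * b) (hbr : b * r = r * b) (hbv : b * v = v * b) :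
    ∃ φ, φ * φ = 1 ∧ (∀ q ∈ Q, φ * q = q * φ) ∧ φ * r = r * φ ∧ φ * v = v * φ ∧ b * φ = φ * b ∧
      RW Om K Q w (v * φ) ∧ PE Om φ (w * (v * φ)) ∧ (PE Om b (w * (v * φ)) ↔ PE Om b (w * r)) := by
  have hzz := h.hyp.zz_mul hK
  have hzQ := zz_mem_syl h hK hQ
  have hzr : r * zz K = zz K * r := hr.cent _ hzQ
  have hzv : v * zz K = zz K * v := hv _ hzQ
  have hzw : w * zz K = zz K * w := sq_comm hr.w2
  obtain ⟨r1, hr1⟩ : ∃ r1, r1 = r * v := ⟨_, rfl⟩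
  have hr1Q : ∀ q ∈ Q, r1 * q = q * r1 := fun q hq => by
    rw [hr1]; exact (comm_mul (hr.cent q hq).symm (hv q hq).symm).symm
  have hr1r : r1 * r = v := by
    rw [hr1]
    calc r * v * r = r * (v * r) := by group
      _ = (r * zz K) * (r * v) := by rw [hvr]; group
      _ = zz K * (r * r) * v := by rw [hzr]; group
      _ = v := by rw [hr.sq, hzz, one_mul]
  have hr12 : r1 * r1 = zz K := by
    calc r1 * r1 = (r1 * r) * v := by nth_rw 2 [hr1]; group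
      _ = zz K := by rw [hr1r, hv2]
  have hanti : r1 * r = zz K * (r * r1) := by
    rw [hr1r, hr1]
    calc v = (zz K * zz K) * v := by rw [hzz, one_mul]
      _ = zz K * (r * (r * v)) := by nth_rw 2 [← hr.sq]; group
  have hR1 : RW Om K Q w r1 := ⟨hr.wQ, hr.w2, hr1Q, hr12, by rw [hr1]; exact hrv⟩
  have hbr1 : b * r1 = r1 * b := by rw [hr1]; exact comm_mul hbr hbv
  obtain ⟨f, φ, f1, f2, f3, f4, f5, f6, f7, f8, f9, f10, f11, f12, f13, f14⟩ :=
    fl h hK hQ hN hr hr1Q hr12 hanti hb2 h3 hbz hbQ hbr hbr1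
  rw [hr1r] at f14
  have hφv : φ * v = v * φ := by rw [← hr1r]; exact comm_mul f10 f9
  have hvφQ : ∀ q ∈ Q, (v * φ) * q = q * (v * φ) := fun q hq =>
    (comm_mul (hv q hq).symm (f8 q hq).symm).symm
  have hvφ2 : v * φ * (v * φ) = zz K := by
    calc v * φ * (v * φ) = v * (φ * v) * φ := by group
      _ = (v * v) * (φ * φ) := by rw [hφv]; group
      _ = zz K := by rw [hv2, f7, mul_one]
  have hφz : φ * zz K = zz K * φ := f8 _ hzQ
  -- transport along `f`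
  have e1 := hR1.mem.conj h f
  have e2 := PE.conj_comm_iff (Om := Om) (t := w * r1) h f6.symm
  have e3 := PE.conj_comm_iff (Om := Om) (t := w * r1) h f11.symm
  have key : IZ Om (w * (v * φ)) ∧ (PE Om b (w * (v * φ)) ↔ PE Om b (w * r1)) ∧
      (PE Om φ (w * (v * φ)) ↔ PE Om φ (w * r1)) := by
    rcases f14 with h1 | h1
    · rw [h1] at e1 e2 e3
      exact ⟨e1, e2, e3⟩
    · rw [h1] at e1 e2 e3
      rw [IZ.flip h hK hQ hr.wQ hr.w2 hvφQ] at e1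
      rw [PE.flip h hK hQ hr.wQ hr.w2 hvφQ hbQ] at e2
      rw [PE.flip h hK hQ hr.wQ hr.w2 hvφQ f8] at e3
      exact ⟨e1, e2, e3⟩
  have hφK : PE Om φ (zz K) := ⟨K, hK, rfl, Q, hQ, f8⟩
  refine ⟨φ, f7, f8, f9, hφv, f12, ⟨hr.wQ, hr.w2, hvφQ, hvφ2, key.1⟩, ?_, ?_⟩
  · rw [key.2.2]
    exact (same_anti h hK hQ hN hr hR1 hanti (two_of_sq_one f7) (P3.of_invol h f7) hφK f8 f9 f10).1 f13
  · rw [key.2.1]
    exact (same_anti h hK hQ hN hr hR1 hanti hb2 h3 hbz hbQ hbr hbr1).symm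

end Cfsg.Agent.Cit.Nil
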