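import Cfsg.Agent.Cit.Nil.WShape
import Cfsg.Agent.Cit.Nil.AbSyl

/-!
# The intersection of the 2-group of a `W` pair with a normal subgroup `X`
-/

set_option autoImplicit false

namespace Cfsg.Agent.Cit.Nil.WShape

open Subgroup OneEndW

variable {G : Type*} [Group G] {S Q Q' : Subgroup G} {c v z c' v' t r s : G} {n : ℕ} {l : ℤ}

/-- the elements `c^a c'^b` and `c^a c'^b s` cover `T` -/
def CovInv (T : Subgroup G) (c c' s : G) : Prop :=
  s ∈ T ∧ s * c = c⁻¹ * s ∧ s * c' = c'⁻¹ * s ∧ s * s = 1 ∧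
    ∀ g ∈ T, ∃ a b : ℤ, g = c ^ a * c' ^ b ∨ g = c ^ a * c' ^ b * s

/-- `T ≤ ⟨c⟩⟨c'⟩` -/
def CovAb (T : Subgroup G) (c c' : G) : Prop := ∀ g ∈ T, ∃ a b : ℤ, g = c ^ a * c' ^ b

theorem inv_of_mul {a b : G} (h : s * a = a⁻¹ * s) (h' : s * b = b⁻¹ * s) (hab : a * b = b * a) (i j : ℤ) :
    s * (a ^ i * b ^ j) = (a ^ i * b ^ j)⁻¹ * s := by
  have e1 : ∀ {x : G}, s * x = x⁻¹ * s → ∀ k : ℤ, s * x ^ k = (x ^ k)⁻¹ * s := by
    intro x hx k
    rw [← mul_inv_eq_iff_eq_mul, ← conj_zpow, mul_inv_eq_iff_eq_mul.2 hx, inv_zpow]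
  have e2 : Commute (a ^ i) (b ^ j) := Commute.zpow_zpow hab i j
  calc s * (a ^ i * b ^ j) = (s * a ^ i) * b ^ j := by group
    _ = (a ^ i)⁻¹ * (s * b ^ j) := by rw [e1 h]; group
    _ = (a ^ i)⁻¹ * (b ^ j)⁻¹ * s := by rw [e1 h']; group
    _ = (b ^ j * a ^ i)⁻¹ * s := by group
    _ = (a ^ i * b ^ j)⁻¹ * s := by rw [e2.eq]

namespace Shp

variable (h : Shp S c c' r l n)
include h

theorem commz (i j : ℤ) : Commute (c ^ i) (c' ^ j) := Commute.zpow_zpow h.comm i j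

theorem mul_form (a b a' b' : ℤ) : (c ^ a * c' ^ b) * (c ^ a' * c' ^ b') = c ^ (a + a') * c' ^ (b + b') := by
  rw [zpow_add, zpow_add]
  calc c ^ a * c' ^ b * (c ^ a' * c' ^ b') = c ^ a * (c' ^ b * c ^ a') * c' ^ b' := by group
    _ = c ^ a * (c ^ a' * c' ^ b) * c' ^ b' := by rw [(h.commz a' b).eq]
    _ = c ^ a * c ^ a' * (c' ^ b * c' ^ b') := by group

theorem mem (a b : ℤ) : c ^ a * c' ^ b ∈ S := S.mul_mem (S.zpow_mem h.cS a) (S.zpow_mem h.c'S b)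

theorem zpow_one_iff (a : ℤ) : c ^ a = 1 ↔ (2 : ℤ) ^ (n + 2) ∣ a := by
  rw [← orderOf_dvd_iff_zpow_eq_one, h.ord]; push_cast; rfl

theorem zpow_one_iff' (a : ℤ) : c' ^ a = 1 ↔ (2 : ℤ) ^ (n + 2) ∣ a := by
  rw [← orderOf_dvd_iff_zpow_eq_one, h.ord']; push_cast; rfl

theorem pow_l_ne : c ^ l ≠ 1 := by
  rw [Ne, h.zpow_one_iff]
  rintro ⟨k, hk⟩
  have h1 := h.odd
  rw [hk, pow_succ, mul_comm ((2 : ℤ) ^ (n + 1)) 2, mul_assoc] at h1
  exact (Int.not_odd_iff_even.2 (even_two_mul _)) h1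

theorem cop : IsCoprime ((2 : ℤ) ^ (n + 2)) l := by
  apply IsCoprime.pow_left
  obtain ⟨k, hk⟩ := h.odd
  exact ⟨-k, 1, by rw [hk]; ring⟩

/-- independence of `c`, `c'` -/
theorem ind {i j : ℤ} (hij : c ^ i * c' ^ j = 1) : (2 : ℤ) ^ (n + 2) ∣ i ∧ (2 : ℤ) ^ (n + 2) ∣ j := by
  obtain ⟨k, m, hkm⟩ := h.cop
  -- `c ^ i = (c ^ l)^(m i)`
  have h1 : c ^ i = (c ^ l) ^ (m * i) := by
    rw [← zpow_mul]
    have h2 : i = l * (m * i) + 2 ^ (n + 2) * (k * i) := by linear_combination (-i) * hkm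
    conv_lhs => rw [h2, zpow_add, (h.zpow_one_iff _).2 (Dvd.intro _ rfl), mul_one]
  have hcl : Commute (c ^ l) c' := Commute.zpow_left (show Commute c c' from h.comm) l
  have h2 : c' ^ (j - m * i) * (c ^ l * c') ^ (m * i) = 1 := by
    rw [hcl.mul_zpow, ← h1]
    have e1 : Commute (c ^ i) (c' ^ (j - m * i)) := h.commz _ _
    calc c' ^ (j - m * i) * (c ^ i * c' ^ (m * i)) = (c' ^ (j - m * i) * c ^ i) * c' ^ (m * i) := by group
      _ = c ^ i * (c' ^ (j - m * i) * c' ^ (m * i)) := by rw [← e1.eq]; group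
      _ = c ^ i * c' ^ j := by rw [← zpow_add]; congr 2; ring
      _ = 1 := hij
  obtain ⟨h3, h4⟩ := h.hc.ind _ _ h2
  have h5 : (2 : ℤ) ^ (n + 2) ∣ j := by
    have : j = (j - m * i) + m * i := by ring
    rw [this]; exact dvd_add h3 h4
  refine ⟨?_, h5⟩
  rw [(h.zpow_one_iff' j).2 h5, mul_one, h.zpow_one_iff] at hij
  exact hij

/-- the homocyclic group `A = ⟨c⟩⟨c'⟩` -/
def AA : Subgroup G where
  carrier := {g | ∃ a b : ℤ, g = c ^ a * c' ^ b}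
  one_mem' := ⟨0, 0, by simp⟩
  mul_mem' := by
    rintro _ _ ⟨a, b, rfl⟩ ⟨a', b', rfl⟩
    exact ⟨_, _, h.mul_form a b a' b'⟩
  inv_mem' := by
    rintro _ ⟨a, b, rfl⟩
    refine ⟨-a, -b, ?_⟩
    rw [mul_inv_rev, ← zpow_neg, ← zpow_neg, (h.commz (-a) (-b)).eq]

theorem mem_AA {g : G} : g ∈ h.AA ↔ ∃ a b : ℤ, g = c ^ a * c' ^ b := Iff.rfl

theorem AA_comm : ∀ a ∈ h.AA, ∀ b ∈ h.AA, a * b = b * a := by
  rintro _ ⟨a, b, rfl⟩ _ ⟨a', b', rfl⟩
  rw [h.mul_form, h.mul_form, add_comm a, add_comm b]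

theorem AA_le : h.AA ≤ S := by
  rintro _ ⟨a, b, rfl⟩
  exact h.mem a b

/-- an odd power of `c` generates `⟨c⟩` -/
theorem mem_of_odd {X : Subgroup G} {k : ℤ} (hk : Odd k) (hX : c ^ k ∈ X) : c ∈ X := by
  have hcop : IsCoprime ((2 : ℤ) ^ (n + 2)) k := by
    apply IsCoprime.pow_left
    obtain ⟨j, hj⟩ := hk
    exact ⟨-j, 1, by rw [hj]; ring⟩
  obtain ⟨a, b, hab⟩ := hcop
  have h1 : c = (c ^ k) ^ b := by
    rw [← zpow_mul]
    have h2 : k * b = 1 + 2 ^ (n + 2) * (-a) := by linear_combination hab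
    rw [h2, zpow_add, (h.zpow_one_iff _).2 (Dvd.intro _ rfl), mul_one, zpow_one]
  rw [h1]; exact X.zpow_mem hX b

theorem mem_of_odd' {X : Subgroup G} {k : ℤ} (hk : Odd k) (hX : c' ^ k ∈ X) : c' ∈ X := by
  have hcop : IsCoprime ((2 : ℤ) ^ (n + 2)) k := by
    apply IsCoprime.pow_left
    obtain ⟨j, hj⟩ := hk
    exact ⟨-j, 1, by rw [hj]; ring⟩
  obtain ⟨a, b, hab⟩ := hcop
  have h1 : c' = (c' ^ k) ^ b := by
    rw [← zpow_mul]
    have h2 : k * b = 1 + 2 ^ (n + 2) * (-a) := by linear_combination hab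
    rw [h2, zpow_add, (h.zpow_one_iff' _).2 (Dvd.intro _ rfl), mul_one, zpow_one]
  rw [h1]; exact X.zpow_mem hX b

/-- **(1)**: `A ≤ X` or all elements of `A ∩ X` are squares -/
theorem dich {X : Subgroup G} [hX : X.Normal] {l2 : ℤ} (hl2 : Odd l2) (e1 : v * c * v⁻¹ = c⁻¹)
    (e2 : v * c' * v⁻¹ = c ^ l * c') (f1 : v' * c' * v'⁻¹ = c'⁻¹) (f2 : v' * c * v'⁻¹ = c' ^ l2 * c) :
    (c ∈ X ∧ c' ∈ X) ∨ ∀ i j : ℤ, c ^ i * c' ^ j ∈ X → Even i ∧ Even j := by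
  by_cases hev : ∀ i j : ℤ, c ^ i * c' ^ j ∈ X → Even i ∧ Even j
  · exact Or.inr hev
  left
  push Not at hev
  obtain ⟨i, j, hij, hn⟩ := hev
  have hcl : Commute (c ^ l) c' := Commute.zpow_left (show Commute c c' from h.comm) l
  have hcl2 : Commute (c' ^ l2) c := Commute.zpow_left (show Commute c' c from h.comm.symm) l2
  -- conjugation by `v`
  have h1 : c ^ (l * j - 2 * i) ∈ X := by
    have h2 := X.mul_mem (hX.conj_mem _ hij v) (X.inv_mem hij)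
    have h3 : v * (c ^ i * c' ^ j) * v⁻¹ * (c ^ i * c' ^ j)⁻¹ = c ^ (l * j - 2 * i) := by
      calc v * (c ^ i * c' ^ j) * v⁻¹ * (c ^ i * c' ^ j)⁻¹
          = (v * c ^ i * v⁻¹) * (v * c' ^ j * v⁻¹) * (c ^ i * c' ^ j)⁻¹ := by group
        _ = c ^ (-i) * (c ^ l * c') ^ j * (c ^ i * c' ^ j)⁻¹ := by
            rw [← conj_zpow, e1, ← conj_zpow, e2, inv_zpow, zpow_neg]
        _ = c ^ (-i) * c ^ (l * j) * (c' ^ j * (c ^ i * c' ^ j)⁻¹) := by
            rw [hcl.mul_zpow, ← zpow_mul]; group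
        _ = c ^ (-i) * c ^ (l * j) * c ^ (-i) := by rw [mul_inv_rev]; group
        _ = c ^ (l * j - 2 * i) := by rw [← zpow_add, ← zpow_add]; congr 1; ring
    rwa [h3] at h2
  -- conjugation by `v'`
  have h1' : c' ^ (l2 * i - 2 * j) ∈ X := by
    have h2 := X.mul_mem (hX.conj_mem _ hij v') (X.inv_mem hij)
    have h3 : v' * (c ^ i * c' ^ j) * v'⁻¹ * (c ^ i * c' ^ j)⁻¹ = c' ^ (l2 * i - 2 * j) := by
      have e3 : Commute (c ^ i) (c' ^ j) := h.commz i j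
      calc v' * (c ^ i * c' ^ j) * v'⁻¹ * (c ^ i * c' ^ j)⁻¹
          = (v' * c ^ i * v'⁻¹) * (v' * c' ^ j * v'⁻¹) * (c ^ i * c' ^ j)⁻¹ := by group
        _ = (c' ^ l2 * c) ^ i * c' ^ (-j) * (c' ^ j * c ^ i)⁻¹ := by
            rw [← conj_zpow, f2, ← conj_zpow, f1, inv_zpow, zpow_neg, e3.eq]
        _ = c' ^ (l2 * i) * (c ^ i * c' ^ (-j)) * (c' ^ j * c ^ i)⁻¹ := by
            rw [hcl2.mul_zpow, ← zpow_mul]; group
        _ = c' ^ (l2 * i) * (c' ^ (-j) * c ^ i) * (c' ^ j * c ^ i)⁻¹ := by rw [(h.commz i (-j)).eq]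
        _ = c' ^ (l2 * i) * c' ^ (-j) * c' ^ (-j) := by group
        _ = c' ^ (l2 * i - 2 * j) := by rw [← zpow_add, ← zpow_add]; congr 1; ring
    rwa [h3] at h2
  by_cases hj : Even j
  · have hi : Odd i := by
      rw [← Int.not_even_iff_odd]
      intro hi
      exact hn hi hj
    have h2 : c' ∈ X := by
      apply h.mem_of_odd' _ h1'
      exact (hl2.mul hi).sub_even (even_two_mul j)
    have h3 : c ^ i ∈ X := by
      have := X.mul_mem hij (X.inv_mem (X.zpow_mem h2 j))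
      rwa [mul_inv_cancel_right] at this
    exact ⟨h.mem_of_odd hi h3, h2⟩
  · rw [Int.not_even_iff_odd] at hj
    have h2 : c ∈ X := by
      apply h.mem_of_odd _ h1
      exact (h.odd.mul hj).sub_even (even_two_mul i)
    have h3 : c' ^ j ∈ X := by
      have := X.mul_mem (X.inv_mem (X.zpow_mem h2 i)) hij
      rwa [inv_mul_cancel_left] at this
    exact ⟨h2, h.mem_of_odd' hj h3⟩

/-- wreathed output -/
theorem wreathed {T : Subgroup G} (hc : c ∈ T) (hc' : c' ∈ T) (hr : r ∈ T)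
    (hT : ∀ g ∈ T, ∃ a b : ℤ, g = c ^ a * c' ^ b ∨ g = c ^ a * c' ^ b * r) : Cfsg.IsWreathed T := by
  refine h.hc.isWreathed hc' (T.mul_mem (T.zpow_mem hc l) hc') hr h.r1 h.rr ?_
  intro g hg
  obtain ⟨a, b, hab⟩ := hT g hg
  obtain ⟨a', b', hab'⟩ := h.conv a b
  refine ⟨a', b', ?_⟩
  rw [← hab']
  exact hab

/-- wreathed output, second form -/
theorem wreathed' {T : Subgroup G} (hc : c ∈ T) (hc' : c' ∈ T) (h1 : s * c = c⁻¹ * s) (h2 : s * c' = c'⁻¹ * s)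
    (hss : s * s = 1) (hrs : r * s = s * r) (hrsT : r * s ∈ T)
    (hT : ∀ g ∈ T, ∃ a b : ℤ, g = c ^ a * c' ^ b ∨ g = c ^ a * c' ^ b * (r * s)) : Cfsg.IsWreathed T := by
  have hHC : HC c' (c ^ l * c')⁻¹ (n + 2) := by
    refine ⟨h.hc.hm, ?_, h.hc.p1, ?_, ?_⟩
    · exact (show Commute c' (c ^ l * c') from h.hc.comm).inv_right.eq
    · rw [inv_pow, h.hc.p2, inv_one]
    · intro a b hab
      rw [inv_zpow, ← zpow_neg] at hab
      obtain ⟨h3, h4⟩ := h.hc.ind _ _ hab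
      exact ⟨h3, (dvd_neg).1 h4⟩
  have hse2 : s * (c ^ l * c') = (c ^ l * c')⁻¹ * s := by
    have := inv_of_mul h1 h2 h.comm l 1
    rwa [zpow_one] at this
  refine hHC.isWreathed (r := r * s) hc' (T.inv_mem (T.mul_mem (T.zpow_mem hc l) hc')) hrsT ?_ ?_ ?_
  · calc r * s * c' = s * (r * c') := by rw [hrs]; group
      _ = (s * (c ^ l * c')) * r := by rw [h.r1]; group
      _ = (c ^ l * c')⁻¹ * (s * r) := by rw [hse2]; group
      _ = (c ^ l * c')⁻¹ * (r * s) := by rw [hrs]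
  · calc r * s * (r * s) = r * (s * r) * s := by group
      _ = (r * r) * (s * s) := by rw [← hrs]; group
      _ = 1 := by rw [h.rr, hss, one_mul]
  · intro g hg
    obtain ⟨a, b, hab⟩ := hT g hg
    obtain ⟨a', b', hab'⟩ := h.conv a b
    refine ⟨a', -b', ?_⟩
    rw [inv_zpow, ← zpow_neg, neg_neg, ← hab']
    exact hab

/-- output of type `G₂` -/
theorem tg2 {T : Subgroup G} (hc : c ∈ T) (hc' : c' ∈ T) (hr : r ∈ T) (hs : s ∈ T) (h1 : s * c = c⁻¹ * s)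
    (h2 : s * c' = c'⁻¹ * s) (hss : s * s = 1) (hrs : r * s = s * r)
    (hT : ∀ g ∈ T, ∃ a b : ℤ, g = c ^ a * c' ^ b ∨ g = c ^ a * c' ^ b * r ∨ g = c ^ a * c' ^ b * s ∨
      g = c ^ a * c' ^ b * (r * s)) : ∃ f r s, SylowG2.Coord.TG2 T (n + 2) f r s := by
  have hse2 : s * (c ^ l * c') = (c ^ l * c')⁻¹ * s := by
    have := inv_of_mul h1 h2 h.comm l 1
    rwa [zpow_one] at this
  refine ⟨vv c' (c ^ l * c') (n + 2), r, s, by omega,
    fun i j => T.mul_mem (T.pow_mem hc' _) (T.pow_mem (T.mul_mem (T.zpow_mem hc l) hc') _), hr, hs,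
    h.hc.vv_zero, h.hc.vv_mul, h.hc.vv_inj, h.hc.r_vv h.r1 h.r2, h.hc.s_vv h2 hse2, h.rr, hss, hrs, ?_⟩
  intro g hg
  obtain ⟨a, b, hab⟩ := hT g hg
  obtain ⟨a', b', hab'⟩ := h.conv a b
  refine ⟨(a' : ZMod (2 ^ (n + 2))), (b' : ZMod (2 ^ (n + 2))), ?_⟩
  rw [h.hc.vv_int, ← hab']
  exact hab

/-- the two shapes of `S` -/
def Two (S : Subgroup G) (c c' r : G) : Prop :=
  (∀ g ∈ S, ∃ a b : ℤ, g = c ^ a * c' ^ b ∨ g = c ^ a * c' ^ b * r) ∨
    ∃ s ∈ S, s * c = c⁻¹ * s ∧ s * c' = c'⁻¹ * s ∧ s * s = 1 ∧ r * s = s * r ∧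
      ∀ g ∈ S, ∃ a b : ℤ, g = c ^ a * c' ^ b ∨ g = c ^ a * c' ^ b * r ∨ g = c ^ a * c' ^ b * s ∨
        g = c ^ a * c' ^ b * (r * s)

/-- **(3)**: the case `A ≤ X` -/
theorem case_le {X : Subgroup G} (hD : Two S c c' r) (hc : c ∈ X) (hc' : c' ∈ X) :
    Cfsg.IsWreathed (S ⊓ X : Subgroup G) ∨ (∃ f r s, SylowG2.Coord.TG2 (S ⊓ X) (n + 2) f r s) ∨
      CovAb (S ⊓ X) c c' ∨ ∃ s, CovInv (S ⊓ X) c c' s := by
  have hcT : c ∈ S ⊓ X := ⟨h.cS, hc⟩
  have hc'T : c' ∈ S ⊓ X := ⟨h.c'S, hc'⟩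
  have hA : ∀ a b : ℤ, c ^ a * c' ^ b ∈ S ⊓ X := fun a b =>
    (S ⊓ X).mul_mem ((S ⊓ X).zpow_mem hcT a) ((S ⊓ X).zpow_mem hc'T b)
  have key : ∀ {a b : ℤ} {u : G}, c ^ a * c' ^ b * u ∈ S ⊓ X → u ∈ S ⊓ X := by
    intro a b u hu
    exact ((S ⊓ X).mul_mem_cancel_left (hA a b)).1 hu
  rcases hD with hD | ⟨s, hsS, h1, h2, hss, hrs, hD⟩
  · by_cases hr : r ∈ S ⊓ X
    · left
      exact h.wreathed hcT hc'T hr fun g hg => hD g hg.1
    · right; right; left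
      intro g hg
      obtain ⟨a, b, hab | hab⟩ := hD g hg.1
      · exact ⟨a, b, hab⟩
      · exfalso
        rw [hab] at hg
        exact hr (key hg)
  · by_cases hr : r ∈ S ⊓ X
    · by_cases hs : s ∈ S ⊓ X
      · right; left
        exact h.tg2 hcT hc'T hr hs h1 h2 hss hrs fun g hg => hD g hg.1
      · left
        refine h.wreathed hcT hc'T hr fun g hg => ?_
        obtain ⟨a, b, hab⟩ := hD g hg.1
        refine ⟨a, b, ?_⟩
        rcases hab with hab | hab | hab | hab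
        · exact Or.inl hab
        · exact Or.inr hab
        · exfalso
          rw [hab] at hg
          exact hs (key hg)
        · exfalso
          rw [hab] at hg
          exact hs (((S ⊓ X).mul_mem_cancel_left hr).1 (key hg))
    · by_cases hs : s ∈ S ⊓ X
      · right; right; right
        refine ⟨s, hs, h1, h2, hss, fun g hg => ?_⟩
        obtain ⟨a, b, hab⟩ := hD g hg.1
        refine ⟨a, b, ?_⟩
        rcases hab with hab | hab | hab | hab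
        · exact Or.inl hab
        · exfalso
          rw [hab] at hg
          exact hr (key hg)
        · exact Or.inr hab
        · exfalso
          rw [hab] at hg
          exact hr (((S ⊓ X).mul_mem_cancel_right hs).1 (key hg))
      · by_cases hrs' : r * s ∈ S ⊓ X
        · left
          refine h.wreathed' hcT hc'T h1 h2 hss hrs hrs' fun g hg => ?_
          obtain ⟨a, b, hab⟩ := hD g hg.1
          refine ⟨a, b, ?_⟩
          rcases hab with hab | hab | hab | hab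
          · exact Or.inl hab
          · exfalso
            rw [hab] at hg
            exact hr (key hg)
          · exfalso
            rw [hab] at hg
            exact hs (key hg)
          · exact Or.inr hab
        · right; right; left
          intro g hg
          obtain ⟨a, b, hab⟩ := hD g hg.1
          refine ⟨a, b, ?_⟩
          rcases hab with hab | hab | hab | hab
          · exact hab
          · exfalso
            rw [hab] at hg
            exact hr (key hg)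
          · exfalso
            rw [hab] at hg
            exact hs (key hg)
          · exfalso
            rw [hab] at hg
            exact hrs' (key hg)

/-- an element of `A r` moves `c'` by `c^l` -/
theorem conj_r (a b : ℤ) : (c ^ a * c' ^ b * r) * c' * (c ^ a * c' ^ b * r)⁻¹ * c'⁻¹ = c ^ l := by
  have e1 : Commute (c ^ a * c' ^ b) (c ^ l * c') := by
    have h1 := h.AA_comm _ (h.mem_AA.2 ⟨a, b, rfl⟩) (c ^ l * c') (h.mem_AA.2 ⟨l, 1, by rw [zpow_one]⟩)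
    exact h1
  calc (c ^ a * c' ^ b * r) * c' * (c ^ a * c' ^ b * r)⁻¹ * c'⁻¹
      = (c ^ a * c' ^ b) * (r * c') * r⁻¹ * (c ^ a * c' ^ b)⁻¹ * c'⁻¹ := by group
    _ = ((c ^ a * c' ^ b) * (c ^ l * c')) * (c ^ a * c' ^ b)⁻¹ * c'⁻¹ := by rw [h.r1]; group
    _ = c ^ l := by rw [e1.eq]; group

theorem conj_rs (_h1 : s * c = c⁻¹ * s) (h2 : s * c' = c'⁻¹ * s) (a b : ℤ) :
    (c ^ a * c' ^ b * (r * s)) * c' * (c ^ a * c' ^ b * (r * s))⁻¹ * c'⁻¹ = c ^ (-l) * c' ^ (-2 : ℤ) := by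
  have e1 : Commute (c ^ a * c' ^ b) (c ^ l * c')⁻¹ := by
    have h3 := h.AA_comm _ (h.mem_AA.2 ⟨a, b, rfl⟩) _
      (h.AA.inv_mem (h.mem_AA.2 (⟨l, 1, by rw [zpow_one]⟩ : ∃ a b : ℤ, c ^ l * c' = c ^ a * c' ^ b)))
    exact h3
  have e2 : r * c'⁻¹ = (c ^ l * c')⁻¹ * r := by
    have h3 := mul_inv_eq_iff_eq_mul.2 h.r1
    rw [← mul_inv_eq_iff_eq_mul, ← h3]; group
  have e3 : Commute (c ^ (-l)) (c' ^ (-1 : ℤ)) := h.commz _ _
  calc (c ^ a * c' ^ b * (r * s)) * c' * (c ^ a * c' ^ b * (r * s))⁻¹ * c'⁻¹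
      = (c ^ a * c' ^ b) * r * (s * c') * s⁻¹ * r⁻¹ * (c ^ a * c' ^ b)⁻¹ * c'⁻¹ := by group
    _ = (c ^ a * c' ^ b) * (r * c'⁻¹) * r⁻¹ * (c ^ a * c' ^ b)⁻¹ * c'⁻¹ := by rw [h2]; group
    _ = ((c ^ a * c' ^ b) * (c ^ l * c')⁻¹) * (c ^ a * c' ^ b)⁻¹ * c'⁻¹ := by rw [e2]; group
    _ = (c' ^ (-1 : ℤ) * c ^ (-l)) * c'⁻¹ := by rw [e1.eq]; group
    _ = c ^ (-l) * c' ^ (-2 : ℤ) := by rw [← e3.eq]; group

theorem conj_s (h1 : s * c = c⁻¹ * s) (h2 : s * c' = c'⁻¹ * s) (a b : ℤ) :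
    (c ^ a * c' ^ b * s) * c = c⁻¹ * (c ^ a * c' ^ b * s) ∧
      (c ^ a * c' ^ b * s) * c' = c'⁻¹ * (c ^ a * c' ^ b * s) := by
  have e1 : Commute (c ^ a * c' ^ b) c⁻¹ := h.AA_comm _ (h.mem_AA.2 ⟨a, b, rfl⟩) _
    (h.mem_AA.2 ⟨-1, 0, by simp⟩)
  have e2 : Commute (c ^ a * c' ^ b) c'⁻¹ := h.AA_comm _ (h.mem_AA.2 ⟨a, b, rfl⟩) _
    (h.mem_AA.2 ⟨0, -1, by simp⟩)
  constructor
  · calc (c ^ a * c' ^ b * s) * c = (c ^ a * c' ^ b) * (s * c) := by group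
      _ = ((c ^ a * c' ^ b) * c⁻¹) * s := by rw [h1]; group
      _ = _ := by rw [e1.eq]; group
  · calc (c ^ a * c' ^ b * s) * c' = (c ^ a * c' ^ b) * (s * c') := by group
      _ = ((c ^ a * c' ^ b) * c'⁻¹) * s := by rw [h2]; group
      _ = _ := by rw [e2.eq]; group

/-- **(2)**: the case where all elements of `A ∩ X` are squares -/
theorem case_ev {X : Subgroup G} [hX : X.Normal] (hD : Two S c c' r)
    (hev : ∀ i j : ℤ, c ^ i * c' ^ j ∈ X → Even i ∧ Even j) :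
    CovAb (S ⊓ X) c c' ∨ ∃ s, CovInv (S ⊓ X) c c' s := by
  have key : ∀ {g : G}, g ∈ X → g * c' * g⁻¹ * c'⁻¹ ∈ X := by
    intro g hg
    have h1 := X.mul_mem hg (hX.conj_mem _ (X.inv_mem hg) c')
    have h2 : g * (c' * g⁻¹ * c'⁻¹) = g * c' * g⁻¹ * c'⁻¹ := by group
    rwa [h2] at h1
  have hlo := h.odd
  rcases hD with hD | ⟨s, hsS, h1, h2, hss, hrs, hD⟩
  · left
    intro g hg
    obtain ⟨a, b, hab | hab⟩ := hD g hg.1
    · exact ⟨a, b, hab⟩
    · exfalso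
      have h3 := key hg.2
      rw [hab, h.conj_r] at h3
      have h4 := (hev l 0 (by rwa [zpow_zero, mul_one])).1
      exact (Int.not_odd_iff_even.2 h4) hlo
  · have hno : ∀ g ∈ S ⊓ X, ∃ a b : ℤ, g = c ^ a * c' ^ b ∨ g = c ^ a * c' ^ b * s := by
      intro g hg
      obtain ⟨a, b, hab⟩ := hD g hg.1
      refine ⟨a, b, ?_⟩
      rcases hab with hab | hab | hab | hab
      · exact Or.inl hab
      · exfalso
        have h3 := key hg.2
        rw [hab, h.conj_r] at h3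
        have h4 := (hev l 0 (by rwa [zpow_zero, mul_one])).1
        exact (Int.not_odd_iff_even.2 h4) hlo
      · exact Or.inr hab
      · exfalso
        have h3 := key hg.2
        rw [hab, h.conj_rs h1 h2] at h3
        have h4 := (hev _ _ h3).1
        exact (Int.not_odd_iff_even.2 h4) hlo.neg
    by_cases hA : CovAb (S ⊓ X) c c'
    · exact Or.inl hA
    right
    unfold CovAb at hA
    push Not at hA
    obtain ⟨g, hg, hgA⟩ := hA
    obtain ⟨a, b, hab | hab⟩ := hno g hg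
    · exact absurd hab (hgA a b)
    obtain ⟨h3, h4⟩ := h.conj_s h1 h2 a b
    rw [← hab] at h3 h4
    have h5 : g * g = 1 := by
      rw [hab]
      have e1 := inv_of_mul h1 h2 h.comm a b
      calc c ^ a * c' ^ b * s * (c ^ a * c' ^ b * s) = c ^ a * c' ^ b * (s * (c ^ a * c' ^ b)) * s := by group
        _ = c ^ a * c' ^ b * ((c ^ a * c' ^ b)⁻¹ * s) * s := by rw [e1]
        _ = s * s := by group
        _ = 1 := hss
    refine ⟨g, hg, h3, h4, h5, fun k hk => ?_⟩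
    obtain ⟨a', b', hab' | hab'⟩ := hno k hk
    · exact ⟨a', b', Or.inl hab'⟩
    · refine ⟨a' - a, b' - b, Or.inr ?_⟩
      rw [hab', hab, ← mul_assoc, h.mul_form, sub_add_cancel, sub_add_cancel]

end Shp

end Cfsg.Agent.Cit.Nil.WShape
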