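import Cfsg.Agent.Cit.Nil.WW

/-!
# (6b), `n = 1`: two `W` involutions with different `w` (1.6)
-/

set_option autoImplicit false
set_option linter.style.haveILetI false
set_option linter.unusedSectionVars false

namespace Cfsg.Agent.Cit.Nil

open Subgroup Cfsg Cit OneBasic OneF

variable {G : Type*} [Group G] [Finite G] {Om : Set (Subgroup G)} {K L Q U : Subgroup G}
  {w w1 r r1 v f b c t s m e φ φ1 φ2 : G}

namespace BCtx

variable (B : BCtx Om K Q U b)
include B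

/-- 1.6 (a) -/
theorem diff_comm (hN : NW Q w) (hN1 : NW Q w1) (h8 : QEight Q (zz K) w w1) (h8' : QEight Q (zz K) w1 w)
    (hanti : w1 * w = zz K * (w * w1)) (hr : RW Om K Q w r) (hr1 : RW Om K Q w1 r1) (hc : r * r1 = r1 * r)
    (hbr : b * r = r * b) (hbr1 : b * r1 = r1 * b) :
    RW Om K Q (w * w1) r ∧ (PE Om b ((w * w1) * r) ↔ PE Om b (w * r)) ∧
      (PE Om b (w * r) ↔ PE Om b (w1 * r1)) := by
  have h := B.one
  have hK := B.hK
  have hQ := B.hQ
  have hzz := h.hyp.zz_mul B.hK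
  have hzQ := zz_mem_syl h B.hK B.hQ
  have hzw : w * zz K = zz K * w := sq_comm hr.w2
  have hwwQ : w * w1 ∈ Q := Q.mul_mem hr.wQ hr1.wQ
  have hww2 : w * w1 * (w * w1) = zz K := by
    calc w * w1 * (w * w1) = w * (w1 * w) * w1 := by group
      _ = (w * zz K) * (w * w1) * w1 := by rw [hanti]; group
      _ = zz K * (w * w) * (w1 * w1) := by rw [hzw]; group
      _ = zz K := by rw [hr.w2, hr1.w2, hzz, one_mul]
  have hanti' : w * w1 = zz K * (w1 * w) := by rw [hanti, ← mul_assoc, hzz, one_mul]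
  obtain ⟨f, f1, f2, f3, f4, f5, f6, f7⟩ := fl0 h hK hQ hN hr hr1.cent (isP_four h hK hr1.sq) hc.symm B.hb2
    B.h3 B.hbz B.bQ hbr hbr1
  obtain ⟨g, g1, g2, g3, g4, g5, g6, g7⟩ := fl0 h hK hQ hN1 hr1 hr.cent (isP_four h hK hr.sq) hc B.hb2
    B.h3 B.hbz B.bQ hbr1 hbr
  have F : IZ Om ((w * w1) * r1) ∧ (PE Om b ((w * w1) * r1) ↔ PE Om b (w1 * r1)) := by
    have e1 := hr1.mem.conj h f
    have e2 := PE.conj_comm_iff (Om := Om) (t := w1 * r1) h f6.symm
    have e0 : f * (w1 * r1) * f⁻¹ = (f * w1 * f⁻¹) * r1 := by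
      calc f * (w1 * r1) * f⁻¹ = (f * w1 * f⁻¹) * (f * r1 * f⁻¹) := by group
        _ = (f * w1 * f⁻¹) * r1 := by rw [← f7, mul_inv_cancel_right]
    rw [e0] at e1 e2
    rcases f_conj h hK hQ hr hr1.wQ hr1.w2 hanti h8 f1 f2 f4 f5 with h1 | h1
    · rw [h1] at e1 e2
      exact ⟨e1, e2⟩
    · rw [h1, mul_assoc (zz K)] at e1 e2
      rw [IZ.flip h hK hQ hwwQ hww2 hr1.cent] at e1
      rw [PE.flip h hK hQ hwwQ hww2 hr1.cent B.bQ] at e2
      exact ⟨e1, e2⟩
  have F' : IZ Om ((w * w1) * r) ∧ (PE Om b ((w * w1) * r) ↔ PE Om b (w * r)) := by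
    have e1 := hr.mem.conj h g
    have e2 := PE.conj_comm_iff (Om := Om) (t := w * r) h g6.symm
    have e0 : g * (w * r) * g⁻¹ = (g * w * g⁻¹) * r := by
      calc g * (w * r) * g⁻¹ = (g * w * g⁻¹) * (g * r * g⁻¹) := by group
        _ = (g * w * g⁻¹) * r := by rw [← g7, mul_inv_cancel_right]
    rw [e0] at e1 e2
    rcases f_conj h hK hQ hr1 hr.wQ hr.w2 hanti' h8' g1 g2 g4 g5 with h1 | h1
    · rw [h1, hanti, mul_assoc (zz K)] at e1 e2
      rw [IZ.flip h hK hQ hwwQ hww2 hr.cent] at e1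
      rw [PE.flip h hK hQ hwwQ hww2 hr.cent B.bQ] at e2
      exact ⟨e1, e2⟩
    · rw [h1, ← hanti'] at e1 e2
      exact ⟨e1, e2⟩
  have R1 : RW Om K Q (w * w1) r := ⟨hwwQ, hww2, hr.cent, hr.sq, F'.1⟩
  have R2 : RW Om K Q (w * w1) r1 := ⟨hwwQ, hww2, hr1.cent, hr1.sq, F.1⟩
  refine ⟨R1, F'.2, ?_⟩
  rw [← F'.2, ← F.2]
  exact B.ww_comm R1 R2 hc

/-- 1.6 (b): anticommuting `r`, `r1` -/
theorem diff_anti (hanti : w1 * w = zz K * (w * w1)) (hr : RW Om K Q w r) (hr1 : RW Om K Q w1 r1)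
    (ha : r1 * r = zz K * (r * r1)) :
    (w * r) * (w1 * r1) = (w1 * r1) * (w * r) ∧ RW Om K Q (w * w1) (r * r1) ∧
      (w * r) * (w1 * r1) = (w * w1) * (r * r1) := by
  have h := B.one
  have hK := B.hK
  have hQ := B.hQ
  have hzz := h.hyp.zz_mul B.hK
  have hzw : w * zz K = zz K * w := sq_comm hr.w2
  have hwwQ : w * w1 ∈ Q := Q.mul_mem hr.wQ hr1.wQ
  have hww2 : w * w1 * (w * w1) = zz K := by
    calc w * w1 * (w * w1) = w * (w1 * w) * w1 := by group
      _ = (w * zz K) * (w * w1) * w1 := by rw [hanti]; group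
      _ = zz K * (w * w) * (w1 * w1) := by rw [hzw]; group
      _ = zz K := by rw [hr.w2, hr1.w2, hzz, one_mul]
  have hzr : r * zz K = zz K * r := sq_comm hr.sq
  have hrr2 : r * r1 * (r * r1) = zz K := by
    calc r * r1 * (r * r1) = r * (r1 * r) * r1 := by group
      _ = (r * zz K) * (r * r1) * r1 := by rw [ha]; group
      _ = zz K * (r * r) * (r1 * r1) := by rw [hzr]; group
      _ = zz K := by rw [hr.sq, hr1.sq, hzz, one_mul]
  have e1 : (w * r) * (w1 * r1) = (w * w1) * (r * r1) := by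
    calc (w * r) * (w1 * r1) = w * (r * w1) * r1 := by group
      _ = (w * w1) * (r * r1) := by rw [hr.cent w1 hr1.wQ]; group
  have e2 : (w1 * r1) * (w * r) = (w * w1) * (r * r1) := by
    calc (w1 * r1) * (w * r) = w1 * (r1 * w) * r := by group
      _ = (w1 * w) * (r1 * r) := by rw [hr1.cent w hr.wQ]; group
      _ = zz K * w * w1 * (zz K * r) * r1 := by rw [hanti, ha]; group
      _ = zz K * w * (w1 * (r * zz K)) * r1 := by rw [hzr]; group
      _ = zz K * (w * w1) * r * (zz K * r1) := by group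
      _ = zz K * (w * w1) * (r * zz K) * r1 := by group
      _ = (zz K * (w * w1) * zz K) * (r * r1) := by rw [hzr]; group
      _ = (w * w1) * (r * r1) := by
        have h5 : w * w1 * zz K = zz K * (w * w1) := by
          rw [← hww2]; group
        rw [mul_assoc (zz K), h5, ← mul_assoc (zz K) (zz K), hzz, one_mul]
  have hc : (w * r) * (w1 * r1) = (w1 * r1) * (w * r) := by rw [e1, e2]
  have hne : w * r ≠ w1 * r1 := by
    intro hh
    have h1 := hr.mem.mul_self h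
    nth_rw 2 [hh] at h1
    rw [e1] at h1
    -- `(w w1)(r r1) = 1`, so `w w1` centralises `Q`
    have h2 : w * w1 = (r * r1)⁻¹ := eq_inv_of_mul_eq_one_left h1
    have h3 : (w * w1) * w = w * (w * w1) := by
      rw [h2]
      exact comm_inv (comm_mul (hr.cent w hr.wQ).symm (hr1.cent w hr.wQ).symm) |>.symm
    have h4 : w * w1 * w = zz K * (w * (w * w1)) := by
      calc w * w1 * w = w * (w1 * w) := by group
        _ = (w * zz K) * (w * w1) := by rw [hanti]; group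
        _ = zz K * (w * (w * w1)) := by rw [hzw]; group
    rw [h3] at h4
    exact h.hyp.zz_ne hK (mul_eq_right.1 h4.symm)
  have hm : IZ Om ((w * w1) * (r * r1)) := by
    rw [← e1]; exact hr.mem.mul h hr1.mem hne hc
  exact ⟨hc, ⟨hwwQ, hww2, fun q hq => (comm_mul (hr.cent q hq).symm (hr1.cent q hq).symm).symm, hrr2, hm⟩, e1⟩

/-- **1.6** -/
theorem diff (hN : NW Q w) (hN1 : NW Q w1) (h8 : QEight Q (zz K) w w1) (h8' : QEight Q (zz K) w1 w)
    (hanti : w1 * w = zz K * (w * w1)) (hr : RW Om K Q w r) (hr1 : RW Om K Q w1 r1) (hrU : r ∈ U)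
    (hr1U : r1 ∈ U) : PE Om b (w * r) ↔ PE Om b (w1 * r1) := by
  have h := B.one
  have hK := B.hK
  have hQ := B.hQ
  have hzz := h.hyp.zz_mul B.hK
  have hzQ := zz_mem_syl h B.hK B.hQ
  have hbr : b * r = r * b := B.hbU r hrU
  have hbr1 : b * r1 = r1 * b := B.hbU r1 hr1U
  by_cases hc : r * r1 = r1 * r
  · exact (B.diff_comm hN hN1 h8 h8' hanti hr hr1 hc hbr hbr1).2.2
  by_cases ha : r1 * r = zz K * (r * r1)
  · exact B.key_ww hr hr1 hbr hbr1 (B.diff_anti hanti hr hr1 ha).1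
  obtain ⟨i1, i2, v, hvc, hv2, hcase⟩ := exists_v h hK hQ hr hr1.cent hr1.sq B.hU hrU hr1U hc
  obtain ⟨c, hcd⟩ : ∃ c, c = r⁻¹ * r1 := ⟨_, rfl⟩
  rw [← hcd] at i1 i2 hvc hcase
  have hcQ : ∀ q ∈ Q, c * q = q * c := by
    intro q hq
    rw [hcd]
    exact (comm_mul (comm_inv (hr.cent q hq).symm) (hr1.cent q hq).symm).symm
  have hbc : b * c = c * b := by rw [hcd]; exact comm_mul (comm_inv hbr) hbr1
  have hvQ : ∀ q ∈ Q, v * q = q * v := fun q hq => (comm_zpowers (hcQ q hq).symm hvc).symm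
  have hbv : b * v = v * b := comm_zpowers hbc hvc
  have a1 := anti_of_inv h hK hv2 (hvQ _ hzQ) (inv_zpowers i1 hvc)
  have a2 := anti_of_inv h hK hv2 (hvQ _ hzQ) (inv_zpowers i2 hvc)
  rcases hcase with h1 | ⟨e, he, he2⟩
  · exfalso
    apply ha
    have h2 := anti_of_inv h hK h1 (hcQ _ hzQ) i1
    have h3 : r1 = r * c := by rw [hcd]; group
    rw [h3]
    calc r * c * r = r * (c * r) := by group
      _ = (r * zz K) * (r * c) := by rw [h2]; group
      _ = zz K * (r * (r * c)) := by rw [hr.cent _ hzQ]; group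
  have heQ : ∀ q ∈ Q, e * q = q * e := fun q hq => (comm_zpowers (hcQ q hq).symm he).symm
  have m1 := iz_root h hK hQ hr heQ hvQ he2 (inv_zpowers i1 he) a1
  have m2 := iz_root h hK hQ hr1 heQ hvQ he2 (inv_zpowers i2 he) a2
  obtain ⟨φ, p1, p2, p3, p4, p5, p6, p7, p8⟩ :=
    vlemma h hK hQ hN hr hvQ hv2 a1 m1 B.hb2 B.h3 B.hbz B.bQ hbr hbv
  obtain ⟨φ1, q1, q2, q3, q4, q5, q6, q7, q8⟩ :=
    vlemma h hK hQ hN1 hr1 hvQ hv2 a2 m2 B.hb2 B.h3 B.hbz B.bQ hbr1 hbv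
  obtain ⟨ψ, k1, k2, k3, k4, k5, k6, k7⟩ :=
    B.joint p6 q6 hvQ hbv p1 q1 p2 q2 p4 q4 p5 q5 p7
  rw [← p8, ← q8, ← k7]
  refine (B.diff_comm hN hN1 h8 h8' hanti p6 k6 ?_ (comm_mul hbv p5) (comm_mul hbv k4)).2.2
  have c1 : v * (v * ψ) = v * ψ * v := comm_mul rfl k3.symm
  have c2 : φ * (v * ψ) = v * ψ * φ := comm_mul p4 k5
  exact (comm_mul c1.symm c2.symm).symm

end BCtx

end Cfsg.Agent.Cit.Nil
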