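import Cfsg.Agent.Cit.Nil.Defs
import Cfsg.Agent.Cit.OneEndGlue

/-!
# Type `W`: an involution of `Z ∩ X` inverting `⟨x⟩` and `⟨x'⟩`

`X` a normal subgroup of `G` with `Q ∩ X ≤ ⟨x⟩` and `x^(2^n) ∈ X` (so `Q ∩ X` is cyclic of order at least 4).
Then no classical involution `u ∈ X ∩ T` inverts `x` and `x'` (`false_of_inv`).
(Section 5 of blueprints/CIT-6b-One-helper454.md.)
-/

set_option autoImplicit false
set_option linter.style.haveILetI false
set_option linter.unusedSectionVars false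

namespace Cfsg.Agent.Cit.Nil.WInv

open Subgroup Cfsg Cit OneBasic OneF

variable {G : Type*} [Group G] [Finite G] {Om : Set (Subgroup G)}

/-- the core: `u ∈ Z ∩ X` normalises `Q` and commutes with an element `v1` of order `4` of `Q`; the elements of `Q ∩ X`
commute with `w ∈ Q ∩ X`. Then `u` commutes with `w`. -/
theorem false_of_W (h : One Om) {K Q X : Subgroup G} [hXn : X.Normal] (hK : K ∈ Om) (hQ : Syl Q K) {w u v1 : G}
    (hQX : ∀ q ∈ Q, q ∈ X → q * w = w * q) (hwQ : w ∈ Q) (hwX : w ∈ X)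
    (huQ : u ∈ normalizer (Q : Set G)) (huX : u ∈ X) (huZ : IZ Om u) (huz : u * zz K = zz K * u)
    (huw : u * w ≠ w * u) (hv1 : v1 ∈ Q) (hv2 : v1 * v1 = zz K) (huv : u * v1 = v1 * u) : False := by
  obtain ⟨M, hM, hMu⟩ := huZ
  have hKM : K ≠ M := by
    rintro rfl
    apply huw
    rw [← hMu]
    exact (h.hyp.comm_zz hK (le_normalizer (hQ.1 hwQ))).symm
  have huK : u ∈ normalizer (K : Set G) := h.mem_normalizer hK huz
  have hu2 : IsPGroup 2 (zpowers u) := by rw [← hMu]; exact isPGroup_zpowers_zz h.hyp hM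
  have hv2' : IsPGroup 2 (zpowers v1) := by
    apply IsPGroup.of_card (n := 2)
    rw [Nat.card_zpowers]
    exact GQ.orderOf_of_sq hv2 (h.hyp.zz_mul hK) (h.hyp.zz_ne hK)
  have hA : IsPGroup 2 (zpowers u ⊔ zpowers v1 : Subgroup G) := exists_two_of_commute hu2 hv2' huv
  have hAK : zpowers u ⊔ zpowers v1 ≤ normalizer (K : Set G) := by
    rw [sup_le_iff, zpowers_le, zpowers_le]
    exact ⟨huK, le_normalizer (hQ.1 hv1)⟩
  have hAM : zpowers u ⊔ zpowers v1 ≤ normalizer (M : Set G) := by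
    rw [sup_le_iff, zpowers_le, zpowers_le]
    exact ⟨h.mem_normalizer hM (by rw [hMu]), h.mem_normalizer hM (by rw [hMu]; exact huv.symm)⟩
  obtain ⟨T, Q1, Q2, hAT, p⟩ := h.exists_pair hK hM hKM (by rw [hMu]; exact huz.symm) hA hAK hAM
  have huT : u ∈ T := hAT (mem_sup_left (mem_zpowers u))
  have hv1T : v1 ∈ T := hAT (mem_sup_right (mem_zpowers v1))
  have hv1Q1 : v1 ∈ Q1 := by
    have h1 : K ⊓ T ≤ Q1 := syl_le_of_normalizes' p.hQ (p.tp.to_le inf_le_right) inf_le_left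
      (inf_le_right.trans p.hTQ)
    exact h1 ⟨hQ.1 hv1, hv1T⟩
  obtain ⟨x, y, x', y', n, c⟩ := p.exists_co h
  have hv1M : v1 * zz M = zz M * v1 := by rw [hMu]; exact huv.symm
  have hW' : zz K * x' = x' * zz K := c.key h hv1Q1 hv1M hv2
  have hW : zz M * x = x * zz M := by
    rcases c.dich h with ⟨-, h1⟩ | ⟨h1, -⟩
    · exact h1
    · exfalso
      rcases h1 v1 hv1Q1 hv1M with h2 | h2
      · rw [h2, one_mul] at hv2
        exact h.hyp.zz_ne hK hv2.symm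
      · rw [h2, h.hyp.zz_mul hK] at hv2
        exact h.hyp.zz_ne hK hv2.symm
  obtain ⟨hxx, l, hlo, hl⟩ := OneEndGlue.Fr.exists_l p h c hW hW'
  have hx'T : x' ∈ T := p.symm.mem_T h c.gq'.c_mem hW'.symm
  -- conjugation of `⟨u⟩ Q` to `⟨u⟩ Q1` by an element of `K`
  have huK' : zpowers u ≤ normalizer (K : Set G) := zpowers_le.2 huK
  obtain ⟨hS, hKQ⟩ := syl_sup hu2 huK' hQ (zpowers_le.2 huQ)
  obtain ⟨hS1, hKQ1⟩ := syl_sup hu2 huK' p.hQ (zpowers_le.2 (p.hTQ huT))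
  obtain ⟨m, hm, hmS⟩ := hS.exists_conj hS1
  obtain ⟨a, ha, k, hk, hak⟩ := exists_mul_of_mem_sup huK' hm
  obtain ⟨b, hb, hbm⟩ : ∃ b ∈ K, m = b * a := by
    refine ⟨a * k * a⁻¹, ?_, by rw [hak]; group⟩
    exact (mem_normalizer_iff.1 (huK' ha) k).1 hk
  have hbS : cj b (zpowers u ⊔ Q) = zpowers u ⊔ Q1 := by
    rw [← hmS, hbm, cj_mul]
    congr 1
    symm
    rw [← mem_normalizer_iff_cj]
    exact le_normalizer (mem_sup_left ha)
  have hbQ : cj b Q = Q1 := by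
    have h1 : cj b (K ⊓ (zpowers u ⊔ Q)) = K ⊓ (zpowers u ⊔ Q1) := by
      rw [cj_inf, hbS, mem_normalizer_iff_cj.1 (le_normalizer hb)]
    rwa [hKQ, hKQ1] at h1
  -- `q = b u b⁻¹ u⁻¹ ∈ Q1 ∩ X`
  obtain ⟨q, hq⟩ : ∃ q, q = b * u * b⁻¹ * u⁻¹ := ⟨_, rfl⟩
  have hqK : q ∈ K := by
    have h1 := (mem_normalizer_iff.1 huK b⁻¹).1 (K.inv_mem hb)
    have h2 := K.mul_mem hb h1
    rw [hq]; simpa [mul_assoc] using h2
  have hqQ1 : q ∈ Q1 := by
    rw [← hKQ1]
    refine ⟨hqK, ?_⟩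
    have h1 : b * u * b⁻¹ ∈ zpowers u ⊔ Q1 := by
      rw [← hbS]
      exact conj_mem_cj (mem_sup_left (mem_zpowers u))
    rw [hq]
    exact (zpowers u ⊔ Q1).mul_mem h1 ((zpowers u ⊔ Q1).inv_mem (mem_sup_left (mem_zpowers u)))
  have hqX : q ∈ X := by
    rw [hq]; exact mul_mem (hXn.conj_mem u huX b) (inv_mem huX)
  -- `w1 = b w b⁻¹`
  obtain ⟨w1, hw1⟩ : ∃ w1, w1 = b * w * b⁻¹ := ⟨_, rfl⟩
  have hw1Q : w1 ∈ Q1 := by rw [hw1, ← hbQ]; exact conj_mem_cj hwQ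
  have hw1X : w1 ∈ X := by rw [hw1]; exact hXn.conj_mem w hwX b
  have hcomm : ∀ g ∈ Q1, g ∈ X → g * w1 = w1 * g := by
    intro g hg hgX
    rw [← hbQ, mem_cj] at hg
    have h1 := hQX _ hg (by
      have := hXn.conj_mem g hgX b⁻¹
      rwa [inv_inv] at this)
    rw [hw1]
    calc g * (b * w * b⁻¹) = b * ((b⁻¹ * g * b) * w) * b⁻¹ := by group
      _ = b * (w * (b⁻¹ * g * b)) * b⁻¹ := by rw [h1]
      _ = _ := by group
  have huw1 : u * w1 ≠ w1 * u := by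
    intro h1
    apply huw
    have h2 : q * u * w1 = w1 * (q * u) := by
      rw [mul_assoc, h1, ← mul_assoc, hcomm q hqQ1 hqX, mul_assoc]
    have h3 : q * u = b * u * b⁻¹ := by rw [hq]; group
    rw [h3, hw1] at h2
    have h4 : b * (u * w) * b⁻¹ = b * (w * u) * b⁻¹ := by
      calc b * (u * w) * b⁻¹ = b * u * b⁻¹ * (b * w * b⁻¹) := by group
        _ = b * w * b⁻¹ * (b * u * b⁻¹) := h2
        _ = _ := by group
    exact mul_left_cancel (mul_right_cancel h4)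
  have hux : Commute u x := by rw [← hMu]; exact hW
  rcases c.gq.covZ hw1Q with ⟨i, hi⟩ | ⟨i, hi⟩
  · apply huw1
    have hi' : x ^ i = w1 := hi
    rw [← hi']
    exact (hux.zpow_right i).eq
  · -- `x'` moves `w1` to `w1 x^l`
    have h1 : x' * w1 * x'⁻¹ = w1 * x ^ l := by
      have e1 : x' * x ^ i = x ^ i * x' := (Commute.zpow_right (show Commute x' x from hxx.symm) i).eq
      rw [hi]
      calc x' * (y * x ^ i) * x'⁻¹ = (x' * y * x'⁻¹) * (x' * x ^ i) * x'⁻¹ := by group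
        _ = y * x ^ l * (x ^ i * x') * x'⁻¹ := by rw [hl, e1]
        _ = y * (x ^ l * x ^ i) := by group
        _ = y * (x ^ i * x ^ l) := by rw [← zpow_add, ← zpow_add, add_comm]
        _ = y * x ^ i * x ^ l := by group
    have h2 : x ^ l ∈ X := by
      have h3 := mul_mem (inv_mem hw1X) (hXn.conj_mem w1 hw1X x')
      rwa [h1, inv_mul_cancel_left] at h3
    have h3 := hcomm _ (Q1.zpow_mem c.gq.c_mem l) h2
    rw [hi] at h3
    have e4 : x ^ l * (y * x ^ i) = y * x ^ i * x ^ (-l) := by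
      calc x ^ l * (y * x ^ i) = (x ^ l * y) * x ^ i := by group
        _ = y * (x ^ (-l) * x ^ i) := by rw [c.gq.zpow_v]; group
        _ = y * (x ^ i * x ^ (-l)) := by rw [← zpow_add, ← zpow_add, add_comm]
        _ = _ := by group
    rw [e4] at h3
    have h5 := mul_left_cancel h3
    have h9 : x ^ (2 * l) = 1 := by
      calc x ^ (2 * l) = x ^ l * x ^ l := by rw [← zpow_add]; congr 1; ring
        _ = x ^ l * x ^ (-l) := by rw [← h5]
        _ = 1 := by group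
    rw [c.gq.zpow_eq_one_iff] at h9
    obtain ⟨r, hr⟩ := h9
    obtain ⟨s, hs⟩ := hlo
    have : (2 : ℤ) ^ (n + 2) = 4 * 2 ^ n := by ring
    rw [this, mul_assoc] at hr
    generalize (2 : ℤ) ^ n * r = R at hr
    omega

section inv

variable {K L T Q Q' X : Subgroup G} {x y x' y' u : G} {n : ℕ}

/-- the version for the second member of a `W` pair -/
theorem false_aux (h : One Om) (p : OPair.Co Om K L T Q Q' x y x' y' n) (hW : zz L * x = x * zz L)
    (hW' : zz K * x' = x' * zz K) [hXn : X.Normal] (hQX : ∀ q ∈ Q, q ∈ X → q ∈ zpowers x) (hwX : x ^ 2 ^ n ∈ X)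
    (huT : u ∈ T) (huX : u ∈ X) (huZ : IZ Om u) (h2 : u * x' = x'⁻¹ * u) {a : ℤ}
    (ha : u * y' * u⁻¹ = y' * x' ^ (2 * a)) : False := by
  obtain ⟨hxx, l, hlo, hl⟩ := OneEndGlue.Fr.exists_l p.symm.pair h p.symm hW' hW
  have hxT : x ∈ T := p.pair.mem_T h p.gq.c_mem hW.symm
  obtain ⟨g, -, -, hgK⟩ := p.pair.exists_zt h
  have hgQ : Syl (cj g Q) L := by
    have := p.pair.hQ.cj g
    rwa [hgK] at this
  obtain ⟨m, hm, hmQ⟩ := hgQ.exists_conj p.pair.hQ'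
  obtain ⟨f, hf⟩ : ∃ f, f = m * g := ⟨_, rfl⟩
  have hfQ : cj f Q = Q' := by rw [hf, cj_mul, hmQ]
  have hfK : cj f K = L := by rw [hf, cj_mul, hgK, mem_normalizer_iff_cj.1 (le_normalizer hm)]
  have hfz : f * zz K * f⁻¹ = zz L := by rw [← hfK]; exact (h.hyp.zz_cj p.pair.hK f).symm
  obtain ⟨w, hw⟩ : ∃ w, w = f * x ^ 2 ^ n * f⁻¹ := ⟨_, rfl⟩
  have hwQ' : w ∈ Q' := by rw [hw, ← hfQ]; exact conj_mem_cj (Q.pow_mem p.gq.c_mem _)
  have hwX' : w ∈ X := by rw [hw]; exact hXn.conj_mem _ hwX f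
  have hww : w * w = zz L := by
    rw [hw, ← hfz]
    calc f * x ^ 2 ^ n * f⁻¹ * (f * x ^ 2 ^ n * f⁻¹) = f * (x ^ 2 ^ n * x ^ 2 ^ n) * f⁻¹ := by group
      _ = f * zz K * f⁻¹ := by rw [p.gq.w_sq]
  have hcomm : ∀ g ∈ Q', g ∈ X → g * w = w * g := by
    intro g hg hgX
    rw [← hfQ, mem_cj] at hg
    obtain ⟨i, hi⟩ := hQX _ hg (by
      have := hXn.conj_mem g hgX f⁻¹
      rwa [inv_inv] at this)
    have hi' : x ^ i = f⁻¹ * g * f := hi
    have h1 : (f⁻¹ * g * f) * x ^ 2 ^ n = x ^ 2 ^ n * (f⁻¹ * g * f) := by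
      rw [← hi']; exact (((Commute.refl x).zpow_left i).pow_right _).eq
    rw [hw]
    calc g * (f * x ^ 2 ^ n * f⁻¹) = f * ((f⁻¹ * g * f) * x ^ 2 ^ n) * f⁻¹ := by group
      _ = f * (x ^ 2 ^ n * (f⁻¹ * g * f)) * f⁻¹ := by rw [h1]
      _ = _ := by group
  -- `w ∈ ⟨x'⟩`
  have hwx : w ∈ zpowers x' := by
    rcases p.gq'.covZ hwQ' with h1 | ⟨i, hi⟩
    · exact h1
    exfalso
    have h1 : x * w * x⁻¹ = w * x' ^ l := by
      have e1 : x * x' ^ i = x' ^ i * x := (Commute.zpow_right (show Commute x x' from hxx.symm) i).eq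
      rw [hi]
      calc x * (y' * x' ^ i) * x⁻¹ = (x * y' * x⁻¹) * (x * x' ^ i) * x⁻¹ := by group
        _ = y' * x' ^ l * (x' ^ i * x) * x⁻¹ := by rw [hl, e1]
        _ = y' * (x' ^ l * x' ^ i) := by group
        _ = y' * (x' ^ i * x' ^ l) := by rw [← zpow_add, ← zpow_add, add_comm]
        _ = y' * x' ^ i * x' ^ l := by group
    have h2 : x' ^ l ∈ X := by
      have h3 := mul_mem (inv_mem hwX') (hXn.conj_mem w hwX' x)
      rwa [h1, inv_mul_cancel_left] at h3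
    have h3 := hcomm _ (Q'.zpow_mem p.gq'.c_mem l) h2
    rw [hi] at h3
    have e4 : x' ^ l * (y' * x' ^ i) = y' * x' ^ i * x' ^ (-l) := by
      calc x' ^ l * (y' * x' ^ i) = (x' ^ l * y') * x' ^ i := by group
        _ = y' * (x' ^ (-l) * x' ^ i) := by rw [p.gq'.zpow_v]; group
        _ = y' * (x' ^ i * x' ^ (-l)) := by rw [← zpow_add, ← zpow_add, add_comm]
        _ = _ := by group
    rw [e4] at h3
    have h5 := mul_left_cancel h3
    have h9 : x' ^ (2 * l) = 1 := by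
      calc x' ^ (2 * l) = x' ^ l * x' ^ l := by rw [← zpow_add]; congr 1; ring
        _ = x' ^ l * x' ^ (-l) := by rw [← h5]
        _ = 1 := by group
    rw [p.gq'.zpow_eq_one_iff] at h9
    obtain ⟨r, hr⟩ := h9
    obtain ⟨s, hs⟩ := hlo
    have : (2 : ℤ) ^ (n + 2) = 4 * 2 ^ n := by ring
    rw [this, mul_assoc] at hr
    generalize (2 : ℤ) ^ n * r = R at hr
    omega
  have huw : u * w ≠ w * u := by
    obtain ⟨i, hi⟩ := hwx
    have hi' : x' ^ i = w := hi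
    have h3 : u * w * u⁻¹ = w⁻¹ := by
      rw [← hi', ← conj_zpow, mul_inv_eq_iff_eq_mul.2 h2, inv_zpow]
    intro h4
    have h5 : w = w⁻¹ := by rw [← h3, h4, mul_inv_cancel_right]
    have h6 : w * w = 1 := by
      calc w * w = w * w⁻¹ := by rw [← h5]
        _ = 1 := mul_inv_cancel w
    rw [hww] at h6
    exact h.hyp.zz_ne p.pair.hL h6
  have hv1 : (y' * x' ^ a) * (y' * x' ^ a) = zz L := by
    calc (y' * x' ^ a) * (y' * x' ^ a) = y' * (x' ^ a * y') * x' ^ a := by group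
      _ = y' * y' * (x' ^ (-a) * x' ^ a) := by rw [p.gq'.zpow_v]; group
      _ = zz L := by rw [← zpow_add, neg_add_cancel, zpow_zero, mul_one, p.gq'.v_sq]
  refine false_of_W h (K := L) (Q := Q') (X := X) p.pair.hL p.pair.hQ' hcomm hwQ' hwX' (p.pair.hTQ' huT) huX huZ
    (p.pair.tt h huT) huw (v1 := y' * x' ^ a) (mul_mem p.gq'.v_mem (Q'.zpow_mem p.gq'.c_mem a)) hv1 ?_
  rw [← mul_inv_eq_iff_eq_mul]
  have h3 : u * x' ^ a * u⁻¹ = x' ^ (-a) := by
    rw [← conj_zpow, mul_inv_eq_iff_eq_mul.2 h2, inv_zpow, zpow_neg]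
  calc u * (y' * x' ^ a) * u⁻¹ = (u * y' * u⁻¹) * (u * x' ^ a * u⁻¹) := by group
    _ = y' * (x' ^ (2 * a) * x' ^ (-a)) := by rw [ha, h3, mul_assoc]
    _ = y' * x' ^ a := by rw [← zpow_add]; congr 2; ring

/-- **no classical involution of `X ∩ T` inverts `x` and `x'`** -/
theorem false_of_inv (h : One Om) (p : OPair.Co Om K L T Q Q' x y x' y' n) (hW : zz L * x = x * zz L)
    (hW' : zz K * x' = x' * zz K) [hXn : X.Normal] (hQX : ∀ q ∈ Q, q ∈ X → q ∈ zpowers x) (hwX : x ^ 2 ^ n ∈ X)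
    (huT : u ∈ T) (huX : u ∈ X) (huZ : IZ Om u) (h1 : u * x = x⁻¹ * u) (h2 : u * x' = x'⁻¹ * u) : False := by
  obtain ⟨j, hj⟩ := p.conj_y huT
  obtain ⟨q, hq⟩ := p.symm.conj_y huT
  have hxT : x ∈ T := p.pair.mem_T h p.gq.c_mem hW.symm
  rcases Int.even_or_odd q with ⟨a, hqa⟩ | hqo
  · -- `W` for `L`
    exact false_aux h p hW hW' hQX hwX huT huX huZ h2 (a := a) (by rw [hq, hqa]; congr 2; ring)
  rcases Int.even_or_odd j with ⟨a, hja⟩ | hjo
  · -- `W` for `K`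
    have hcomm : ∀ g ∈ Q, g ∈ X → g * x ^ 2 ^ n = x ^ 2 ^ n * g := by
      intro g hg hgX
      obtain ⟨i, hi⟩ := hQX _ hg hgX
      have hi' : x ^ i = g := hi
      rw [← hi']; exact (((Commute.refl x).zpow_left i).pow_right _).eq
    have huw : u * x ^ 2 ^ n ≠ x ^ 2 ^ n * u := by
      have h3 : u * x ^ 2 ^ n * u⁻¹ = (x ^ 2 ^ n)⁻¹ := by
        rw [← conj_pow, mul_inv_eq_iff_eq_mul.2 h1, inv_pow]
      intro h4
      have h5 : x ^ 2 ^ n = (x ^ 2 ^ n)⁻¹ := by rw [← h3, h4, mul_inv_cancel_right]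
      have h6 : x ^ 2 ^ n * x ^ 2 ^ n = 1 := by
        calc x ^ 2 ^ n * x ^ 2 ^ n = x ^ 2 ^ n * (x ^ 2 ^ n)⁻¹ := by rw [← h5]
          _ = 1 := mul_inv_cancel _
      rw [p.gq.w_sq] at h6
      exact h.hyp.zz_ne p.pair.hK h6
    have hv1 : (y * x ^ a) * (y * x ^ a) = zz K := by
      calc (y * x ^ a) * (y * x ^ a) = y * (x ^ a * y) * x ^ a := by group
        _ = y * y * (x ^ (-a) * x ^ a) := by rw [p.gq.zpow_v]; group
        _ = zz K := by rw [← zpow_add, neg_add_cancel, zpow_zero, mul_one, p.gq.v_sq]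
    refine false_of_W h (K := K) (Q := Q) (X := X) p.pair.hK p.pair.hQ hcomm (Q.pow_mem p.gq.c_mem _) hwX
      (p.pair.hTQ huT) huX huZ (p.pair.tz h huT) huw (v1 := y * x ^ a)
      (mul_mem p.gq.v_mem (Q.zpow_mem p.gq.c_mem a)) hv1 ?_
    rw [← mul_inv_eq_iff_eq_mul]
    have h3 : u * x ^ a * u⁻¹ = x ^ (-a) := by
      rw [← conj_zpow, mul_inv_eq_iff_eq_mul.2 h1, inv_zpow, zpow_neg]
    calc u * (y * x ^ a) * u⁻¹ = (u * y * u⁻¹) * (u * x ^ a * u⁻¹) := by group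
      _ = y * (x ^ (a + a) * x ^ (-a)) := by rw [hj, hja, h3, mul_assoc]
      _ = y * x ^ a := by rw [← zpow_add]; congr 2; ring
  · -- replace `u` by `y u y⁻¹ = x^j u`
    obtain ⟨hxx, l, hlo, hl⟩ := OneEndGlue.Fr.exists_l p.symm.pair h p.symm hW' hW
    have e1 : y * u * y⁻¹ = x ^ j * u := by
      have e2 : u * y⁻¹ = (y * x ^ j)⁻¹ * u := by
        rw [← hj]; group
      calc y * u * y⁻¹ = y * (u * y⁻¹) := by group
        _ = (y * x ^ (-j)) * y⁻¹ * u := by rw [e2]; group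
        _ = x ^ j * u := by
          rw [← p.gq.zpow_v]; group
    have huT' : x ^ j * u ∈ T := mul_mem (T.zpow_mem hxT j) huT
    have huX' : x ^ j * u ∈ X := by rw [← e1]; exact hXn.conj_mem u huX y
    have huZ' : IZ Om (x ^ j * u) := by rw [← e1]; exact huZ.conj h y
    have h3 : (x ^ j * u) * x' = x'⁻¹ * (x ^ j * u) := by
      have e3 : x ^ j * x'⁻¹ = x'⁻¹ * x ^ j :=
        ((show Commute x x' from hxx.symm).zpow_left j).inv_right.eq
      calc x ^ j * u * x' = x ^ j * (u * x') := by group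
        _ = (x ^ j * x'⁻¹) * u := by rw [h2]; group
        _ = x'⁻¹ * (x ^ j * u) := by rw [e3]; group
    obtain ⟨a, ha⟩ : Even (l * j + q) := (hlo.mul hjo).add_odd hqo
    refine false_aux h p hW hW' hQX hwX huT' huX' huZ' h3 (a := a) ?_
    have e4 := OneEndW.conj_zpow_of (Commute.zpow_right (show Commute x x' from hxx.symm) l).eq hl j
    have e5 : x ^ j * x' ^ q * (x ^ j)⁻¹ = x' ^ q := by
      rw [(Commute.zpow_zpow (show Commute x x' from hxx.symm) j q).eq, mul_inv_cancel_right]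
    calc x ^ j * u * y' * (x ^ j * u)⁻¹ = x ^ j * (u * y' * u⁻¹) * (x ^ j)⁻¹ := by group
      _ = (x ^ j * y' * (x ^ j)⁻¹) * (x ^ j * x' ^ q * (x ^ j)⁻¹) := by rw [hq]; group
      _ = y' * (x' ^ (l * j) * x' ^ q) := by rw [e4, e5, ← zpow_mul, mul_assoc]
      _ = y' * x' ^ (2 * a) := by rw [← zpow_add, ha]; congr 2; ring

end inv

end Cfsg.Agent.Cit.Nil.WInv
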