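import Cfsg.Agent.Cit.OneEndW

/-!
# The shape of the 2-group of a `W` pair, in the coordinates of the pair

`OneEndW.WP.main` says that `S` is wreathed or of type `G₂`.  Here the same with explicit elements:
every element of `S` is `c^a c'^b u`, `u ∈ {1, r}` or `u ∈ {1, r, s₀, r s₀}`, `r = v t`, `s₀` inverting `c`, `c'`.
-/

set_option autoImplicit false

namespace Cfsg.Agent.Cit.Nil.WShape

open Subgroup OneEndW

variable {G : Type*} [Group G] {S Q Q' : Subgroup G} {c v z c' v' t : G} {n : ℕ}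

/-- the frame `A⟨r⟩` of `S` -/
structure Shp (S : Subgroup G) (c c' r : G) (l : ℤ) (n : ℕ) : Prop where
  odd : Odd l
  hc : HC c' (c ^ l * c') (n + 2)
  ord : orderOf c = 2 ^ (n + 2)
  ord' : orderOf c' = 2 ^ (n + 2)
  comm : c * c' = c' * c
  cS : c ∈ S
  c'S : c' ∈ S
  rS : r ∈ S
  rr : r * r = 1
  r1 : r * c' = c ^ l * c' * r
  r2 : r * (c ^ l * c') = c' * r
  conv : ∀ i j : ℤ, ∃ a b : ℤ, c ^ i * c' ^ j = c' ^ a * (c ^ l * c') ^ b

/-- see the head of the file -/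
theorem shape [Finite G] (h : WP S Q Q' c v z c' v' t n) :
    ∃ l : ℤ, Shp S c c' (v * t) l n ∧ c' * v * c'⁻¹ = v * c ^ l ∧
      ((∀ g ∈ S, ∃ a b : ℤ, g = c ^ a * c' ^ b ∨ g = c ^ a * c' ^ b * (v * t)) ∨
      ∃ s ∈ S, s * c = c⁻¹ * s ∧ s * c' = c'⁻¹ * s ∧ s * s = 1 ∧ (v * t) * s = s * (v * t) ∧
        ∀ g ∈ S, ∃ a b : ℤ, g = c ^ a * c' ^ b ∨ g = c ^ a * c' ^ b * (v * t) ∨ g = c ^ a * c' ^ b * s ∨
          g = c ^ a * c' ^ b * ((v * t) * s)) := by
  obtain ⟨l, hlo, hl⟩ := h.exists_l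
  obtain ⟨w, y, hwQ, -, -, -, hty, hyS, hyc, hyv, hyt, hyy⟩ := h.exists_y
  have hyn := h.y_norm hyS hyc hyv hyt hyy
  have hzz := h.gq.z_mul
  have hzv : z * v = v * z := zv h.gq
  have hzt : z * t = t * z := h.z_t
  have htt := h.tt
  have hcl : Commute (c ^ l) c' := Commute.zpow_left (show Commute c c' from h.cc') l
  -- homocyclic
  have hHC : HC c' (c ^ l * c') (n + 2) := by
    refine ⟨by omega, ?_, ?_, ?_, ?_⟩
    · exact (hcl.symm.mul_right (Commute.refl c')).eq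
    · rw [← h.gq'.ord]; exact pow_orderOf_eq_one c'
    · rw [hcl.mul_pow, ← h.gq'.ord, pow_orderOf_eq_one, mul_one, ← zpow_natCast, ← zpow_mul, zpow_one_iff h.gq,
        h.gq'.ord]
      push_cast
      exact Dvd.intro_left _ rfl
    · intro a b hab
      rw [hcl.mul_zpow, ← zpow_mul] at hab
      have h1 : c ^ (l * b) = c' ^ (-(a + b)) := by
        calc c ^ (l * b) = c' ^ (-a) * (c' ^ a * (c ^ (l * b) * c' ^ b)) * c' ^ (-b) := by group
          _ = c' ^ (-(a + b)) := by rw [hab]; group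
      have h2 : c ^ (l * b) = 1 := h.inf (Q.zpow_mem h.gq.c_mem _) (by rw [h1]; exact Q'.zpow_mem h.gq'.c_mem _)
      rw [h2] at h1
      have h3 := (zpow_one_iff h.gq').1 h1.symm
      rw [zpow_one_iff h.gq] at h2
      have hcop : IsCoprime ((2 : ℤ) ^ (n + 2)) l := by
        apply IsCoprime.pow_left
        rw [Int.isCoprime_iff_gcd_eq_one]
        obtain ⟨k, rfl⟩ := hlo
        have : Int.gcd 2 (2 * k + 1) = Int.gcd 2 1 := by
          rw [show (2 * k + 1 : ℤ) = 1 + 2 * k by ring]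
          simp
        rw [this]; rfl
      have h4 := hcop.dvd_of_dvd_mul_left h2
      rw [dvd_neg] at h3
      exact ⟨(dvd_add_left h4).1 h3, h4⟩
  -- the involution `r = v t`
  set r : G := v * t with hr
  have hvt : v * t = z * t * v := mul_inv_eq_iff_eq_mul.1 h.v_t_v
  have htv : t * v = v * z * t := mul_inv_eq_iff_eq_mul.1 h.t_v_t
  have hrr : r * r = 1 := by
    calc r * r = v * (t * v) * t := by rw [hr]; group
      _ = v * (v * z * t) * t := by rw [htv]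
      _ = (v * v) * z * (t * t) := by group
      _ = 1 := by rw [h.gq.v_sq, hzz, htt, one_mul]
  have hvc' : v * c' = c ^ l * c' * v := mul_inv_eq_iff_eq_mul.1 (h.v_c'_v hl)
  have hr1 : r * c' = c ^ l * c' * r := by
    calc r * c' = v * (c' * t) := by rw [h.c'_t, hr]; group
      _ = (v * c') * t := by group
      _ = c ^ l * c' * v * t := by rw [hvc']
      _ = c ^ l * c' * r := by rw [hr]; group
  have hr2 : r * (c ^ l * c') = c' * r := by
    calc r * (c ^ l * c') = r * (c ^ l * c' * r) * r⁻¹ := by group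
      _ = r * (r * c') * r⁻¹ := by rw [hr1]
      _ = (r * r) * c' * r⁻¹ := by group
      _ = c' * r := by rw [hrr, one_mul, inv_eq_of_mul_eq_one_left hrr]
  have hrS : r ∈ S := S.mul_mem h.v_mem h.t_mem
  have he2S : c ^ l * c' ∈ S := S.mul_mem (S.zpow_mem h.c_mem l) h.c'_mem
  -- the elements of `A`
  set e2 : G := c ^ l * c' with he2
  obtain ⟨k, r0, hkr⟩ := exists_mul_eq hlo (n + 2) 1
  have hcA : ∀ i j : ℤ, c ^ i * c' ^ j = c' ^ (j - k * i) * e2 ^ (k * i) := by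
    intro i j
    have h1 : c ^ i = (c ^ l) ^ (k * i) := by
      rw [← zpow_mul, show l * (k * i) = i + 2 ^ (n + 2) * (r0 * i) by
        rw [show l * (k * i) = (k * l) * i by ring, hkr]; ring, zpow_add, (zpow_one_iff h.gq).2 (Dvd.intro _ rfl),
        mul_one]
    rw [he2, hcl.mul_zpow, h1]
    have h2 : Commute (c' ^ (j - k * i)) ((c ^ l) ^ (k * i)) := (Commute.zpow_zpow hcl _ _).symm
    calc (c ^ l) ^ (k * i) * c' ^ j = ((c ^ l) ^ (k * i) * c' ^ (j - k * i)) * c' ^ (k * i) := by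
          rw [mul_assoc, ← zpow_add]; congr 2; ring
      _ = c' ^ (j - k * i) * ((c ^ l) ^ (k * i) * c' ^ (k * i)) := by rw [← h2.eq]; group
  have htA : t = c ^ (0 : ℤ) * c' ^ ((2 : ℤ) ^ (n + 1)) := by rw [z_eq' h.gq', zpow_zero, one_mul]
  have hzA : z = c ^ ((2 : ℤ) ^ (n + 1)) * c' ^ (0 : ℤ) := by rw [z_eq' h.gq, zpow_zero, mul_one]
  have hcc := h.comm_cc'
  -- products in `⟨c⟩⟨c'⟩`
  have hmul : ∀ a b a' b' : ℤ, (c ^ a * c' ^ b) * (c ^ a' * c' ^ b') = c ^ (a + a') * c' ^ (b + b') := by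
    intro a b a' b'
    rw [zpow_add, zpow_add]
    calc c ^ a * c' ^ b * (c ^ a' * c' ^ b') = c ^ a * (c' ^ b * c ^ a') * c' ^ b' := by group
      _ = c ^ a * (c ^ a' * c' ^ b) * c' ^ b' := by rw [(hcc a' b).eq]
      _ = c ^ a * c ^ a' * (c' ^ b * c' ^ b') := by group
  -- `v = z t r`
  have hvr : v = (c ^ ((2 : ℤ) ^ (n + 1)) * c' ^ ((2 : ℤ) ^ (n + 1))) * r := by
    rw [z_eq' h.gq, z_eq' h.gq', hr, hvt]
    calc v = (z * z) * (t * t) * v := by rw [hzz, htt]; group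
      _ = z * (z * t) * t * v := by group
      _ = z * (t * z) * t * v := by rw [hzt]
      _ = z * t * (z * t * v) := by group
  have hy0 : ∀ j : ℤ, (c ^ l * c' ^ (2 : ℤ)) ^ j = c ^ (l * j) * c' ^ (2 * j) := by
    intro j
    rw [(hcc l 2).mul_zpow, ← zpow_mul, ← zpow_mul]
  have hy0v : ∀ j : ℤ, v * (c ^ l * c' ^ (2 : ℤ)) ^ j = (c ^ l * c' ^ (2 : ℤ)) ^ j * v := fun j =>
    (Commute.zpow_left (show Commute (c ^ l * c' ^ (2 : ℤ)) v from h.y0_v hl) j).symm.eq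
  -- the elements of `Q`
  have hQc : ∀ q ∈ Q, (∃ i : ℤ, q = c ^ i) ∨ ∃ i : ℤ, q = c ^ i * v := by
    intro q hq
    rcases cov' h.gq q hq with ⟨i, hi⟩ | ⟨i, hi⟩
    · exact Or.inl ⟨i, hi⟩
    · exact Or.inr ⟨-i, by rw [hi, v_zpow' h.gq]⟩
  -- reduction to `q p`
  have hred : ∀ s ∈ S, ∃ (e : ℤ) (q p : G), q ∈ Q ∧ p ∈ S ∧ p * c = c * p ∧ p * v = v * p ∧
      s = c' ^ e * (q * p) := by
    intro s hs
    rcases h.idx s hs with ⟨q, hq, hqp⟩ | ⟨q, hq, hqp⟩
    · exact ⟨0, q, q⁻¹ * s, hq, S.mul_mem (S.inv_mem (h.Q_le hq)) hs, hqp c h.gq.c_mem, hqp v h.gq.v_mem,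
        by group⟩
    · exact ⟨-1, q, q⁻¹ * (c' * s), hq, S.mul_mem (S.inv_mem (h.Q_le hq)) (S.mul_mem h.c'_mem hs),
        hqp c h.gq.c_mem, hqp v h.gq.v_mem, by group⟩
  refine ⟨l, ⟨hlo, hHC, h.gq.ord, h.gq'.ord, h.cc', h.c_mem, h.c'_mem, hrS, hrr, hr1, hr2,
    fun i j => ⟨_, _, hcA i j⟩⟩, hl, ?_⟩
  by_cases hP : ∃ t' ∈ S, t' * c = c * t' ∧ t' * v = v * t' ∧ t' * y * t'⁻¹ = y * z
  · -- type `G₂(q)`
    right
    obtain ⟨t', ht'S, ht'c, ht'v, ht'y⟩ := hP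
    obtain ⟨hs0t, hs0c, hs0c', hs02, ht'2, ht't⟩ := h.s0_props hwQ hty hyy ht'S ht'c ht'v ht'y
    have hs0S : v * t' ∈ S := S.mul_mem h.v_mem ht'S
    have hrs0 : r * (v * t') = (v * t') * r := by
      have e1 : r * (v * t') = t * t' := by
        calc r * (v * t') = v * (t * v) * t' := by rw [hr]; group
          _ = v * (v * z * t) * t' := by rw [htv]
          _ = (v * v) * z * t * t' := by group
          _ = t * t' := by rw [h.gq.v_sq, hzz]; group
      have e2 : (v * t') * r = t * t' := by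
        calc (v * t') * r = v * (t' * v) * t := by rw [hr]; group
          _ = v * (v * t') * t := by rw [ht'v]
          _ = (v * v) * (t' * t) := by group
          _ = z * (t * z * t') := by rw [h.gq.v_sq, ht't]
          _ = (z * t) * z * t' := by group
          _ = t * (z * z) * t' := by rw [hzt]; group
          _ = t * t' := by rw [hzz]; group
      rw [e1, e2]
    set s0 : G := v * t' with hs0
    have hs0e2 : s0 * e2 = e2⁻¹ * s0 := by
      have hinv : s0 * c ^ l = c ^ (-l) * s0 := by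
        have : s0 * c ^ l * s0⁻¹ = c ^ (-l) := by
          rw [← conj_zpow, mul_inv_eq_iff_eq_mul.2 hs0c, inv_zpow, zpow_neg]
        exact mul_inv_eq_iff_eq_mul.1 this
      have hcl2 : c ^ (-l) * c'⁻¹ = c'⁻¹ * c ^ (-l) := by
        have := hcc (-l) (-1)
        rw [zpow_neg_one] at this
        exact this.eq
      calc s0 * e2 = (s0 * c ^ l) * c' := by rw [he2]; group
        _ = c ^ (-l) * (s0 * c') := by rw [hinv]; group
        _ = (c ^ (-l) * c'⁻¹) * s0 := by rw [hs0c']; group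
        _ = c'⁻¹ * c ^ (-l) * s0 := by rw [hcl2]
        _ = e2⁻¹ * s0 := by rw [he2]; group
    -- `t' = t r s0`
    have ht'r : t' = (c ^ (0 : ℤ) * c' ^ ((2 : ℤ) ^ (n + 1))) * (r * s0) := by
      rw [← htA, hr, hs0]
      calc t' = (t * t) * t' := by rw [htt, one_mul]
        _ = t * ((z * z) * t) * t' := by rw [hzz]; group
        _ = t * (v * v * z * t) * t' := by rw [h.gq.v_sq]
        _ = t * v * (v * z * t) * t' := by group
        _ = t * v * (t * v) * t' := by rw [htv]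
        _ = t * (v * t * (v * t')) := by group
    refine ⟨s0, hs0S, hs0c, hs0c', hs02, hrs0, ?_⟩
    intro g hg
    obtain ⟨e, q, p, hq, hpS, hpc, hpv, hg'⟩ := hred g hg
    -- `p ∈ ⟨y0⟩ ∪ ⟨y0⟩ t'`
    have hp : ∃ j : ℤ, p = (c ^ l * c' ^ (2 : ℤ)) ^ j ∨ p = (c ^ l * c' ^ (2 : ℤ)) ^ j * t' := by
      rcases hyn p hpS with hpy | hpy
      · obtain ⟨j, hj⟩ := h.eq_zpow_of hlo hl hpS hpc hpv (h.comm_t_of hwQ hty hpc hpv hpy)
        exact ⟨j, Or.inl hj⟩
      · obtain ⟨-, -, -, -, -, hpt⟩ := h.s0_props hwQ hty hyy hpS hpc hpv hpy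
        have hpt' : (p * t'⁻¹) * t = t * (p * t'⁻¹) := by
          have e1 : t'⁻¹ * t = t * z * t'⁻¹ := by
            have hzt' : t' * z = z * t' := h.z_cen ht'S
            calc t'⁻¹ * t = t'⁻¹ * (t * (z * z)) * (t' * t'⁻¹) := by rw [hzz]; group
              _ = t'⁻¹ * (t * z) * (z * t') * t'⁻¹ := by group
              _ = t'⁻¹ * (t * z) * (t' * z) * t'⁻¹ := by rw [hzt']
              _ = t'⁻¹ * (t * z * t') * z * t'⁻¹ := by group
              _ = t'⁻¹ * (t' * t) * z * t'⁻¹ := by rw [ht't]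
              _ = t * z * t'⁻¹ := by group
          calc (p * t'⁻¹) * t = p * (t'⁻¹ * t) := by group
            _ = p * (t * z * t'⁻¹) := by rw [e1]
            _ = (p * t) * z * t'⁻¹ := by group
            _ = (t * z * p) * z * t'⁻¹ := by rw [hpt]
            _ = t * z * (p * z) * t'⁻¹ := by group
            _ = t * z * (z * p) * t'⁻¹ := by rw [h.z_cen hpS]
            _ = t * (z * z) * (p * t'⁻¹) := by group
            _ = t * (p * t'⁻¹) := by rw [hzz, mul_one]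
        obtain ⟨j, hj⟩ := h.eq_zpow_of hlo hl (S.mul_mem hpS (S.inv_mem ht'S))
          ((show Commute p c from hpc).mul_left (show Commute t' c from ht'c).inv_left).eq
          ((show Commute p v from hpv).mul_left (show Commute t' v from ht'v).inv_left).eq hpt'
        exact ⟨j, Or.inr (by rw [← hj]; group)⟩
    obtain ⟨j, hp⟩ := hp
    have hform : ∃ a b : ℤ, g = c ^ a * c' ^ b ∨ g = c ^ a * c' ^ b * r ∨ g = c ^ a * c' ^ b * s0 ∨
        g = c ^ a * c' ^ b * (r * s0) := by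
      have e0 : ∀ x : G, c' ^ e * (x) = c ^ (0 : ℤ) * c' ^ e * x := fun x => by group
      rcases hQc q hq with ⟨i, hi⟩ | ⟨i, hi⟩ <;> rcases hp with hp | hp
      · refine ⟨0 + (i + l * j), e + (0 + 2 * j), Or.inl ?_⟩
        rw [hg', hi, hp, hy0, ← hmul, ← hmul]
        group
      · refine ⟨0 + (i + l * j) + 0, e + (0 + 2 * j) + 2 ^ (n + 1), Or.inr (Or.inr (Or.inr ?_))⟩
        rw [hg', hi, hp, hy0, ← hmul, ← hmul, ← hmul, mul_assoc _ (c ^ (0 : ℤ) * c' ^ ((2 : ℤ) ^ (n + 1))) (r * s0),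
          ← ht'r]
        group
      · refine ⟨0 + (i + l * j) + 2 ^ (n + 1), e + (0 + 2 * j) + 2 ^ (n + 1), Or.inr (Or.inl ?_)⟩
        rw [hg', hi, hp]
        rw [← hmul, ← hmul, ← hmul, mul_assoc _ (c ^ ((2 : ℤ) ^ (n + 1)) * c' ^ ((2 : ℤ) ^ (n + 1))) r, ← hvr,
          ← hy0]
        calc c' ^ e * (c ^ i * v * (c ^ l * c' ^ (2 : ℤ)) ^ j)
            = c' ^ e * c ^ i * (v * (c ^ l * c' ^ (2 : ℤ)) ^ j) := by group
          _ = c' ^ e * c ^ i * ((c ^ l * c' ^ (2 : ℤ)) ^ j * v) := by rw [hy0v]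
          _ = c ^ (0 : ℤ) * c' ^ e * (c ^ i * c' ^ (0 : ℤ) * (c ^ l * c' ^ (2 : ℤ)) ^ j) * v := by group
      · refine ⟨0 + (i + l * j), e + (0 + 2 * j), Or.inr (Or.inr (Or.inl ?_))⟩
        rw [hg', hi, hp]
        rw [← hmul, ← hmul, ← hy0, hs0]
        calc c' ^ e * (c ^ i * v * ((c ^ l * c' ^ (2 : ℤ)) ^ j * t'))
            = c' ^ e * c ^ i * (v * (c ^ l * c' ^ (2 : ℤ)) ^ j) * t' := by group
          _ = c' ^ e * c ^ i * ((c ^ l * c' ^ (2 : ℤ)) ^ j * v) * t' := by rw [hy0v]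
          _ = c ^ (0 : ℤ) * c' ^ e * (c ^ i * c' ^ (0 : ℤ) * (c ^ l * c' ^ (2 : ℤ)) ^ j) * (v * t') := by group
    exact hform
  · -- wreathed
    left
    push Not at hP
    intro g hg
    obtain ⟨e, q, p, hq, hpS, hpc, hpv, hg'⟩ := hred g hg
    obtain ⟨j, hp⟩ : ∃ j : ℤ, p = (c ^ l * c' ^ (2 : ℤ)) ^ j := by
      rcases hyn p hpS with hpy | hpy
      · exact h.eq_zpow_of hlo hl hpS hpc hpv (h.comm_t_of hwQ hty hpc hpv hpy)
      · exact absurd hpy (hP p hpS hpc hpv)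
    have hform : ∃ a b : ℤ, g = c ^ a * c' ^ b ∨ g = c ^ a * c' ^ b * r := by
      rcases hQc q hq with ⟨i, hi⟩ | ⟨i, hi⟩
      · refine ⟨0 + (i + l * j), e + (0 + 2 * j), Or.inl ?_⟩
        rw [hg', hi, hp, hy0, ← hmul, ← hmul]
        group
      · refine ⟨0 + (i + l * j) + 2 ^ (n + 1), e + (0 + 2 * j) + 2 ^ (n + 1), Or.inr ?_⟩
        rw [hg', hi, hp]
        rw [← hmul, ← hmul, ← hmul, mul_assoc _ (c ^ ((2 : ℤ) ^ (n + 1)) * c' ^ ((2 : ℤ) ^ (n + 1))) r, ← hvr,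
          ← hy0]
        calc c' ^ e * (c ^ i * v * (c ^ l * c' ^ (2 : ℤ)) ^ j)
            = c' ^ e * c ^ i * (v * (c ^ l * c' ^ (2 : ℤ)) ^ j) := by group
          _ = c' ^ e * c ^ i * ((c ^ l * c' ^ (2 : ℤ)) ^ j * v) := by rw [hy0v]
          _ = c ^ (0 : ℤ) * c' ^ e * (c ^ i * c' ^ (0 : ℤ) * (c ^ l * c' ^ (2 : ℤ)) ^ j) * v := by group
    exact hform


end Cfsg.Agent.Cit.Nil.WShape
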