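import Cfsg.Agent.Cit.Nil.StarNe

/-!
# (6b), `n = 1`: two `W` involutions (1.5, 1.6)
-/

set_option autoImplicit false
set_option linter.style.haveILetI false
set_option linter.unusedSectionVars false

namespace Cfsg.Agent.Cit.Nil

open Subgroup Cfsg Cit OneBasic OneF

variable {G : Type*} [Group G]

/-- the context of Lemma L1: `b ⊥ z`, `b` centralises the 2-group `U ≥ Q` -/
structure BCtx (Om : Set (Subgroup G)) (K Q U : Subgroup G) (b : G) : Prop where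
  one : One Om
  hK : K ∈ Om
  hQ : Syl Q K
  hU : IsPGroup 2 U
  hQU : Q ≤ U
  hUK : U ≤ normalizer (K : Set G)
  hb2 : IsPGroup 2 (zpowers b)
  h3 : P3 Om b
  hbz : PE Om b (zz K)
  hbU : ∀ u ∈ U, b * u = u * b

/-- `Q = ⟨w, w1⟩` is quaternion of order 8 -/
def QEight (Q : Subgroup G) (z w w1 : G) : Prop := ∀ q ∈ Q, q * q = z →
  q = w ∨ q = z * w ∨ q = w1 ∨ q = z * w1 ∨ q = w * w1 ∨ q = z * (w * w1)

variable [Finite G] {Om : Set (Subgroup G)} {K L Q U : Subgroup G} {w w1 r r1 v f b c t s m e φ φ1 φ2 : G}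

/-- a member `w r` and an element `e ∈ C(Q)` inverted by `r` -/
theorem iz_root (h : One Om) (hK : K ∈ Om) (hQ : Syl Q K) (hr : RW Om K Q w r) (he : ∀ q ∈ Q, e * q = q * e)
    (hv : ∀ q ∈ Q, v * q = q * v) (hev : e * e = v) (hinv : r * e * r⁻¹ = e⁻¹)
    (hvr : v * r = zz K * (r * v)) : IZ Om (w * (r * v)) := by
  have hzz := h.hyp.zz_mul hK
  have hzw : w * zz K = zz K * w := sq_comm hr.w2
  have h1 : w * r * e * (w * r)⁻¹ = e⁻¹ := by
    calc w * r * e * (w * r)⁻¹ = w * (r * e * r⁻¹) * w⁻¹ := by group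
      _ = w * e⁻¹ * w⁻¹ := by rw [hinv]
      _ = e⁻¹ := by rw [comm_inv (he w hr.wQ).symm, mul_inv_cancel_right]
  have h2 := hr.mem.conj h e
  rw [conj_of_inv h1, hev] at h2
  have h3 : v * (w * r) = zz K * (w * (r * v)) := by
    calc v * (w * r) = (v * w) * r := by group
      _ = w * (v * r) := by rw [hv w hr.wQ]; group
      _ = (w * zz K) * (r * v) := by rw [hvr]; group
      _ = zz K * (w * (r * v)) := by rw [hzw]; group
  rw [h3] at h2
  exact (IZ.flip h hK hQ hr.wQ hr.w2 fun q hq =>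
    (comm_mul (hr.cent q hq).symm (hv q hq).symm).symm).1 h2

/-- noncommuting `r ∈ RW w`, `r1 ∈ RW w1` in a 2-group: the element `v` -/
theorem exists_v (h : One Om) (hK : K ∈ Om) (hQ : Syl Q K) (hr : RW Om K Q w r) (hr1 : ∀ q ∈ Q, r1 * q = q * r1)
    (hr12 : r1 * r1 = zz K) (hU : IsPGroup 2 U) (hrU : r ∈ U) (hr1U : r1 ∈ U) (hne : r * r1 ≠ r1 * r) :
    r * (r⁻¹ * r1) * r⁻¹ = (r⁻¹ * r1)⁻¹ ∧ r1 * (r⁻¹ * r1) * r1⁻¹ = (r⁻¹ * r1)⁻¹ ∧
    ∃ v ∈ zpowers (r⁻¹ * r1), v * v = zz K ∧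
      ((r⁻¹ * r1) * (r⁻¹ * r1) = zz K ∨ ∃ e ∈ zpowers (r⁻¹ * r1), e * e = v) := by
  have hzz := h.hyp.zz_mul hK
  have hzQ := zz_mem_syl h hK hQ
  have hzr : r * zz K = zz K * r := hr.cent _ hzQ
  have hzr1 : r1 * zz K = zz K * r1 := hr1 _ hzQ
  have hri : r⁻¹ = zz K * r := inv_of_sq hr.sq hzz
  have hr1i : r1⁻¹ = zz K * r1 := inv_of_sq hr12 hzz
  have e1 : r1 * r⁻¹ = r1⁻¹ * r := by
    rw [hri, hr1i]
    calc r1 * (zz K * r) = (r1 * zz K) * r := by group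
      _ = zz K * r1 * r := by rw [hzr1]
  have i1 : r * (r⁻¹ * r1) * r⁻¹ = (r⁻¹ * r1)⁻¹ := by
    calc r * (r⁻¹ * r1) * r⁻¹ = r1 * r⁻¹ := by group
      _ = (r⁻¹ * r1)⁻¹ := by rw [e1]; group
  have i2 : r1 * (r⁻¹ * r1) * r1⁻¹ = (r⁻¹ * r1)⁻¹ := by
    calc r1 * (r⁻¹ * r1) * r1⁻¹ = r1 * r⁻¹ := by group
      _ = (r⁻¹ * r1)⁻¹ := by rw [e1]; group
  refine ⟨i1, i2, ?_⟩
  obtain ⟨c, hc⟩ : ∃ c, c = r⁻¹ * r1 := ⟨_, rfl⟩
  rw [← hc] at i1 i2 ⊢
  have hcU : c ∈ U := by rw [hc]; exact U.mul_mem (U.inv_mem hrU) hr1U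
  have hcQ : ∀ q ∈ Q, c * q = q * c := by
    intro q hq
    rw [hc]
    exact (comm_mul (comm_inv (hr.cent q hq).symm) (hr1 q hq).symm).symm
  have hcc : c * c ≠ 1 := by
    intro h1
    apply hne
    have h2 : c⁻¹ = c := inv_eq_of_mul_eq_one_right h1
    rw [h2, mul_inv_eq_iff_eq_mul] at i1
    have h3 : r1 = r * c := by rw [hc]; group
    rw [h3]
    calc r * (r * c) = r * (c * r) := by rw [i1]
      _ = r * c * r := by group
  have htinv : w * r * c * (w * r)⁻¹ = c⁻¹ := by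
    calc w * r * c * (w * r)⁻¹ = w * (r * c * r⁻¹) * w⁻¹ := by group
      _ = w * c⁻¹ * w⁻¹ := by rw [i1]
      _ = c⁻¹ := by rw [comm_inv (hcQ w hr.wQ).symm, mul_inv_cancel_right]
  exact exists_root_z h hK hQ hr.mem (isPGroup_zpowers_of_mem hU hcU) hcQ htinv hcc

/-- an element `v` of order 4 inverted by `r` -/
theorem anti_of_inv (h : One Om) (hK : K ∈ Om) (hv2 : v * v = zz K) (hvz : v * zz K = zz K * v)
    (hinv : r * v * r⁻¹ = v⁻¹) : v * r = zz K * (r * v) := by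
  have hzz := h.hyp.zz_mul hK
  rw [inv_of_sq hv2 hzz, mul_inv_eq_iff_eq_mul] at hinv
  rw [hinv]
  calc v * r = (zz K * zz K) * (v * r) := by rw [hzz, one_mul]
    _ = zz K * (zz K * v * r) := by group

namespace BCtx

variable (B : BCtx Om K Q U b)
include B

theorem bQ : ∀ q ∈ Q, b * q = q * b := fun q hq => B.hbU q (B.hQU hq)

theorem ne_z {c' : G} (hw : w ∈ Q) (hw2 : w * w = zz K) (hc : ∀ q ∈ Q, c' * q = q * c')
    (hm : IZ Om (w * c')) : zz K ≠ w * c' := by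
  intro hh
  have h1 : zz K * (w * c') = 1 := by rw [← hh, B.one.hyp.zz_mul B.hK]
  exact ((IZ.flip B.one B.hK B.hQ hw hw2 hc).2 hm).ne_one B.one h1

theorem zcomm {c' : G} (hw2 : w * w = zz K) (hc : ∀ q ∈ Q, c' * q = q * c') :
    zz K * (w * c') = w * c' * zz K :=
  comm_mul (sq_comm hw2).symm (hc _ (zz_mem_syl B.one B.hK B.hQ)).symm

/-- commuting members `w r`, `w1 r1` -/
theorem key_ww (hr : RW Om K Q w r) (hr1 : RW Om K Q w1 r1) (hbr : b * r = r * b) (hbr1 : b * r1 = r1 * b)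
    (hc : (w * r) * (w1 * r1) = (w1 * r1) * (w * r)) : PE Om b (w * r) ↔ PE Om b (w1 * r1) :=
  key_iff B.one B.hb2 B.h3 B.hbz hr.mem hr1.mem (B.ne_z hr.wQ hr.w2 hr.cent hr.mem)
    (B.ne_z hr1.wQ hr1.w2 hr1.cent hr1.mem) (B.zcomm hr.w2 hr.cent) (B.zcomm hr1.w2 hr1.cent) hc
    (comm_mul (B.bQ w hr.wQ) hbr) (comm_mul (B.bQ w1 hr1.wQ) hbr1)

/-- same `w`, commuting: `r1 = r^{±1}` -/
theorem eq_or_inv (hr : RW Om K Q w r) (hr1 : RW Om K Q w r1) (hc : r * r1 = r1 * r) :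
    r1 = r ∨ r1 = zz K * r := by
  have h := B.one
  have hzz := h.hyp.zz_mul B.hK
  have hzQ := zz_mem_syl h B.hK B.hQ
  by_cases h1 : w * r = w * r1
  · left; exact (mul_left_cancel h1).symm
  · right
    have c1 : w * (w * r1) = w * r1 * w := comm_mul rfl (hr1.cent w hr1.wQ).symm
    have c2 : r * (w * r1) = w * r1 * r := comm_mul (hr.cent w hr.wQ) hc
    have h2 : (w * r) * (w * r1) = (w * r1) * (w * r) := (comm_mul c1.symm c2.symm).symm
    have h3 := hr.mem.mul h hr1.mem h1 h2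
    have h4 : (w * r) * (w * r1) = zz K * (r * r1) := by
      calc (w * r) * (w * r1) = w * (r * w) * r1 := by group
        _ = (w * w) * (r * r1) := by rw [hr.cent w hr.wQ]; group
        _ = zz K * (r * r1) := by rw [hr.w2]
    rw [h4] at h3
    have h5 := h3.eq_of_cent h B.hK B.hQ fun q hq =>
      (comm_mul (h.hyp.comm_zz B.hK (le_normalizer (B.hQ.1 hq)))
        (comm_mul (hr.cent q hq).symm (hr1.cent q hq).symm)).symm
    have h6 : r * r1 = 1 := by simpa using h5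
    calc r1 = r⁻¹ * (r * r1) := by group
      _ = r⁻¹ := by rw [h6, mul_one]
      _ = zz K * r := inv_of_sq hr.sq hzz

/-- same `w`, commuting -/
theorem ww_comm (hr : RW Om K Q w r) (hr1 : RW Om K Q w r1) (hc : r * r1 = r1 * r) :
    PE Om b (w * r) ↔ PE Om b (w * r1) := by
  rcases B.eq_or_inv hr hr1 hc with h1 | h1
  · rw [h1]
  · have h2 : w * r1 = zz K * (w * r) := by
      rw [h1]
      calc w * (zz K * r) = (w * zz K) * r := by group
        _ = zz K * (w * r) := by rw [sq_comm hr.w2]; group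
    rw [h2]
    exact (PE.flip B.one B.hK B.hQ hr.wQ hr.w2 hr.cent B.bQ).symm

/-- two outputs of the V-lemma can be made commuting -/
theorem joint (hw : RW Om K Q w (v * φ)) (hw1 : RW Om K Q w1 (v * φ1)) (hv : ∀ q ∈ Q, v * q = q * v)
    (hbv : b * v = v * b) (h1 : φ * φ = 1) (h1' : φ1 * φ1 = 1) (h2 : ∀ q ∈ Q, φ * q = q * φ)
    (h2' : ∀ q ∈ Q, φ1 * q = q * φ1) (h3 : φ * v = v * φ) (h3' : φ1 * v = v * φ1) (h4 : b * φ = φ * b)
    (h4' : b * φ1 = φ1 * b) (h5 : PE Om φ (w * (v * φ))) :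
    ∃ ψ, ψ * ψ = 1 ∧ (∀ q ∈ Q, ψ * q = q * ψ) ∧ ψ * v = v * ψ ∧ b * ψ = ψ * b ∧ φ * ψ = ψ * φ ∧
      RW Om K Q w1 (v * ψ) ∧ (PE Om b (w1 * (v * ψ)) ↔ PE Om b (w1 * (v * φ1))) := by
  have h := B.one
  obtain ⟨C, hC⟩ : ∃ C, C = centralizer ((Q : Set G) ∪ {v, b}) := ⟨_, rfl⟩
  have memC : ∀ a : G, (∀ q ∈ Q, a * q = q * a) → a * v = v * a → a * b = b * a → a ∈ C := by
    intro a h1 h2 h4
    rw [hC, mem_centralizer_iff]
    rintro y (hy | hy | hy)
    · exact (h1 y hy).symm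
    · rw [hy]; exact h2.symm
    · rw [hy]; exact h4.symm
  have ofC : ∀ a ∈ C, (∀ q ∈ Q, a * q = q * a) ∧ a * v = v * a ∧ a * b = b * a := by
    intro a ha
    rw [hC, mem_centralizer_iff] at ha
    exact ⟨fun q hq => (ha q (Or.inl hq)).symm, (ha v (Or.inr (by simp))).symm,
      (ha b (Or.inr (by simp))).symm⟩
  obtain ⟨e, heC, V, hV, hVC, hφV, hψV⟩ := exists_common (two_of_sq_one h1) (two_of_sq_one h1')
    (memC φ h2 h3 h4.symm) (memC φ1 h2' h3' h4'.symm)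
  obtain ⟨e1, e2, e3⟩ := ofC e heC
  obtain ⟨ψ, hψ⟩ : ∃ ψ, ψ = e * φ1 * e⁻¹ := ⟨_, rfl⟩
  rw [← hψ] at hψV
  obtain ⟨k1, k2, k3⟩ := ofC ψ (hVC hψV)
  have k5 : ψ * ψ = 1 := by
    rw [hψ]
    calc e * φ1 * e⁻¹ * (e * φ1 * e⁻¹) = e * (φ1 * φ1) * e⁻¹ := by group
      _ = 1 := by rw [h1']; group
  have s3 : e * (w1 * (v * φ1)) * e⁻¹ = w1 * (v * ψ) := by
    rw [hψ]
    calc e * (w1 * (v * φ1)) * e⁻¹ = (e * w1) * v * φ1 * e⁻¹ := by group
      _ = w1 * (e * v) * φ1 * e⁻¹ := by rw [e1 w1 hw1.wQ]; group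
      _ = w1 * (v * (e * φ1 * e⁻¹)) := by rw [e2]; group
  have s4 : IZ Om (w1 * (v * ψ)) := by rw [← s3]; exact hw1.mem.conj h e
  have s5 : PE Om b (w1 * (v * ψ)) ↔ PE Om b (w1 * (v * φ1)) := by
    rw [← s3]; exact PE.conj_comm_iff h e3
  have hvψQ : ∀ q ∈ Q, (v * ψ) * q = q * (v * ψ) := fun q hq =>
    (comm_mul (hv q hq).symm (k1 q hq).symm).symm
  have hvψ2 : v * ψ * (v * ψ) = zz K := by
    have h6 : v * v = zz K := by
      have h7 := hw.sq
      calc v * v = (v * v) * (φ * φ) := by rw [h1, mul_one]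
        _ = v * (v * φ) * φ := by group
        _ = v * (φ * v) * φ := by rw [h3]
        _ = v * φ * (v * φ) := by group
        _ = zz K := h7
    calc v * ψ * (v * ψ) = v * (ψ * v) * ψ := by group
      _ = (v * v) * (ψ * ψ) := by rw [k2]; group
      _ = zz K := by rw [h6, k5, mul_one]
  refine ⟨ψ, k5, k1, k2, k3.symm, ?_, ⟨hw1.wQ, hw1.w2, hvψQ, hvψ2, s4⟩, s5⟩
  exact wzero h B.hK B.hQ hw.wQ hw.w2 hv h5 hV hφV hψV h1 k5 h2 k1 h3.symm k2.symm

/-- **1.5** -/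
theorem ww_same (hN : NW Q w) (hr : RW Om K Q w r) (hr1 : RW Om K Q w r1) (hrU : r ∈ U) (hr1U : r1 ∈ U) :
    PE Om b (w * r) ↔ PE Om b (w * r1) := by
  have h := B.one
  have hK := B.hK
  have hQ := B.hQ
  have hzz := h.hyp.zz_mul B.hK
  have hzQ := zz_mem_syl h B.hK B.hQ
  by_cases hc : r * r1 = r1 * r
  · exact B.ww_comm hr hr1 hc
  have hbr : b * r = r * b := B.hbU r hrU
  have hbr1 : b * r1 = r1 * b := B.hbU r1 hr1U
  obtain ⟨i1, i2, v, hvc, hv2, hcase⟩ := exists_v h hK hQ hr hr1.cent hr1.sq B.hU hrU hr1U hc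
  obtain ⟨c, hcd⟩ : ∃ c, c = r⁻¹ * r1 := ⟨_, rfl⟩
  rw [← hcd] at i1 i2 hvc hcase
  have hcQ : ∀ q ∈ Q, c * q = q * c := by
    intro q hq
    rw [hcd]
    exact (comm_mul (comm_inv (hr.cent q hq).symm) (hr1.cent q hq).symm).symm
  have hbc : b * c = c * b := by rw [hcd]; exact comm_mul (comm_inv hbr) hbr1
  have hr1c : r * c = r1 := by rw [hcd]; group
  -- choose `v` with both `w (r v)`, `w (r1 v)` members
  obtain ⟨v, hvc, hv2, m1, m2⟩ : ∃ v ∈ zpowers c, v * v = zz K ∧ IZ Om (w * (r * v)) ∧ IZ Om (w * (r1 * v)) := by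
    rcases hcase with h1 | ⟨e, he, he2⟩
    · refine ⟨c, mem_zpowers c, h1, by rw [hr1c]; exact hr1.mem, ?_⟩
      have h2 : r1 * c = zz K * r := by
        rw [mul_inv_eq_iff_eq_mul, inv_of_sq h1 hzz] at i2
        have h3 : c * r1 = r := by
          rw [hcd]
          calc r⁻¹ * r1 * r1 = r⁻¹ * (r1 * r1) := by group
            _ = r⁻¹ * (r * r) := by rw [hr1.sq, hr.sq]
            _ = r := by group
        rw [i2, mul_assoc, h3]
      rw [h2]
      have h4 : w * (zz K * r) = zz K * (w * r) := by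
        calc w * (zz K * r) = (w * zz K) * r := by group
          _ = zz K * (w * r) := by rw [sq_comm hr.w2]; group
      rw [h4]
      exact (IZ.flip h hK hQ hr.wQ hr.w2 hr.cent).2 hr.mem
    · have heQ : ∀ q ∈ Q, e * q = q * e := fun q hq => (comm_zpowers (hcQ q hq).symm he).symm
      have hvQ : ∀ q ∈ Q, v * q = q * v := fun q hq => (comm_zpowers (hcQ q hq).symm hvc).symm
      refine ⟨v, hvc, hv2, ?_, ?_⟩
      · exact iz_root h hK hQ hr heQ hvQ he2 (inv_zpowers i1 he)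
          (anti_of_inv h hK hv2 (hvQ _ hzQ) (inv_zpowers i1 hvc))
      · exact iz_root h hK hQ hr1 heQ hvQ he2 (inv_zpowers i2 he)
          (anti_of_inv h hK hv2 (hvQ _ hzQ) (inv_zpowers i2 hvc))
  have hvQ : ∀ q ∈ Q, v * q = q * v := fun q hq => (comm_zpowers (hcQ q hq).symm hvc).symm
  have hbv : b * v = v * b := comm_zpowers hbc hvc
  have a1 := anti_of_inv h hK hv2 (hvQ _ hzQ) (inv_zpowers i1 hvc)
  have a2 := anti_of_inv h hK hv2 (hvQ _ hzQ) (inv_zpowers i2 hvc)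
  obtain ⟨φ, p1, p2, p3, p4, p5, p6, p7, p8⟩ :=
    vlemma h hK hQ hN hr hvQ hv2 a1 m1 B.hb2 B.h3 B.hbz B.bQ hbr hbv
  obtain ⟨φ1, q1, q2, q3, q4, q5, q6, q7, q8⟩ :=
    vlemma h hK hQ hN hr1 hvQ hv2 a2 m2 B.hb2 B.h3 B.hbz B.bQ hbr1 hbv
  obtain ⟨ψ, k1, k2, k3, k4, k5, k6, k7⟩ :=
    B.joint p6 q6 hvQ hbv p1 q1 p2 q2 p4 q4 p5 q5 p7
  rw [← p8, ← q8, ← k7]
  refine B.ww_comm p6 k6 ?_
  have c1 : v * (v * ψ) = v * ψ * v := comm_mul rfl k3.symm
  have c2 : φ * (v * ψ) = v * ψ * φ := comm_mul p4 k5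
  exact (comm_mul c1.symm c2.symm).symm

end BCtx

/-! ### different `w` (`|Q| = 8`) -/

/-- an element `f` for a commuting `c` -/
theorem fl0 (h : One Om) (hK : K ∈ Om) (hQ : Syl Q K) (hN : NW Q w) (hr : RW Om K Q w r)
    (hc : ∀ q ∈ Q, c * q = q * c) (hc2 : IsPGroup 2 (zpowers c)) (hcr : c * r = r * c)
    (hb2 : IsPGroup 2 (zpowers b)) (h3 : P3 Om b) (hbz : PE Om b (zz K)) (hbQ : ∀ q ∈ Q, b * q = q * b)
    (hbr : b * r = r * b) (hbc : b * c = c * b) :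
    ∃ f, f * f = w * r ∧ f * w = w * f ∧ f * r = r * f ∧ f ∈ normalizer (Q : Set G) ∧
      f * zz K = zz K * f ∧ b * f = f * b ∧ c * f = f * c := by
  have hzz := h.hyp.zz_mul hK
  obtain ⟨L, hL, hLz⟩ := hr.mem
  have hzQ := zz_mem_syl h hK hQ
  have hzr : r * zz K = zz K * r := hr.cent _ hzQ
  have hzw : w * zz K = zz K * w := sq_comm hr.w2
  have hrw : r * w = w * r := hr.cent w hr.wQ
  have hrp : IsPGroup 2 (zpowers r) := isP_four h hK hr.sq
  have n1 : zpowers r ≤ normalizer (Q : Set G) :=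
    zpowers_le.2 (mem_normalizer_of_cent (fun x hx => hr.cent x hx))
  have A1 : IsPGroup 2 (zpowers r ⊔ Q : Subgroup G) := isPGroup_sup_of_normalizes hrp hQ.2.1 n1
  have hcc : zpowers r ⊔ Q ≤ centralizer {c} := by
    rw [sup_le_iff, zpowers_le]
    refine ⟨mem_centralizer_singleton_iff.2 hcr.symm, ?_⟩
    intro q hq
    exact mem_centralizer_singleton_iff.2 (hc q hq).symm
  have n2 : zpowers c ≤ normalizer ((zpowers r ⊔ Q : Subgroup G) : Set G) := by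
    rw [zpowers_le]
    apply mem_normalizer_of_cent
    intro x hx
    exact (mem_centralizer_singleton_iff.1 (hcc hx)).symm
  have A2 : IsPGroup 2 (zpowers c ⊔ (zpowers r ⊔ Q) : Subgroup G) :=
    isPGroup_sup_of_normalizes hc2 A1 n2
  have hcb : zpowers c ⊔ (zpowers r ⊔ Q) ≤ centralizer {b} := by
    rw [sup_le_iff, sup_le_iff, zpowers_le, zpowers_le]
    refine ⟨mem_centralizer_singleton_iff.2 hbc.symm, mem_centralizer_singleton_iff.2 hbr.symm, ?_⟩
    intro q hq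
    exact mem_centralizer_singleton_iff.2 (hbQ q hq).symm
  have n3 : zpowers b ≤ normalizer ((zpowers c ⊔ (zpowers r ⊔ Q) : Subgroup G) : Set G) := by
    rw [zpowers_le]
    apply mem_normalizer_of_cent
    intro x hx
    exact (mem_centralizer_singleton_iff.1 (hcb hx)).symm
  have A3 : IsPGroup 2 (zpowers b ⊔ (zpowers c ⊔ (zpowers r ⊔ Q)) : Subgroup G) :=
    isPGroup_sup_of_normalizes hb2 A2 n3
  obtain ⟨A, hA⟩ : ∃ A, A = (zpowers b ⊔ (zpowers c ⊔ (zpowers r ⊔ Q)) : Subgroup G) := ⟨_, rfl⟩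
  rw [← hA] at A3
  have hbA : b ∈ A := by rw [hA]; exact mem_sup_left (mem_zpowers _)
  have hcA : c ∈ A := by rw [hA]; exact mem_sup_right (mem_sup_left (mem_zpowers _))
  have hrA : r ∈ A := by rw [hA]; exact mem_sup_right (mem_sup_right (mem_sup_left (mem_zpowers _)))
  have hQA : Q ≤ A := by rw [hA]; exact le_sup_right.trans (le_sup_right.trans le_sup_right)
  have hAK : A ≤ normalizer (K : Set G) := by
    rw [hA, sup_le_iff, sup_le_iff, sup_le_iff, zpowers_le, zpowers_le, zpowers_le]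
    exact ⟨h.mem_normalizer hK (hbQ _ hzQ), h.mem_normalizer hK (hc _ hzQ), h.mem_normalizer hK hzr,
      hQ.1.trans le_normalizer⟩
  have hbL : b * zz L = zz L * b := by rw [hLz]; exact comm_mul (hbQ w hr.wQ) hbr
  have hcL : c * zz L = zz L * c := by rw [hLz]; exact comm_mul (hc w hr.wQ) hcr
  have hAP : A ≤ normalizer ((centralizer {zz K} ⊓ centralizer {zz L} : Subgroup G) : Set G) := by
    have key : ∀ g : G, g * zz K = zz K * g → (g * zz L * g⁻¹ = zz L ∨ g * zz L * g⁻¹ = zz K * zz L) →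
        g ∈ normalizer ((centralizer {zz K} ⊓ centralizer {zz L} : Subgroup G) : Set G) :=
      fun g hg h1 => mem_normalizer_cent (by rw [hg, mul_inv_cancel_right]) h1
    rw [hA, sup_le_iff, sup_le_iff, sup_le_iff, zpowers_le, zpowers_le, zpowers_le]
    refine ⟨key b (hbQ _ hzQ) (Or.inl (by rw [hbL, mul_inv_cancel_right])),
      key c (hc _ hzQ) (Or.inl (by rw [hcL, mul_inv_cancel_right])), key r hzr (Or.inl ?_), fun q hq => ?_⟩
    · rw [hLz, comm_mul hrw rfl, mul_inv_cancel_right]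
    · have hqz : q * zz K = zz K * q := h.hyp.comm_zz hK (le_normalizer (hQ.1 hq))
      refine key q hqz ?_
      have hqr : q * r * q⁻¹ = r := by rw [← hr.cent q hq, mul_inv_cancel_right]
      rcases hN q hq with h1 | h1
      · left
        rw [hLz]
        calc q * (w * r) * q⁻¹ = (q * w * q⁻¹) * (q * r * q⁻¹) := by group
          _ = w * r := by rw [h1, hqr]
      · right
        rw [hLz]
        calc q * (w * r) * q⁻¹ = (q * w * q⁻¹) * (q * r * q⁻¹) := by group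
          _ = zz K * (w * r) := by rw [h1, hqr, inv_of_sq hr.w2 hzz]; group
  obtain ⟨R, T, Q', f, p⟩ := exists_pack h hK hL hQ hr.wQ hr.w2 hr.cent hr.sq hLz A3 hQA hAK hAP
  have hbT : b ∈ T := p.memT b (p.AR hbA) hbL
  have hcT : c ∈ T := p.memT c (p.AR hcA) hcL
  have hbf : b * f = f * b := by
    apply p.comm_fb h hbT
    exact h3 K hK L hL p.pair.ne p.pair.comm (hbz.perp h hK) hbL
  have hwL : w * zz L = zz L * w := by rw [hLz]; exact comm_mul rfl hrw.symm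
  have hfw := (p.comm_fw h hr.wQ hwL).symm
  have hrT : r ∈ T := p.memT r (p.AR hrA) (by rw [hLz]; exact comm_mul hrw rfl)
  exact ⟨f, by rw [p.ff, hLz], hfw, (p.comm_f h hrT hr.cent).symm, p.RQ (p.TR p.fT), p.fz h, hbf,
    p.comm_f h hcT hc⟩

/-- `f` maps `w1` to `± w w1` -/
theorem f_conj (h : One Om) (hK : K ∈ Om) (hQ : Syl Q K) (hr : RW Om K Q w r) (hw1 : w1 ∈ Q)
    (hw12 : w1 * w1 = zz K) (hanti : w1 * w = zz K * (w * w1)) (h8 : QEight Q (zz K) w w1)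
    (ff : f * f = w * r) (fw : f * w = w * f) (fQ : f ∈ normalizer (Q : Set G)) (fz : f * zz K = zz K * f) :
    f * w1 * f⁻¹ = w * w1 ∨ f * w1 * f⁻¹ = zz K * (w * w1) := by
  have hzz := h.hyp.zz_mul hK
  have hz1 := h.hyp.zz_ne hK
  have hw : w ∈ Q := hr.wQ
  have hzw : w * zz K = zz K * w := sq_comm hr.w2
  have hzw1 : w1 * zz K = zz K * w1 := sq_comm hw12
  obtain ⟨u, hu⟩ : ∃ u, u = f * w1 * f⁻¹ := ⟨_, rfl⟩
  rw [← hu]
  have huQ : u ∈ Q := by rw [hu]; exact conj_mem_of fQ hw1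
  have hu2 : u * u = zz K := by
    rw [hu]
    calc f * w1 * f⁻¹ * (f * w1 * f⁻¹) = f * (w1 * w1) * f⁻¹ := by group
      _ = zz K := by rw [hw12, fz, mul_inv_cancel_right]
  -- `u` anticommutes with `w`
  have huw : u * w = zz K * (w * u) := by
    have e1 : f⁻¹ * w * f = w := by rw [mul_assoc, ← fw, inv_mul_cancel_left]
    have e2 : f * (w1 * w) * f⁻¹ = u * w := by
      rw [hu]
      calc f * (w1 * w) * f⁻¹ = f * w1 * f⁻¹ * (f * w * f⁻¹) := by group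
        _ = f * w1 * f⁻¹ * w := by rw [fw, mul_inv_cancel_right]
    rw [← e2, hanti, hu]
    calc f * (zz K * (w * w1)) * f⁻¹ = (f * zz K * f⁻¹) * (f * w * f⁻¹) * (f * w1 * f⁻¹) := by group
      _ = zz K * (w * (f * w1 * f⁻¹)) := by
        rw [fz, mul_inv_cancel_right, fw, mul_inv_cancel_right]; group
  have nw : ∀ a : G, a * w = w * a → u ≠ a := by
    intro a ha hh
    rw [hh, ha] at huw
    have : zz K * (w * a) = 1 * (w * a) := by rw [one_mul]; exact huw.symm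
    exact hz1 (mul_right_cancel this)
  -- `f² w1 f⁻² = z w1`
  have hff : f * u * f⁻¹ = zz K * w1 := by
    have e1 : f * u * f⁻¹ = w * r * w1 * (w * r)⁻¹ := by rw [hu, ← ff]; group
    have e2 : w * w1 = zz K * (w1 * w) := by rw [hanti, ← mul_assoc, hzz, one_mul]
    rw [e1, mul_inv_eq_iff_eq_mul]
    calc w * r * w1 = w * (r * w1) := by group
      _ = (w * w1) * r := by rw [hr.cent w1 hw1]; group
      _ = zz K * w1 * (w * r) := by rw [e2]; group
  rcases h8 u huQ hu2 with h1 | h1 | h1 | h1 | h1 | h1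
  · exact absurd h1 (nw w rfl)
  · exact absurd h1 (nw _ (by rw [mul_assoc, ← mul_assoc w, hzw]; group))
  · exfalso
    have h2 : zz K * w1 = w1 := by
      calc zz K * w1 = f * u * f⁻¹ := hff.symm
        _ = f * w1 * f⁻¹ := by rw [h1]
        _ = w1 := by rw [← hu, h1]
    exact hz1 (mul_eq_right.1 h2)
  · exfalso
    have h2 : zz K * w1 = w1 := by
      calc zz K * w1 = f * u * f⁻¹ := hff.symm
        _ = f * (zz K * w1) * f⁻¹ := by rw [h1]
        _ = (f * zz K * f⁻¹) * (f * w1 * f⁻¹) := by group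
        _ = zz K * (zz K * w1) := by rw [fz, mul_inv_cancel_right, ← hu, h1]
        _ = w1 := by rw [← mul_assoc, hzz, one_mul]
    exact hz1 (mul_eq_right.1 h2)
  · exact Or.inl h1
  · exact Or.inr h1

end Cfsg.Agent.Cit.Nil
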