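import Cfsg.Agent.Cit.Nil.WCase
import Cfsg.Agent.Cit.Nil.Ker
import Cfsg.Agent.Cit.Nil.Defs
import Cfsg.Agent.Cit.Nil.WInv
import Cfsg.Agent.Cit.OneEndGlue
import Cfsg.Agent.Transfer.ThompsonTransfer

/-!
# (6b), `|Om(S)| = 1`: the `W` world

`G` finite, `One Om`, `F = 1`, no field automorphisms, a pair of type `W` exists; `X` a perfect normal subgroup
containing the involutions of the members. Then `S ∩ X` is wreathed, of type `G₂`, or homocyclic of rank 2 and
exponent `≥ 4`.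
-/

set_option autoImplicit false
set_option linter.style.haveILetI false
set_option linter.unusedSectionVars false
set_option linter.unusedVariables false

namespace Cfsg.Agent.Cit.Nil.WWorld

open Subgroup Cfsg Cit OneBasic OneF OneEndGlue WShape Ker

variable {G : Type*} [Group G] [Finite G] {Om : Set (Subgroup G)}

theorem perfect_index {X : Subgroup G} (hX : ⁅X, X⁆ = X) : ∀ H : Subgroup X, H.index ≠ 2 := by
  intro H hH
  haveI : H.Normal := normal_of_index_eq_two hH
  have h1 : _root_.commutator X = ⊤ := by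
    apply Subgroup.map_injective X.subtype_injective
    rw [_root_.commutator_def, map_commutator, ← MonoidHom.range_eq_map, range_subtype, hX]
  have h2 : _root_.commutator X ≤ H := by
    haveI : Fact (Nat.Prime 2) := ⟨Nat.prime_two⟩
    have h3 : IsMulCommutative (X ⧸ H) := by
      have : Nat.card (X ⧸ H) = 2 := hH
      have : IsCyclic (X ⧸ H) := isCyclic_of_prime_card this
      exact inferInstance
    rw [_root_.commutator_def, commutator_le]
    intro a _ b _
    rw [← QuotientGroup.eq_one_iff]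
    have h4 : ((a : X ⧸ H) * (b : X ⧸ H)) = (b : X ⧸ H) * (a : X ⧸ H) := mul_comm' _ _
    rw [commutatorElement_def, QuotientGroup.mk_mul, QuotientGroup.mk_mul, QuotientGroup.mk_mul,
      QuotientGroup.mk_inv, QuotientGroup.mk_inv, h4]
    group
  rw [h1, top_le_iff] at h2
  rw [h2, index_top] at hH
  norm_num at hH

/-- Thompson transfer in the normal subgroup `X` -/
theorem thompson {X T M : Subgroup G} (hT : Syl T X) (hM : M ≤ T) {s : G} (hs : s ∈ T) (hsM : s ∉ M)
    (hss : s * s = 1) (hcov : ∀ g ∈ T, g ∈ M ∨ g * s ∈ M) (hX : ⁅X, X⁆ = X) :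
    ∃ g ∈ X, g * s * g⁻¹ ∈ M := by
  haveI : Fact (Nat.Prime 2) := ⟨Nat.prime_two⟩
  have hTp : IsPGroup 2 (T.subgroupOf X) := hT.2.1.comap_of_injective X.subtype X.subtype_injective
  let P : Sylow 2 X := hTp.toSylow hT.2.2
  have hP : (P : Subgroup X) = T.subgroupOf X := rfl
  have hsX : s ∈ X := hT.1 hs
  have h1 : (M.subgroupOf X).relIndex (P : Subgroup X) = 2 := by
    rw [hP, relIndex_eq_two_iff]
    refine ⟨⟨s, hsX⟩, hs, ?_⟩
    rintro ⟨b, hb⟩ hbT
    have hbT' : b ∈ T := hbT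
    rw [xor_iff_or_and_not_and]
    change (b * s ∈ M ∨ b ∈ M) ∧ ¬ (b * s ∈ M ∧ b ∈ M)
    refine ⟨?_, ?_⟩
    · rcases hcov b hbT' with h2 | h2
      · exact Or.inr h2
      · exact Or.inl h2
    · rintro ⟨h2, h3⟩
      exact hsM ((M.mul_mem_cancel_left h3).1 h2)
  have h2 := Transfer.ThompsonTransfer.thompson_transfer P (M.subgroupOf X) (by
    rw [hP]; exact fun x hx => hM hx) h1 ⟨s, hsX⟩ (by rw [pow_two]; exact Subtype.ext hss)
  rcases h2 with ⟨N, -, hN, -⟩ | ⟨g, hg⟩
  · exact absurd hN (perfect_index hX N)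
  · exact ⟨g, g.2, hg⟩

/-- homocyclic of rank 2 and exponent `2^m`, `m ≥ 2` -/
def Homo (T : Subgroup G) : Prop :=
  ∃ m, 2 ≤ m ∧ ∃ a ∈ T, ∃ b ∈ T, a * b = b * a ∧ orderOf a = 2 ^ m ∧ orderOf b = 2 ^ m ∧
    (∀ i j : ℤ, a ^ i * b ^ j = 1 → (2 : ℤ) ^ m ∣ i ∧ (2 : ℤ) ^ m ∣ j) ∧ ∀ g ∈ T, ∃ i j : ℤ, g = a ^ i * b ^ j

/-- the possible outcomes -/
def Out (T : Subgroup G) : Prop :=
  Cfsg.IsWreathed T ∨ (∃ m f r s, SylowG2.Coord.TG2 T m f r s) ∨ Homo T

/-- involutions of `A` -/
theorem invol_form {S : Subgroup G} {c c' r : G} {l : ℤ} {n : ℕ} (h : Shp S c c' r l n) {g : G}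
    (hg : g ∈ h.AA) (hgg : g * g = 1) {z t : G} (hz : c ^ ((2 : ℤ) ^ (n + 1)) = z)
    (ht : c' ^ ((2 : ℤ) ^ (n + 1)) = t) (hzz : z * z = 1) (htt : t * t = 1) :
    g = 1 ∨ g = z ∨ g = t ∨ g = z * t := by
  obtain ⟨a, b, rfl⟩ := hg
  rw [h.mul_form] at hgg
  obtain ⟨h1, h2⟩ := h.ind hgg
  have key : ∀ k : ℤ, (2 : ℤ) ^ (n + 2) ∣ k + k → ∃ j, k = 2 ^ (n + 1) * j := by
    intro k hk
    rw [← two_mul, pow_succ', mul_dvd_mul_iff_left (by norm_num)] at hk
    exact hk
  obtain ⟨i, rfl⟩ := key a h1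
  obtain ⟨j, rfl⟩ := key b h2
  rw [zpow_mul, zpow_mul, hz, ht]
  have par : ∀ {x : G}, x * x = 1 → ∀ k : ℤ, x ^ k = 1 ∨ x ^ k = x := by
    intro x hx k
    rcases Int.even_or_odd k with ⟨m, rfl⟩ | ⟨m, rfl⟩
    · left; rw [zpow_add, ← (Commute.refl x).mul_zpow, hx, one_zpow]
    · right; rw [zpow_add, zpow_one, two_mul, zpow_add, ← (Commute.refl x).mul_zpow, hx, one_zpow, one_mul]
  rcases par hzz i with h3 | h3 <;> rcases par htt j with h4 | h4 <;> rw [h3, h4]
  · left; rw [one_mul]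
  · right; right; left; rw [one_mul]
  · right; left; rw [mul_one]
  · right; right; right; rfl

/-- type `W`: the elements of `Q ∩ X` lie in `⟨x⟩` if `S ∩ X` is covered by `A`, `A s` -/
theorem q_mem {S Q Q' : Subgroup G} {c v z c' v' t s : G} {n : ℕ} {l : ℤ}
    (wp : OneEndW.WP S Q Q' c v z c' v' t n) (sh : Shp S c c' (v * t) l n)
    (hl : c' * v * c'⁻¹ = v * c ^ l) {X : Subgroup G} (hs : CovInv (S ⊓ X) c c' s) {q : G} (hq : q ∈ Q)
    (hqX : q ∈ X) : q ∈ zpowers c := by
  obtain ⟨-, h1, h2, -, hcov⟩ := hs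
  rcases OneEndW.cov' wp.gq q hq with ⟨i, hi⟩ | ⟨i, hi⟩
  · exact ⟨i, hi.symm⟩
  exfalso
  have hvc' : v * c' = c ^ l * c' * v := mul_inv_eq_iff_eq_mul.1 (wp.v_c'_v hl)
  have e1 : q * c' = c ^ l * c' * q := by
    have e2 : c ^ i * c' = c' * c ^ i := (Commute.zpow_left (show Commute c c' from sh.comm) i).eq
    rw [hi]
    calc v * c ^ i * c' = v * (c ^ i * c') := by group
      _ = (v * c') * c ^ i := by rw [e2]; group
      _ = c ^ l * c' * (v * c ^ i) := by rw [hvc']; group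
  obtain ⟨a, b, hab | hab⟩ := hcov q ⟨wp.Q_le hq, hqX⟩
  · -- `q` commutes with `c'`
    have e2 : q * c' = c' * q := by
      have e3 : Commute (c ^ a * c' ^ b) c' := (Commute.zpow_left (show Commute c c' from sh.comm) a).mul_left
        ((Commute.refl c').zpow_left b)
      rw [hab]; exact e3.eq
    rw [e2] at e1
    have e3 := mul_right_cancel e1
    have e4 : c ^ l = 1 := by
      have : 1 * c' = c ^ l * c' := by rw [one_mul]; exact e3
      exact (mul_right_cancel this).symm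
    exact sh.pow_l_ne e4
  · have e2 := (sh.conj_s h1 h2 a b).2
    rw [← hab, e1] at e2
    have e3 := mul_right_cancel e2
    have e4 : c ^ l * c' ^ (2 : ℤ) = 1 := by
      rw [zpow_two, ← mul_assoc, e3, inv_mul_cancel]
    have e5 := (sh.ind e4).1
    exact sh.pow_l_ne ((sh.zpow_one_iff l).2 e5)

/-- **the core**: a pair of type `W` in a frame, `X` normal perfect, `z, t ∈ X` -/
theorem core (h : One Om) {K L T Q Q' S : Subgroup G} (f : Fr Om K L T Q Q' S)
    {x y x' y' : G} {n : ℕ} (co : OPair.Co Om K L T Q Q' x y x' y' n) (hW : zz L * x = x * zz L)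
    (hW' : zz K * x' = x' * zz K) (wp : OneEndW.WP S Q Q' x y (zz K) x' y' (zz L) n) {X : Subgroup G}
    [hn : X.Normal] (hX : ⁅X, X⁆ = X) (hz : zz K ∈ X) (ht : zz L ∈ X) : Out (S ⊓ X) := by
  have hS : Syl S ⊤ := Fr.syl_top h f.pair.hK f.hS
  have hT : Syl (S ⊓ X) X := AbSyl.syl_inf_normal hS
  obtain ⟨l, sh, hl, hD⟩ := shape wp
  have hvc' := wp.v_c'_v hl
  obtain ⟨l2, hl2o, hl2⟩ := wp.exists_l2
  have hzz := h.hyp.zz_mul f.pair.hK
  have htt := h.hyp.zz_mul f.pair.hL
  have hz1 := h.hyp.zz_ne f.pair.hK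
  have ht1 := h.hyp.zz_ne f.pair.hL
  have hzc : x ^ ((2 : ℤ) ^ (n + 1)) = zz K := OneEndW.z_eq' wp.gq
  have htc : x' ^ ((2 : ℤ) ^ (n + 1)) = zz L := OneEndW.z_eq' wp.gq'
  have hzt := f.pair.comm
  have hzt1 : zz K ≠ zz L := f.pair.z_ne_t h
  have hf2 : y' * x * y'⁻¹ = x' ^ l2 * x := by
    have e2 : x * y' = y' * x' ^ l2 * x := by rw [← hl2]; group
    have e3 : y' * x' ^ l2 = x' ^ (-l2) * y' := OneEndW.v_zpow' wp.gq' l2
    rw [mul_inv_eq_iff_eq_mul, mul_assoc (x' ^ l2), e2, e3]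
    group
  -- the case of a cover by `A`, `A s`
  have hCI : ∀ s, CovInv (S ⊓ X) x x' s → (x ^ 2 ^ n ∈ X ∨
      (n = 0 ∧ ∀ i j : ℤ, x ^ i * x' ^ j ∈ X → Even i ∧ Even j)) → False := by
    intro s hs hor
    have hs' := hs
    obtain ⟨hsT, h1, h2, hss, hcov⟩ := hs
    obtain ⟨M, hM⟩ : ∃ M, M = sh.AA ⊓ (S ⊓ X) := ⟨_, rfl⟩
    have hsA : ∀ a ∈ sh.AA, s * a = a⁻¹ * s := by
      rintro _ ⟨a, b, rfl⟩
      exact inv_of_mul h1 h2 sh.comm a b
    have hsM : s ∉ M := by
      intro hsM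
      rw [hM] at hsM
      have h3 := sh.AA_comm s hsM.1 x (sh.mem_AA.2 ⟨1, 0, by simp⟩)
      rw [h1] at h3
      have h4 := mul_right_cancel h3
      apply wp.gq.c_sq_ne
      calc x * x = x⁻¹ * x := by rw [h4]
        _ = 1 := inv_mul_cancel x
    have hcovM : ∀ g ∈ S ⊓ X, g ∈ M ∨ g * s ∈ M := by
      intro g hg
      rw [hM]
      obtain ⟨a, b, hab | hab⟩ := hcov g hg
      · exact Or.inl ⟨⟨a, b, hab⟩, hg⟩
      · right
        refine ⟨⟨a, b, ?_⟩, (S ⊓ X).mul_mem hg hsT⟩
        rw [hab, mul_assoc, hss, mul_one]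
    obtain ⟨g, hgX, hg⟩ := thompson hT (by rw [hM]; exact inf_le_right : M ≤ S ⊓ X) hsT hsM hss hcovM hX
    have hgg : (g * s * g⁻¹) * (g * s * g⁻¹) = 1 := by
      calc (g * s * g⁻¹) * (g * s * g⁻¹) = g * (s * s) * g⁻¹ := by group
        _ = 1 := by rw [hss]; group
    have hs1 : s ≠ 1 := fun hh => hsM (by rw [hh]; exact one_mem _)
    have hiz : IZ Om s := by
      have h3 : IZ Om (g * s * g⁻¹) := by
        rw [hM] at hg
        rcases invol_form sh hg.1 hgg hzc htc hzz htt with h4 | h4 | h4 | h4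
        · exfalso
          apply hs1
          calc s = g⁻¹ * (g * s * g⁻¹) * g := by group
            _ = 1 := by rw [h4]; group
        · rw [h4]; exact IZ.of f.pair.hK
        · rw [h4]; exact IZ.of f.pair.hL
        · rw [h4]; exact (IZ.of f.pair.hK).mul h (IZ.of f.pair.hL) hzt1 hzt
      have h4 := h3.conj h g⁻¹
      have h5 : g⁻¹ * (g * s * g⁻¹) * g⁻¹⁻¹ = s := by group
      rwa [h5] at h4
    have hsS : s ∈ S := hsT.1
    have hst : s * zz L = zz L * s := by
      have h3 := hsA (x' ^ ((2 : ℤ) ^ (n + 1))) (sh.mem_AA.2 ⟨0, _, by rw [zpow_zero, one_mul]⟩)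
      rw [htc, h.hyp.zz_inv f.pair.hL] at h3
      exact h3
    rcases hor with hor | ⟨hn0, hev⟩
    · exact WInv.false_of_inv h co hW hW' (X := X) (fun q hq hqX => q_mem wp sh hl hs' hq hqX) hor
        (f.mem_T h hsS hst) hsT.2 hiz h1 h2
    · subst hn0
      have hx2 : x ^ (2 : ℤ) = zz K := by rw [← hzc]; norm_num
      have hx'2 : x' ^ (2 : ℤ) = zz L := by rw [← htc]; norm_num
      have hMf : ∀ g, g ∈ M ↔ g = 1 ∨ g = zz K ∨ g = zz L ∨ g = zz K * zz L := by
        intro g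
        constructor
        · intro hg'
          rw [hM] at hg'
          obtain ⟨⟨a, b, rfl⟩, hgT⟩ := hg'
          obtain ⟨⟨a', ha'⟩, ⟨b', hb'⟩⟩ := hev a b hgT.2
          refine invol_form sh ⟨a, b, rfl⟩ ?_ hzc htc hzz htt
          rw [sh.mul_form, ha', hb']
          have e1 : x ^ (a' + a' + (a' + a')) = 1 := by
            rw [sh.zpow_one_iff]; exact ⟨a', by ring⟩
          have e2 : x' ^ (b' + b' + (b' + b')) = 1 := by
            rw [sh.zpow_one_iff']; exact ⟨b', by ring⟩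
          rw [e1, e2, one_mul]
        · rw [hM]
          have m1 : zz K ∈ sh.AA ⊓ (S ⊓ X) := ⟨⟨2, 0, by rw [hx2, zpow_zero, mul_one]⟩, wp.z_mem, hz⟩
          have m2 : zz L ∈ sh.AA ⊓ (S ⊓ X) := ⟨⟨0, 2, by rw [hx'2, zpow_zero, one_mul]⟩, wp.t_mem, ht⟩
          rintro (rfl | rfl | rfl | rfl)
          · exact one_mem _
          · exact m1
          · exact m2
          · exact mul_mem m1 m2
      have hM4 : Nat.card M = 4 := by
        classical
        have h3 : (M : Set G) = (({1, zz K, zz L, zz K * zz L} : Finset G) : Set G) := by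
          ext g
          rw [SetLike.mem_coe, hMf]
          simp
        have h4 : Nat.card M = (M : Set G).ncard := rfl
        rw [h4, h3, Set.ncard_coe_finset, Finset.card_insert_of_notMem, Finset.card_insert_of_notMem,
          Finset.card_insert_of_notMem, Finset.card_singleton]
        · rw [Finset.mem_singleton]
          intro h5
          exact hz1 (right_eq_mul.1 h5)
        · rw [Finset.mem_insert, Finset.mem_singleton]
          rintro (h5 | h5)
          · exact hzt1 h5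
          · exact ht1 (left_eq_mul.1 h5)
        · rw [Finset.mem_insert, Finset.mem_insert, Finset.mem_singleton]
          rintro (h5 | h5 | h5)
          · exact hz1 h5.symm
          · exact ht1 h5.symm
          · apply hzt1
            have h6 := h5.symm
            rw [← htt] at h6
            exact mul_right_cancel h6
      have hMsq : ∀ a ∈ M, a * a = 1 := by
        intro a ha
        rcases (hMf a).1 ha with rfl | rfl | rfl | rfl
        · exact one_mul 1
        · exact hzz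
        · exact htt
        · calc zz K * zz L * (zz K * zz L) = zz K * (zz L * zz K) * zz L := by group
            _ = (zz K * zz K) * (zz L * zz L) := by rw [← hzt]; group
            _ = 1 := by rw [hzz, htt, one_mul]
      have hMA : ∀ a ∈ M, a ∈ sh.AA := fun a ha => by rw [hM] at ha; exact ha.1
      have hMT : M ≤ S ⊓ X := by rw [hM]; exact inf_le_right
      have hMs : ∀ a ∈ M, s * a = a * s := by
        intro a ha
        rw [hsA a (hMA a ha), inv_eq_of_mul_eq_one_right (hMsq a ha)]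
      have hcov2 : ∀ g ∈ S ⊓ X, g ∈ M ∨ ∃ a ∈ M, g = a * s := by
        intro g hg'
        rcases hcovM g hg' with h3 | h3
        · exact Or.inl h3
        · exact Or.inr ⟨g * s, h3, by rw [mul_assoc, hss, mul_one]⟩
      refine AbSyl.L1 (X := X) (S := S) (E := M) hX hS ?_ hMT hM4 s hsT hsM ?_ ?_ ?_
      · intro a ha b hb
        rcases hcov2 a ha with ha' | ⟨a', ha', rfl⟩ <;> rcases hcov2 b hb with hb' | ⟨b', hb', rfl⟩
        · exact sh.AA_comm a (hMA a ha') b (hMA b hb')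
        · have e1 := sh.AA_comm a (hMA a ha') b' (hMA b' hb')
          calc a * (b' * s) = (a * b') * s := by group
            _ = b' * (a * s) := by rw [e1]; group
            _ = b' * s * a := by rw [← hMs a ha']; group
        · have e1 := sh.AA_comm a' (hMA a' ha') b (hMA b hb')
          calc a' * s * b = a' * (s * b) := by group
            _ = (a' * b) * s := by rw [hMs b hb']; group
            _ = b * (a' * s) := by rw [e1]; group
        · have e1 := sh.AA_comm a' (hMA a' ha') b' (hMA b' hb')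
          calc a' * s * (b' * s) = a' * (s * b') * s := by group
            _ = (a' * b') * (s * s) := by rw [hMs b' hb']; group
            _ = b' * (a' * s) * s := by rw [e1]; group
            _ = b' * (s * a') * s := by rw [hMs a' ha']
            _ = b' * s * (a' * s) := by group
      · intro g hg'
        rcases hcov2 g hg' with h3 | ⟨a, ha, rfl⟩
        · exact Or.inl h3
        · right
          have : s * (a * s) = a := by
            calc s * (a * s) = (s * a) * s := by group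
              _ = a * (s * s) := by rw [hMs a ha]; group
              _ = a := by rw [hss, mul_one]
          rw [this]; exact ha
      · intro g hg'
        rcases hcov2 g hg' with h3 | ⟨a, ha, rfl⟩
        · exact hMsq g h3
        · calc a * s * (a * s) = a * (s * a) * s := by group
            _ = (a * a) * (s * s) := by rw [hMs a ha]; group
            _ = 1 := by rw [hMsq a ha, hss, one_mul]
      · intro e he
        obtain ⟨⟨a, b, hab⟩, heT⟩ : e ∈ sh.AA ⊓ (S ⊓ X) := by rw [← hM]; exact he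
        obtain ⟨⟨a', ha'⟩, ⟨b', hb'⟩⟩ := hev a b (by rw [← hab]; exact heT.2)
        have hyA : x ^ a' * x' ^ b' ∈ sh.AA := ⟨a', b', rfl⟩
        refine ⟨x ^ a' * x' ^ b', sh.mem a' b', fun u hu => sh.AA_comm _ hyA u (hMA u hu), ?_⟩
        have e1 : (x ^ a' * x' ^ b') * (x ^ a' * x' ^ b') = e := by
          rw [sh.mul_form, hab, ha', hb']
        have e2 := hsA _ (sh.AA.inv_mem hyA)
        rw [inv_inv] at e2
        calc x ^ a' * x' ^ b' * s * (x ^ a' * x' ^ b')⁻¹
            = (x ^ a' * x' ^ b') * (s * (x ^ a' * x' ^ b')⁻¹) := by group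
          _ = (x ^ a' * x' ^ b') * (x ^ a' * x' ^ b') * s := by rw [e2]; group
          _ = s * e := by rw [e1, hMs e he]
  -- the case of a cover by `A`
  have hCA : CovAb (S ⊓ X) x x' → (∀ i j : ℤ, x ^ i * x' ^ j ∈ X → Even i ∧ Even j) → False := by
    intro hA hev
    refine AbSyl.L2 (X := X) (Y := sh.AA) (S := S) hX hS sh.AA_le sh.AA_comm hA (n + 1) ?_ ?_ (e := zz K)
      ⟨(2 : ℤ) ^ (n + 1), 0, by rw [hzc, zpow_zero, mul_one]⟩ hz hz1 hzz
    · rintro _ ⟨i, j, rfl⟩ hij
      obtain ⟨⟨i', hi'⟩, ⟨j', hj'⟩⟩ := hev i j hij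
      rw [(sh.commz i j).mul_pow, ← zpow_natCast, ← zpow_natCast, ← zpow_mul, ← zpow_mul,
        (sh.zpow_one_iff _).2 ⟨i', by rw [hi']; push_cast; ring⟩,
        (sh.zpow_one_iff' _).2 ⟨j', by rw [hj']; push_cast; ring⟩, one_mul]
    · intro e he hee
      have key : ∀ a b : ℤ, (x ^ a * x' ^ b) ^ 2 ^ (n + 1) = zz K ^ a * zz L ^ b := by
        intro a b
        rw [(sh.commz a b).mul_pow, ← zpow_natCast, ← zpow_natCast, ← zpow_mul, ← zpow_mul,
          mul_comm a, mul_comm b, zpow_mul, zpow_mul]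
        push_cast
        rw [hzc, htc]
      rcases invol_form sh he hee hzc htc hzz htt with h3 | h3 | h3 | h3
      · exact ⟨1, one_mem _, by rw [one_pow, h3]⟩
      · exact ⟨x ^ (1 : ℤ) * x' ^ (0 : ℤ), ⟨1, 0, rfl⟩, by rw [key, zpow_one, zpow_zero, mul_one, h3]⟩
      · exact ⟨x ^ (0 : ℤ) * x' ^ (1 : ℤ), ⟨0, 1, rfl⟩, by rw [key, zpow_one, zpow_zero, one_mul, h3]⟩
      · exact ⟨x ^ (1 : ℤ) * x' ^ (1 : ℤ), ⟨1, 1, rfl⟩, by rw [key, zpow_one, zpow_one, h3]⟩
  rcases sh.dich (X := X) hl2o wp.gq.conj hvc' wp.gq'.conj hf2 with ⟨hxX, hx'X⟩ | hev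
  · rcases sh.case_le hD hxX hx'X with h1 | ⟨g, r, s, h1⟩ | h1 | ⟨s, h1⟩
    · exact Or.inl h1
    · exact Or.inr (Or.inl ⟨_, _, _, _, h1⟩)
    · right; right
      exact ⟨n + 2, by omega, x, ⟨sh.cS, hxX⟩, x', ⟨sh.c'S, hx'X⟩, sh.comm, sh.ord, sh.ord',
        fun i j => sh.ind, h1⟩
    · exact (hCI s h1 (Or.inl (X.pow_mem hxX _))).elim
  · rcases sh.case_ev hD hev with h1 | ⟨s, h1⟩
    · exact (hCA h1 hev).elim
    · refine (hCI s h1 ?_).elim
      rcases Nat.eq_zero_or_pos n with hn0 | hn0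
      · exact Or.inr ⟨hn0, hev⟩
      · left
        -- `c² = [s, c]⁻¹ ∈ X`
        obtain ⟨hsT, h2, -, -, -⟩ := h1
        have h3 : x ^ 2 ∈ X := by
          have h4 := X.mul_mem (hn.conj_mem _ hsT.2 x) (X.inv_mem hsT.2)
          have h5 : x * s * x⁻¹ * s⁻¹ = x ^ 2 := by
            have h6 : s * x⁻¹ = x * s := by
              rw [← inv_mul_eq_iff_eq_mul, ← mul_assoc, ← h2, mul_inv_cancel_right]
            calc x * s * x⁻¹ * s⁻¹ = x * (s * x⁻¹) * s⁻¹ := by group
              _ = x ^ 2 := by rw [h6, pow_two]; group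
          rwa [h5] at h4
        obtain ⟨m, rfl⟩ : ∃ m, n = m + 1 := ⟨n - 1, by omega⟩
        rw [pow_succ', pow_mul]
        exact X.pow_mem h3 _

/-! ### Transport -/

theorem out_map {G' : Type*} [Group G'] (φ : G →* G') (hφ : Function.Injective φ) {T : Subgroup G}
    (hT : Out T) : Out (T.map φ) := by
  rcases hT with h | ⟨m, v, r, s, h⟩ | ⟨m, hm, a, ha, b, hb, h1, h2, h3, h4, h5⟩
  · left
    obtain ⟨n, hn, hc, x, y, z, hx, hxy, hd, hz, hzx⟩ := h
    let e := T.equivMapOfInjective φ hφ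
    have hi := e.injective
    refine ⟨n, hn, ?_, e x, e y, e z, ?_, ?_, ?_, ?_, ?_⟩
    · rw [← hc]; exact (Nat.card_congr e.toEquiv).symm
    · rw [MulEquiv.orderOf_eq, hx]
    · rw [← map_mul, hxy, map_mul]
    · have e1 : zpowers (e x) = (zpowers x).map e.toMonoidHom := by
        rw [MonoidHom.map_zpowers]; rfl
      have e2 : zpowers (e y) = (zpowers y).map e.toMonoidHom := by
        rw [MonoidHom.map_zpowers]; rfl
      rw [e1, e2, ← Subgroup.map_inf _ _ _ hi, hd, Subgroup.map_bot]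
    · rw [MulEquiv.orderOf_eq, hz]
    · rw [← map_inv, ← map_mul, ← map_mul, hzx]
  · right; left
    refine ⟨m, fun i j => φ (v i j), φ r, φ s, h.hm, fun i j => mem_map_of_mem φ (h.v_mem i j),
      mem_map_of_mem φ h.r_mem, mem_map_of_mem φ h.s_mem, ?_, ?_, ?_, ?_, ?_, ?_, ?_, ?_, ?_⟩
    · show φ (v 0 0) = 1
      rw [h.v_zero, map_one]
    · intro i j k l
      show φ (v i j) * φ (v k l) = _
      rw [← map_mul, h.v_mul]
    · intro i j hij
      exact h.v_inj i j (hφ (by rw [map_one]; exact hij))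
    · intro i j
      show φ r * φ (v i j) = φ (v j i) * φ r
      rw [← map_mul, ← map_mul, h.r_v]
    · intro i j
      show φ s * φ (v i j) = φ (v (-i) (-j)) * φ s
      rw [← map_mul, ← map_mul, h.s_v]
    · rw [← map_mul, h.r_r, map_one]
    · rw [← map_mul, h.s_s, map_one]
    · rw [← map_mul, ← map_mul, h.r_s]
    · rintro _ ⟨x, hx, rfl⟩
      obtain ⟨i, j, hij⟩ := h.cases x hx
      refine ⟨i, j, ?_⟩
      rcases hij with h1 | h1 | h1 | h1
      · left; rw [h1]
      · right; left; rw [h1, map_mul]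
      · right; right; left; rw [h1, map_mul]
      · right; right; right; rw [h1, map_mul, map_mul]
  · right; right
    refine ⟨m, hm, φ a, mem_map_of_mem φ ha, φ b, mem_map_of_mem φ hb, ?_, ?_, ?_, ?_, ?_⟩
    · rw [← map_mul, h1, map_mul]
    · rw [orderOf_injective φ hφ, h2]
    · rw [orderOf_injective φ hφ, h3]
    · intro i j hij
      apply h4
      apply hφ
      rw [map_mul, map_zpow, map_zpow, map_one]; exact hij
    · rintro _ ⟨x, hx, rfl⟩
      obtain ⟨i, j, hij⟩ := h5 x hx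
      exact ⟨i, j, by rw [hij, map_mul, map_zpow, map_zpow]⟩

/-- the case without field automorphisms -/
theorem main_top (h : One Om) (hf : Ker.Field Om) (hF : FOne Om) (hW : HW Om)
    {X : Subgroup G} (hn : X.Normal) (hX : ⁅X, X⁆ = X) (hZ : ∀ K ∈ Om, zz K ∈ X) :
    ∃ T : Subgroup G, Syl T X ∧ Out T := by
  obtain ⟨K, hK, L, hL, hne, hc, u, huK, huu, hut⟩ := hW
  have hu2 : IsPGroup 2 (zpowers u) := by
    apply IsPGroup.of_card (n := 2)
    rw [Nat.card_zpowers]
    exact GQ.orderOf_of_sq huu (h.hyp.zz_mul hK) (h.hyp.zz_ne hK)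
  obtain ⟨T, Q, Q', S1, hAT, f⟩ := exists_fr h hK hL hne hc hu2
    (zpowers_le.2 (le_normalizer huK)) (zpowers_le.2 (h.mem_normalizer hL hut))
  obtain ⟨x, y, x', y', n, c⟩ := f.pair.exists_co h
  have huT : u ∈ T := hAT (mem_zpowers u)
  have huQ : u ∈ Q := by
    have h1 : Q = K ⊓ S1 := syl_eq_of_le f.pair.hQ (f.hS.2.1.to_le inf_le_right) inf_le_left (le_inf f.pair.hQ.1 f.QS)
    rw [h1]; exact ⟨huK, f.TS huT⟩
  obtain ⟨hW', hW⟩ : zz K * x' = x' * zz K ∧ zz L * x = x * zz L := by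
    rcases c.dich h with h1 | ⟨h1, -⟩
    · exact h1
    · exfalso
      rcases h1 u huQ hut with h2 | h2
      · rw [h2, one_mul] at huu
        exact h.hyp.zz_ne hK huu.symm
      · rw [h2, h.hyp.zz_mul hK] at huu
        exact h.hyp.zz_ne hK huu.symm
  have hwp := f.wp h c hW (f.idx h c hW hW' (hf K hK S1 Q f.hS f.pair.hQ f.QS x y n c.gq))
    (hF.pair K L T Q Q' f.pair)
  have hT : Syl (S1 ⊓ X) X := AbSyl.syl_inf_normal (Fr.syl_top h hK f.hS)
  exact ⟨_, hT, core h f c hW hW' hwp hX (hZ K hK) (hZ L hL)⟩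

/-- **THEOREM W** -/
theorem main (h : One Om) (hF : FOne Om) (hW : HW Om) {X : Subgroup G} (hn : X.Normal) (hX : ⁅X, X⁆ = X) (hZ : ∀ K ∈ Om, zz K ∈ X) :
    ∃ T : Subgroup G, Syl T X ∧ Out T := by
  obtain ⟨N, hN, ⟨k, hk⟩, hKN, hfN⟩ := exists_ker h
  have hXN : X ≤ N := by
    rw [← relIndex_eq_one]
    have h1 : N.relIndex X ∣ N.index := relIndex_dvd_index_of_normal N X
    rw [hk, Nat.dvd_prime_pow Nat.prime_two] at h1
    obtain ⟨j, -, hj⟩ := h1
    have h2 := OneFieldPsi.index_eq_one (perfect_index hX) (N.subgroupOf X) (hN.comap X.subtype) j hj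
    rw [hj, h2, pow_zero]
  have hX' : ⁅X.subgroupOf N, X.subgroupOf N⁆ = X.subgroupOf N := by
    apply Subgroup.map_injective N.subtype_injective
    rw [map_commutator, map_subgroupOf_eq_of_le hXN, hX]
  obtain ⟨T, hT, hO⟩ := main_top (one_restr h N) (field_restr h hfN)
    (fOne_restr h hF N) (hW_restr h hKN hW) (X := X.subgroupOf N) (hn.comap N.subtype) hX' (by
      intro K hK
      rw [mem_subgroupOf, zz_map h.hyp hK]
      exact hZ _ hK)
  refine ⟨T.map N.subtype, ?_, out_map N.subtype N.subtype_injective hO⟩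
  have h1 := syl_map.2 hT
  rwa [map_subgroupOf_eq_of_le hXN] at h1

end Cfsg.Agent.Cit.Nil.WWorld
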